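import Cfsg.Agent.Lib.Fusion.FFPair.Global
import Cfsg.Agent.Lib.Fusion.SylowCenterModule
import Cfsg.Agent.Lib.Fusion.PrimeCoreQuotient
import Cfsg.Agent.Lib.Fusion.StableFree
import Cfsg.Agent.Lib.PGroup.PSolvable
import Cfsg.Agent.Lib.Block.PSolvableOne
import Cfsg.Agent.Lib.PGroup.ElementaryBasic
import Mathlib.GroupTheory.SemidirectProduct

/-!
# Failure of factorization pairs from modules of `p`-solvable groups
-/

set_option autoImplicit false
set_option linter.style.haveILetI false
set_option linter.unusedSectionVars false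

open Subgroup
open scoped commutatorElement

namespace CfsgLib.FFPair

universe u v

/-- Hall–Higman: in a `p`-solvable group without normal `p`-subgroups the `p'`-core contains its
centralizer. -/
theorem centralizer_pPrimeCore_le_of_isPSolvable {H : Type u} [Group H] [Finite H] {p : ℕ}
    [hp : Fact p.Prime] (hsep : Cfsg.IsPSolvable p H) (hO : Cfsg.pCore p H = ⊥) :
    centralizer (Cfsg.pPrimeCore p H : Set H) ≤ Cfsg.pPrimeCore p H := by
  haveI : (Cfsg.pPrimeCore p H).Normal := inferInstance
  set K := Cfsg.pPrimeCore p H with hK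
  set C := centralizer (K : Set H) with hC
  haveI : C.Normal := normal_centralizer
  set Z := Cfsg.pPrimeCore p C with hZ
  have hZe : Z.map C.subtype = K ⊓ C :=
    CfsgLib.Coprime.pPrimeCore_map_subtype_eq hp.out C
  have hZc : ∀ z ∈ Z, ∀ c : C, z * c = c * z := fun z hz c => Subtype.ext
    (mem_centralizer_iff.1 c.2 (z : H) (hZe.le (mem_map_of_mem C.subtype hz)).1)
  suffices hZt : Z = ⊤ by
    intro c hc
    exact (hZe.le ⟨⟨c, hc⟩, hZt ▸ mem_top _, rfl⟩).1
  by_contra hne
  haveI : Z.Normal := inferInstance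
  haveI : Nontrivial (C ⧸ Z) := QuotientGroup.nontrivial_iff.2 hne
  have hq : Cfsg.pPrimeCore p (C ⧸ Z) = ⊥ := CfsgLib.Coprime.pPrimeCore_quotient_eq_bot hp.out
  have h1 := (CfsgLib.PGroup.pCore_ne_bot_or_pPrimeCore_ne_bot
    (CfsgLib.PGroup.isPSolvable_quotient hp.out
      (CfsgLib.Fusion.isPSolvable_of_injective C.subtype C.subtype_injective hsep) Z)).resolve_right
    (fun h => h hq)
  set D := (Cfsg.pCore p (C ⧸ Z)).comap (QuotientGroup.mk' Z) with hD
  haveI : (Cfsg.pCore p (C ⧸ Z)).Normal := CfsgLib.Coprime.pCore_normal' p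
  haveI : D.Normal := Normal.comap inferInstance _
  have hZD : Z ≤ D := fun z hz => by
    rw [hD, mem_comap, QuotientGroup.mk'_apply, (QuotientGroup.eq_one_iff z).2 hz]
    exact one_mem _
  obtain ⟨k, hk⟩ := (CfsgLib.Coprime.pCore_isPGroup (G := C ⧸ Z) p).exists_card_eq
  have hk0 : k ≠ 0 := fun h => h1 (card_eq_one.1 (by rw [hk, h, pow_zero]))
  have hDmap : D.map (QuotientGroup.mk' Z) = Cfsg.pCore p (C ⧸ Z) :=
    map_comap_eq_self_of_surjective (QuotientGroup.mk'_surjective Z) _
  have hcard : Nat.card D = Nat.card Z * p ^ k := by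
    rw [CfsgLib.Coprime.card_eq_card_mul_card_map_mk' Z hZD, hDmap, hk]
  set P : Sylow p D := default
  have hPn : (P : Subgroup D).Normal := by
    rw [← normalizer_eq_top_iff]
    refine top_le_iff.1 ?_
    have hsup : (P : Subgroup D) ⊔ Z.subgroupOf D = ⊤ := by
      refine eq_top_of_le_card _ (Nat.le_of_dvd Nat.card_pos ?_)
      rw [hcard]
      refine Nat.Coprime.mul_dvd_of_dvd_of_dvd ?_ ?_ ?_
      · exact ((hp.out.coprime_iff_not_dvd.2 (CfsgLib.Coprime.pPrimeCore_not_dvd hp.out)).symm).pow_right k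
      · exact (Nat.card_congr (subgroupOfEquivOfLe hZD).toEquiv).symm.dvd.trans
          (card_dvd_of_le le_sup_right)
      · exact (P.pow_dvd_card_of_pow_dvd_card (hcard ▸ dvd_mul_left _ _)).trans
          (card_dvd_of_le le_sup_left)
    rw [← hsup]
    refine sup_le le_normalizer ((fun z hz => ?_) : Z.subgroupOf D ≤ _)
    refine centralizer_le_normalizer _ (mem_centralizer_iff.2 fun y _ => Subtype.ext ?_)
    exact (hZc (z : C) hz y).symm
  haveI := Sylow.characteristic_of_normal P hPn
  haveI := CfsgLib.Coprime.map_subtype_normal_of_characteristic D (P : Subgroup D)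
  have hP1 : (P : Subgroup D).map D.subtype ≤ Cfsg.pCore p C :=
    CfsgLib.Coprime.le_pCore (P.2.map _)
  have h2 : (Cfsg.pCore p C).map C.subtype = ⊥ := by
    rw [CfsgLib.Coprime.pCore_map_subtype_eq, hO, bot_inf_eq]
  rw [(Subgroup.map_eq_bot_iff_of_injective _ C.subtype_injective).1 h2, le_bot_iff,
    Subgroup.map_eq_bot_iff_of_injective _ D.subtype_injective] at hP1
  exact P.ne_bot_of_dvd_card (hcard ▸ (dvd_pow_self p hk0).trans (dvd_mul_left _ _)) hP1

variable {G : Type u} [Group G] [Finite G] {p : ℕ} [Fact p.Prime]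

/-- A faithful `p`-solvable group without normal `p`-subgroups gives the data. -/
theorem Ctx.of_isPSolvable {V H : Subgroup G} (hV : Cfsg.IsElementaryAbelian p V)
    (hHV : H ≤ normalizer (V : Set G)) (hf : H ⊓ centralizer (V : Set G) = ⊥)
    (hsep : Cfsg.IsPSolvable p H) (hO : Cfsg.pCore p H = ⊥) :
    Ctx p V H ((Cfsg.pPrimeCore p H).map H.subtype) :=
  .of_pPrimeCore hV hHV hf (centralizer_pPrimeCore_le_of_isPSolvable hsep hO)

theorem pCore_eq_bot_of_normal_le {R H : Subgroup G} (hHR : H ≤ R)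
    (hn : R ≤ normalizer (H : Set G)) (hO : Cfsg.pCore p R = ⊥) : Cfsg.pCore p H = ⊥ := by
  haveI : (H.subgroupOf R).Normal := (normal_subgroupOf_iff_le_normalizer hHR).2 hn
  have h : (Cfsg.pCore p ↥(H.subgroupOf R)).map (H.subgroupOf R).subtype = ⊥ := by
    rw [CfsgLib.Coprime.pCore_map_subtype_eq, hO, bot_inf_eq]
  rw [← CfsgLib.Coprime.map_pCore_equiv (subgroupOfEquivOfLe hHR) p,
    (Subgroup.map_eq_bot_iff_of_injective _ (H.subgroupOf R).subtype_injective).1 h, Subgroup.map_bot]

theorem pCore_eq_bot_of_surjective {M : Type v} [Group M] {H : Type u} [Group H] (f : M →* H)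
    (hf : Function.Surjective f) (N : Subgroup M) [N.Normal] (hN : f.ker = N)
    (hO : Cfsg.pCore p (M ⧸ N) = ⊥) : Cfsg.pCore p H = ⊥ := by
  rw [← CfsgLib.Coprime.map_pCore_equiv ((QuotientGroup.quotientMulEquivOfEq hN.symm).trans
    (QuotientGroup.quotientKerEquivOfSurjective f hf)) p, hO, Subgroup.map_bot]

theorem card_map_mul {M : Type u} [Group M] {H : Type v} [Group H] (f : M →* H) (A : Subgroup M) :
    Nat.card (A.map f) * Nat.card (A ⊓ f.ker : Subgroup M) = Nat.card A := by
  have h := relIndex_mul_relIndex (⊥ : Subgroup M) (A ⊓ f.ker) A bot_le inf_le_left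
  rwa [relIndex_bot_left, relIndex_bot_left, inf_relIndex_left, mul_comm, relIndex_ker] at h

/-! ### The semidirect product with the automorphism group -/

/-- `V` extended by its automorphism group. -/
abbrev Hol (V : Type u) [Group V] : Type u := V ⋊[MonoidHom.id (MulAut V)] MulAut V

instance finite_hol {V : Type u} [Group V] [Finite V] : Finite (Hol V) :=
  Finite.of_equiv _ SemidirectProduct.equivProd.symm

/-- The copy of `V`. -/
abbrev holV (V : Type u) [Group V] : Subgroup (Hol V) :=
  (SemidirectProduct.inl : V →* Hol V).range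

variable {V : Type u} [Group V] {M : Type v} [Group M]

/-- The map into the extension given by an action. -/
abbrev emb (act : M →* MulAut V) : M →* Hol V := SemidirectProduct.inr.comp act

theorem emb_conj (act : M →* MulAut V) (m : M) (v : V) :
    emb act m * SemidirectProduct.inl v * (emb act m)⁻¹ = SemidirectProduct.inl (act m v) := by
  rw [← map_inv]
  show SemidirectProduct.inr (act m) * SemidirectProduct.inl v * SemidirectProduct.inr (act m⁻¹) = _
  rw [map_inv act]
  exact (SemidirectProduct.inl_aut (act m) v).symm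

theorem inr_conj (σ : MulAut V) (v : V) :
    (SemidirectProduct.inr σ : Hol V) * SemidirectProduct.inl v * (SemidirectProduct.inr σ)⁻¹ =
      SemidirectProduct.inl (σ v) := by
  rw [← map_inv]
  exact (SemidirectProduct.inl_aut σ v).symm

theorem holV_normal : (holV V).Normal := by
  show (SemidirectProduct.inl : V →* Hol V).range.Normal
  rw [SemidirectProduct.range_inl_eq_ker_rightHom]
  infer_instance

theorem le_normalizer_holV (H : Subgroup (Hol V)) : H ≤ normalizer (holV V : Set (Hol V)) := by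
  haveI := holV_normal (V := V)
  rw [normalizer_eq_top]
  exact le_top

theorem emb_ker (act : M →* MulAut V) : (emb act).ker = act.ker :=
  MonoidHom.ker_comp_of_injective _ _ SemidirectProduct.inr_injective

theorem mem_holV_centralizer (act : M →* MulAut V) {m : M}
    (h : emb act m ∈ centralizer (holV V : Set (Hol V))) : act m = 1 := by
  refine MulEquiv.ext fun v => SemidirectProduct.inl_injective (φ := MonoidHom.id (MulAut V)) ?_
  rw [← emb_conj, ← mem_centralizer_iff.1 h _ ⟨v, rfl⟩, mul_inv_cancel_right]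
  rfl

theorem holV_inf_centralizer (act : M →* MulAut V) (B : Subgroup M) (U : Subgroup V)
    (hU : ∀ v, v ∈ U ↔ ∀ b ∈ B, act b v = v) :
    holV V ⊓ centralizer (B.map (emb act) : Set (Hol V)) = U.map SemidirectProduct.inl := by
  ext x
  constructor
  · rintro ⟨⟨v, rfl⟩, hv⟩
    refine mem_map_of_mem _ ((hU v).2 fun b hb => ?_)
    apply SemidirectProduct.inl_injective (φ := MonoidHom.id (MulAut V))
    rw [← emb_conj, mem_centralizer_iff.1 hv _ ⟨b, hb, rfl⟩, mul_inv_cancel_right]
  · rintro ⟨v, hv, rfl⟩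
    refine ⟨⟨v, rfl⟩, mem_centralizer_iff.2 ?_⟩
    rintro _ ⟨b, hb, rfl⟩
    conv_rhs => rw [← (hU v).1 hv b hb, ← emb_conj]
    rw [inv_mul_cancel_right]

/-! ### Normal elementary abelian subgroups -/

theorem ker_conjNormal (V : Subgroup G) [V.Normal] :
    (MulAut.conjNormal : G →* MulAut V).ker = centralizer (V : Set G) := by
  ext g
  rw [MonoidHom.mem_ker, MulEquiv.ext_iff, mem_centralizer_iff]
  constructor
  · intro h v hv
    have := congrArg Subtype.val (h ⟨v, hv⟩)
    rw [MulAut.conjNormal_apply] at this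
    exact (mul_inv_eq_iff_eq_mul.1 this).symm
  · rintro h ⟨v, hv⟩
    refine Subtype.ext ?_
    rw [MulAut.conjNormal_apply, ← h v hv, mul_inv_cancel_right]
    rfl

theorem isElementaryAbelian_holV {V : Subgroup G} (hV : Cfsg.IsElementaryAbelian p V) :
    Cfsg.IsElementaryAbelian p (holV ↥V) := by
  have h : Cfsg.IsElementaryAbelian p (⊤ : Subgroup ↥V) := by
    refine ⟨⟨⟨fun a b => Subtype.ext ?_⟩⟩, fun a _ => Subtype.ext ?_⟩
    · exact hV.1.is_comm.comm (a : V) (b : V)
    · simpa using hV.2 (a : G) a.2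
  have h2 := CfsgLib.Fusion.isElementaryAbelian_map
    (SemidirectProduct.inl : ↥V →* Hol ↥V) h
  rwa [← MonoidHom.range_eq_map] at h2

variable {V : Subgroup G} [V.Normal]

/-- The embedding for a normal subgroup. -/
abbrev nemb (V : Subgroup G) [V.Normal] : G →* Hol ↥V := emb MulAut.conjNormal

theorem nemb_ker : (nemb V).ker = centralizer (V : Set G) := by
  rw [nemb, emb_ker, ker_conjNormal]

theorem map_nemb_inf_centralizer (B : Subgroup G) :
    B.map (nemb V) ⊓ centralizer (holV ↥V : Set (Hol ↥V)) = ⊥ := by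
  rw [eq_bot_iff]
  rintro _ ⟨⟨b, -, rfl⟩, h⟩
  rw [mem_bot]
  show SemidirectProduct.inr (MulAut.conjNormal b) = 1
  rw [mem_holV_centralizer _ h, map_one]

theorem card_fixed (B : Subgroup G) :
    Nat.card ↥(holV ↥V ⊓ centralizer (B.map (nemb V) : Set (Hol ↥V))) =
      Nat.card ↥(V ⊓ centralizer (B : Set G)) := by
  rw [holV_inf_centralizer _ B ((centralizer (B : Set G)).subgroupOf V),
    card_map_of_injective SemidirectProduct.inl_injective]
  · rw [← card_map_of_injective (K := (centralizer (B : Set G)).subgroupOf V) V.subtype_injective,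
      subgroupOf_map_subtype, inf_comm]
  · intro v
    rw [mem_subgroupOf, mem_centralizer_iff]
    constructor
    · intro h b hb
      refine Subtype.ext ?_
      rw [MulAut.conjNormal_apply, h b hb, mul_inv_cancel_right]
    · intro h b hb
      have := congrArg Subtype.val (h b hb)
      rw [MulAut.conjNormal_apply] at this
      exact mul_inv_eq_iff_eq_mul.1 this

theorem ctx_nemb (hV : Cfsg.IsElementaryAbelian p V) (hsep : Cfsg.IsPSolvable p G)
    (hO : Cfsg.pCore p (G ⧸ centralizer (V : Set G)) = ⊥) (N : Subgroup G) [N.Normal] :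
    Ctx p (holV ↥V) (N.map (nemb V))
      ((Cfsg.pPrimeCore p ↥(N.map (nemb V))).map (N.map (nemb V)).subtype) := by
  have hR : Cfsg.pCore p ↥(nemb V).range = ⊥ :=
    pCore_eq_bot_of_surjective (nemb V).rangeRestrict (nemb V).rangeRestrict_surjective
      (centralizer (V : Set G)) (by rw [MonoidHom.ker_rangeRestrict, nemb_ker]) hO
  refine Ctx.of_isPSolvable (isElementaryAbelian_holV hV) (le_normalizer_holV _)
    (map_nemb_inf_centralizer N) ?_ (pCore_eq_bot_of_normal_le (map_le_range _ _) ?_ hR)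
  · exact CfsgLib.Fusion.isPSolvable_of_surjective ((nemb V).subgroupMap N)
      ((nemb V).subgroupMap_surjective N)
      (CfsgLib.Fusion.isPSolvable_of_injective N.subtype N.subtype_injective hsep)
  · rw [MonoidHom.range_eq_map]
    exact (map_mono (by rw [normalizer_eq_top])).trans (le_normalizer_map _)

/-- An elementary abelian subgroup of largest order contains its fixed points on `V`. -/
theorem fixed_le_maxEA (hV : Cfsg.IsElementaryAbelian p V) {A : Subgroup G}
    (hA : A ∈ Cfsg.maxElementaryAbelianSubgroups p G) : V ⊓ centralizer (A : Set G) ≤ A := by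
  have h : Cfsg.IsElementaryAbelian p (A ⊔ (V ⊓ centralizer (A : Set G)) : Subgroup G) :=
    CfsgLib.EABasic.isElementaryAbelian_sup hA.1 (ea_of_le hV inf_le_left)
      (fun a ha v hv => mem_centralizer_iff.1 hv.2 a ha)
  exact le_sup_right.trans (eq_of_le_of_card_ge le_sup_left (hA.2 _ h)).ge

theorem maxEA_offender (hV : Cfsg.IsElementaryAbelian p V) {A : Subgroup G}
    (hA : A ∈ Cfsg.maxElementaryAbelianSubgroups p G) :
    Cfsg.IsBestOffenderOn p (holV ↥V) (A.map (nemb V)) := by
  have hEA := CfsgLib.Fusion.isElementaryAbelian_map (nemb V) hA.1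
  refine ⟨fun B hB => ?_, commutator_le.2 fun a ha b hb => ?_,
    fun a ha => by rw [hEA.2 a ha]; exact one_mem _⟩
  swap
  · rw [commutatorElement_eq_one_iff_mul_comm.2
      (congrArg Subtype.val (hEA.1.is_comm.comm ⟨a, ha⟩ ⟨b, hb⟩))]
    exact one_mem _
  set B' := A ⊓ B.comap (nemb V) with hB'
  have hBm : B'.map (nemb V) = B := by
    refine le_antisymm (map_le_iff_le_comap.2 inf_le_right) fun x hx => ?_
    obtain ⟨a, ha, rfl⟩ := hB hx
    exact ⟨a, ⟨ha, hx⟩, rfl⟩
  have hker : B' ⊓ (nemb V).ker = A ⊓ (nemb V).ker := by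
    refine le_antisymm (inf_le_inf_right _ inf_le_left) ?_
    rintro a ⟨ha, hk⟩
    refine ⟨⟨ha, show nemb V a ∈ B from ?_⟩, hk⟩
    rw [MonoidHom.mem_ker.1 hk]
    exact one_mem _
  have hsum := hA.2 (B' ⊔ (V ⊓ centralizer (B' : Set G)))
    (CfsgLib.EABasic.isElementaryAbelian_sup (ea_of_le hA.1 inf_le_left) (ea_of_le hV inf_le_left)
      (fun a ha v hv => mem_centralizer_iff.1 hv.2 a ha))
  have hint : B' ⊓ (V ⊓ centralizer (B' : Set G)) ≤ V ⊓ centralizer (A : Set G) := fun x hx =>
    ⟨hx.2.1, mem_centralizer_iff.2 fun a ha =>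
      congrArg Subtype.val (hA.1.1.is_comm.comm ⟨a, ha⟩ ⟨x, hx.1.1⟩)⟩
  have hmain : Nat.card B' * Nat.card ↥(V ⊓ centralizer (B' : Set G)) ≤
      Nat.card A * Nat.card ↥(V ⊓ centralizer (A : Set G)) :=
    (CfsgLib.Fusion.card_mul_le_sup_inf _ _).trans (Nat.mul_le_mul hsum (card_le_of_le hint))
  rw [← hBm, card_fixed, card_fixed]
  refine Nat.le_of_mul_le_mul_right (c := Nat.card ↥(A ⊓ (nemb V).ker)) ?_ Nat.card_pos
  rw [mul_right_comm, mul_right_comm (Nat.card ↥(A.map (nemb V))), card_map_mul]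
  conv_lhs => rw [← hker, card_map_mul]
  exact hmain

/-- The largest elementary abelian subgroup obtained by replacing by `V`. -/
theorem maxEA_sup (hV : Cfsg.IsElementaryAbelian p V) (hsep : Cfsg.IsPSolvable p G)
    (hO : Cfsg.pCore p (G ⧸ centralizer (V : Set G)) = ⊥) {A : Subgroup G}
    (hA : A ∈ Cfsg.maxElementaryAbelianSubgroups p G) :
    V ⊔ (A ⊓ centralizer (V : Set G)) ∈ Cfsg.maxElementaryAbelianSubgroups p G := by
  have hE := CfsgLib.EABasic.isElementaryAbelian_sup hV
    (ea_of_le hA.1 (inf_le_left (b := centralizer (V : Set G))))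
    (fun v hv a ha => mem_centralizer_iff.1 ha.2 v hv)
  refine ⟨hE, fun B hB => (hA.2 B hB).trans ?_⟩
  have hs := (ctx_nemb hV hsep hO (⊤ : Subgroup G)).sharp_of_offender (map_mono le_top)
    (maxEA_offender hV hA)
  unfold Sharp at hs
  rw [card_fixed] at hs
  have hv : Nat.card (holV ↥V) = Nat.card V :=
    (Nat.card_congr (MonoidHom.ofInjective SemidirectProduct.inl_injective).toEquiv).symm
  rw [hv] at hs
  have h1 := card_map_mul (nemb V) A
  rw [nemb_ker] at h1
  have hint : V ⊓ (A ⊓ centralizer (V : Set G)) ≤ V ⊓ centralizer (A : Set G) := fun x hx =>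
    ⟨hx.1, mem_centralizer_iff.2 fun a ha =>
      congrArg Subtype.val (hA.1.1.is_comm.comm ⟨a, ha⟩ ⟨x, hx.2.1⟩)⟩
  have h2 := (CfsgLib.Fusion.card_mul_le_sup_inf V (A ⊓ centralizer (V : Set G))).trans
    (Nat.mul_le_mul le_rfl (card_le_of_le hint))
  refine Nat.le_of_mul_le_mul_right (c := Nat.card ↥(V ⊓ centralizer (A : Set G))) (le_trans (le_of_eq ?_) h2) Nat.card_pos
  rw [← h1, ← hs]
  ring

end CfsgLib.FFPair
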