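import Cfsg.Agent.Lib.Fusion.FFPair.Global
import Cfsg.Agent.Lib.Fusion.FFPair.Holomorph
import Cfsg.Agent.Lib.Coprime.Hyperplanes

/-!
# Failure of factorization pairs: abelian offenders are elementary

For `p = 2` an abelian `2`-subgroup `A` with `|A| |C_V(A)| = |V|` is elementary abelian.
-/

set_option autoImplicit false
set_option linter.style.haveILetI false
set_option linter.unusedSectionVars false

open Subgroup
open scoped commutatorElement

namespace CfsgLib.FFPair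

universe u

variable {G : Type u} [Group G] [Finite G]

/-- A `2`-element having the same fixed points as its square acts trivially. -/
theorem centralizes_of_fix_sq {W : Subgroup G} (hW : Cfsg.IsElementaryAbelian 2 W) {y : G}
    (hy : y ∈ normalizer (W : Set G)) {j : ℕ} (hj : y ^ 2 ^ j = 1)
    (h : ∀ w ∈ W, Commute (y ^ 2) w → Commute y w) : ∀ w ∈ W, Commute y w := by
  have hWc : ∀ a ∈ W, ∀ b ∈ W, a * b = b * a := fun a ha b hb =>
    congrArg Subtype.val (hW.1.is_comm.comm (⟨a, ha⟩ : W) ⟨b, hb⟩)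
  -- the hypothesis passes to the square
  have step : ∀ z : G, z ∈ normalizer (W : Set G) → (∀ w ∈ W, Commute (z ^ 2) w → Commute z w) →
      ∀ w ∈ W, Commute ((z ^ 2) ^ 2) w → Commute (z ^ 2) w := by
    intro z hz hzz w hw h4
    have hzc : ∀ v ∈ W, z * v * z⁻¹ ∈ W := fun v hv => (mem_normalizer_iff.1 hz v).1 hv
    have h2c : ∀ v ∈ W, z ^ 2 * v * (z ^ 2)⁻¹ ∈ W := fun v hv =>
      (mem_normalizer_iff.1 (pow_mem hz 2) v).1 hv
    set d := z ^ 2 * w * (z ^ 2)⁻¹ * w with hd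
    have hdW : d ∈ W := mul_mem (h2c w hw) hw
    have hdfix : Commute (z ^ 2) d := by
      refine mul_inv_eq_iff_eq_mul.1 ?_
      have e4 : (z ^ 2) ^ 2 * w * ((z ^ 2) ^ 2)⁻¹ = w := by rw [h4.eq, mul_inv_cancel_right]
      calc z ^ 2 * d * (z ^ 2)⁻¹
          = ((z ^ 2) ^ 2 * w * ((z ^ 2) ^ 2)⁻¹) * (z ^ 2 * w * (z ^ 2)⁻¹) := by rw [hd]; group
        _ = w * (z ^ 2 * w * (z ^ 2)⁻¹) := by rw [e4]
        _ = d := by rw [hd]; exact hWc _ hw _ (h2c w hw)
    -- `d` is fixed by `z`, hence so is `z w z⁻¹ w`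
    set d1 := z * w * z⁻¹ * w with hd1
    have hd1W : d1 ∈ W := mul_mem (hzc w hw) hw
    have hdz : z * d * z⁻¹ = d := by rw [(hzz d hdW hdfix).eq, mul_inv_cancel_right]
    have hfix1 : Commute (z ^ 2) d1 := by
      refine mul_inv_eq_iff_eq_mul.1 ?_
      set w1 := z * w * z⁻¹
      set w2 := z ^ 2 * w * (z ^ 2)⁻¹
      set w3 := z ^ 2 * w1 * (z ^ 2)⁻¹
      have e3 : z * d * z⁻¹ = w3 * w1 := by simp only [w3, w1, d]; group
      rw [hdz] at e3
      have hw1 : w1 ∈ W := hzc w hw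
      have hw3 : w3 ∈ W := h2c w1 hw1
      calc z ^ 2 * d1 * (z ^ 2)⁻¹ = w3 * w2 := by simp only [d1, w3, w2, w1]; group
        _ = (w3 * w1) * (w1 * (w2 * w) * w) := by
            rw [show (w3 * w1) * (w1 * (w2 * w) * w) = w3 * (w1 * w1) * w2 * (w * w) by group,
              ← pow_two w1, ← pow_two w, hW.2 w1 hw1, hW.2 w hw, mul_one, mul_one]
        _ = d * (w1 * d * w) := by rw [← e3]
        _ = (d * d) * (w1 * w) := by
            rw [hWc w1 hw1 d hdW]; group
        _ = d1 := by rw [← pow_two d, hW.2 d hdW, one_mul]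
    have h1 : z * d1 * z⁻¹ = d1 := by rw [(hzz d1 hd1W hfix1).eq, mul_inv_cancel_right]
    refine mul_inv_eq_iff_eq_mul.1 ?_
    have e5 : z * d1 * z⁻¹ = z ^ 2 * w * (z ^ 2)⁻¹ * (z * w * z⁻¹) := by
      simp only [hd1, pow_two]; group
    rw [h1, hd1] at e5
    calc z ^ 2 * w * (z ^ 2)⁻¹ =
        (z ^ 2 * w * (z ^ 2)⁻¹ * (z * w * z⁻¹)) * (z * w * z⁻¹)⁻¹ := by group
      _ = z * w * z⁻¹ * w * (z * w * z⁻¹)⁻¹ := by rw [← e5]
      _ = w := by rw [hWc _ (hzc w hw) w hw, mul_inv_cancel_right]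
  have main : ∀ i, ∀ z : G, z ∈ normalizer (W : Set G) → z ^ 2 ^ i = 1 →
      (∀ w ∈ W, Commute (z ^ 2) w → Commute z w) → ∀ w ∈ W, Commute z w := by
    intro i
    induction i with
    | zero =>
      intro z _ hz1 _ w _
      rw [pow_zero, pow_one] at hz1
      subst hz1
      exact Commute.one_left w
    | succ i ih =>
      intro z hz hz1 hzz w hw
      refine hzz w hw (ih (z ^ 2) (pow_mem hz 2) ?_ (step z hz hzz) w hw)
      rw [← pow_mul, ← pow_succ']
      exact hz1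
  exact main j y hy hj h

/-- Conjugation by `x ^ 2` is trivial on a four-group normalized by `x` with a fixed involution. -/
theorem sq_fix_of_card_four {U : Subgroup G} (hU : Nat.card U = 4)
    (hUe : Cfsg.IsElementaryAbelian 2 U) {x : G} (hx : x ∈ normalizer (U : Set G)) {u₀ : G}
    (hu₀ : u₀ ∈ U) (h1 : u₀ ≠ 1) (hfix : x * u₀ * x⁻¹ = u₀) : ∀ v ∈ U, Commute (x ^ 2) v := by
  intro v hv
  refine mul_inv_eq_iff_eq_mul.1 ?_
  have hc : ∀ a ∈ U, x * a * x⁻¹ ∈ U := fun a ha => (mem_normalizer_iff.1 hx a).1 ha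
  have e2 : x ^ 2 * v * (x ^ 2)⁻¹ = x * (x * v * x⁻¹) * x⁻¹ := by rw [pow_two]; group
  rw [e2]
  by_cases hv1 : v = 1
  · simp [hv1]
  by_cases hv0 : v = u₀
  · rw [hv0, hfix, hfix]
  classical
  haveI := Fintype.ofFinite U
  have hvu : v * u₀ ∈ U := mul_mem hv hu₀
  have hinv : ∀ a ∈ U, a * a = 1 := fun a ha => by rw [← pow_two]; exact hUe.2 a ha
  have hset : ({⟨1, one_mem U⟩, ⟨u₀, hu₀⟩, ⟨v, hv⟩, ⟨v * u₀, hvu⟩} : Finset U) = Finset.univ := by
    refine Finset.eq_univ_of_card _ ?_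
    rw [← Nat.card_eq_fintype_card, hU, Finset.card_insert_of_notMem, Finset.card_insert_of_notMem,
      Finset.card_insert_of_notMem, Finset.card_singleton]
    · simp [Subtype.ext_iff, h1]
    · simp only [Finset.mem_insert, Finset.mem_singleton, Subtype.ext_iff, not_or]
      exact ⟨Ne.symm hv0, fun e => hv1 (mul_eq_right.1 e.symm)⟩
    · simp only [Finset.mem_insert, Finset.mem_singleton, Subtype.ext_iff, not_or]
      refine ⟨Ne.symm h1, Ne.symm hv1, fun e => hv0 ?_⟩
      calc v = v * (u₀ * u₀) := by rw [hinv u₀ hu₀, mul_one]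
        _ = u₀ := by rw [← mul_assoc, ← e, one_mul]
  have hmem := hset.ge (Finset.mem_univ (⟨x * v * x⁻¹, hc v hv⟩ : U))
  simp only [Finset.mem_insert, Finset.mem_singleton, Subtype.ext_iff] at hmem
  rcases hmem with e | e | e | e
  · exact absurd (by simpa [mul_inv_eq_one] using e) hv1
  · rw [← hfix] at e
    exact absurd (mul_left_cancel (mul_right_cancel e)) hv0
  · rw [e, e]
  · rw [e, show x * (v * u₀) * x⁻¹ = (x * v * x⁻¹) * (x * u₀ * x⁻¹) by group, e, hfix, mul_assoc,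
      hinv u₀ hu₀, mul_one]

namespace Ctx

variable {p : ℕ} [Fact p.Prime] {V H K A : Subgroup G} (X : Ctx p V H K)
include X

/-- Fixed points on `V` grow when those on `K` do. -/
theorem fixed_ne (hAH : A ≤ H) (hAp : IsPGroup p A) (hab : ∀ x ∈ A, ∀ y ∈ A, x * y = y * x)
    {E : Subgroup G} (hE : E ≤ A)
    (hEm : ¬ K ⊓ centralizer (E : Set G) ≤ centralizer (A : Set G)) :
    V ⊓ centralizer (A : Set G) ≠ V ⊓ centralizer (E : Set G) := by
  intro heq
  obtain ⟨k, ⟨hkK, hkE⟩, hkA⟩ := SetLike.not_le_iff_exists.1 hEm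
  rw [mem_centralizer_iff] at hkA
  push Not at hkA
  obtain ⟨a, ha, hka⟩ := hkA
  set z := k * a * k⁻¹ * a⁻¹ with hz
  have hzK : z ∈ K := by
    rw [hz, show k * a * k⁻¹ * a⁻¹ = k * (a * k⁻¹ * a⁻¹) by group]
    exact mul_mem hkK ((mem_normalizer_iff.1 (X.HK (hAH ha)) _).1 (inv_mem hkK))
  have haE : a ∈ centralizer (E : Set G) :=
    mem_centralizer_iff.2 fun e he => hab e (hE he) a ha
  have hzE : z ∈ centralizer (E : Set G) :=
    mul_mem (mul_mem (mul_mem hkE haE) (inv_mem hkE)) (inv_mem haE)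
  set U := V ⊓ centralizer (E : Set G) with hU
  have hUa : a ∈ centralizer (U : Set G) := mem_centralizer_iff.2 fun w hw =>
    (mem_centralizer_iff.1 (heq.ge hw).2 a ha).symm
  have hkn : k ∈ normalizer (centralizer (U : Set G) : Set G) := by
    refine CfsgLib.Coprime.normalizer_le_normalizer_centralizer U ?_
    refine CfsgLib.Coprime.inf_le_normalizer (A := zpowers k)
      (zpowers_le.2 (X.hHV (X.KH hkK))) (zpowers_le.2 ?_) (mem_zpowers k)
    exact CfsgLib.Coprime.normalizer_le_normalizer_centralizer E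
      (centralizer_le_normalizer _ hkE)
  have hzU : z ∈ centralizer (U : Set G) :=
    mul_mem ((mem_normalizer_iff.1 hkn a).1 hUa) (inv_mem hUa)
  have hZ : zpowers z ≤ centralizer (V : Set G) := by
    refine CfsgLib.Coprime.pq_lemma (p := p) (hAp.to_le hE) ?_
      (isPGroup_of_ea X.hV) (le_centralizer_iff.1 (zpowers_le.2 hzE))
      (hE.trans (hAH.trans X.hHV)) (zpowers_le.2 (X.hHV (X.KH hzK))) ?_
    · rw [Nat.coprime_comm, (Fact.out : p.Prime).coprime_iff_not_dvd]
      exact fun hd => X.cop (hd.trans (card_dvd_of_le (zpowers_le.2 hzK)))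
    · rw [← hU]
      exact le_centralizer_iff.1 (zpowers_le.2 hzU)
  refine hka ?_
  have h1 := X.eq_one (X.KH hzK) (hZ (mem_zpowers z))
  rw [hz, mul_inv_eq_one] at h1
  exact (mul_inv_eq_iff_eq_mul.1 h1).symm

/-- An abelian group has a cyclic factor group whose kernel has more fixed points on `K`. -/
theorem exists_cyclic_factor (hAH : A ≤ H) (hAp : IsPGroup p A)
    (hab : ∀ x ∈ A, ∀ y ∈ A, x * y = y * x) (hA1 : A ≠ ⊥) :
    ∃ (B : Subgroup G) (a : G), B ≤ A ∧ a ∈ A ∧ (∀ x ∈ A, ∃ i : ℤ, ∃ b ∈ B, x = a ^ i * b) ∧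
      ¬ K ⊓ centralizer (B : Set G) ≤ centralizer (A : Set G) := by
  obtain ⟨B, -, hBmax⟩ := exists_maximal_ge_of_wellFoundedGT
    (fun B : Subgroup G => B ≤ A ∧ ¬ K ⊓ centralizer (B : Set G) ≤ centralizer (A : Set G)) ⊥
    ⟨bot_le, fun hle => hA1 (eq_bot_iff.2 (le_trans (le_inf le_rfl (le_centralizer_iff.1
      (le_trans (le_inf le_rfl fun k _ => mem_centralizer_iff.2 fun e he => by
        rw [mem_bot.1 he, one_mul, mul_one]) hle))) (X.inf_centralizer_eq_bot hAH hAp).le))⟩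
  obtain ⟨hBA, hBm⟩ := hBmax.prop
  refine ⟨B, ?_⟩
  set K' := K ⊓ centralizer (B : Set G) with hK'
  have hAK' : A ≤ normalizer (K' : Set G) := CfsgLib.Coprime.inf_le_normalizer (hAH.trans X.HK)
    (le_trans (fun a ha => centralizer_le_normalizer _
      (mem_centralizer_iff.2 fun b hb => hab b (hBA hb) a ha))
      (CfsgLib.Coprime.normalizer_le_normalizer_centralizer B))
  set L := K' ⊔ A with hL
  have hBL : B ≤ L := hBA.trans le_sup_right
  have hLB : L ≤ centralizer (B : Set G) := sup_le inf_le_right fun a ha =>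
    mem_centralizer_iff.2 fun b hb => hab b (hBA hb) a ha
  haveI : (B.subgroupOf L).Normal := (normal_subgroupOf_iff_le_normalizer hBL).2
    (hLB.trans (centralizer_le_normalizer _))
  set q := QuotientGroup.mk' (B.subgroupOf L)
  set A' := (A.subgroupOf L).map q with hA'
  haveI : IsMulCommutative A' := ⟨⟨fun u v => by
    obtain ⟨u', hu, hue⟩ := u.2
    obtain ⟨v', hv, hve⟩ := v.2
    refine Subtype.ext ?_
    show (u : L ⧸ B.subgroupOf L) * v = v * u
    rw [← hue, ← hve, ← map_mul, ← map_mul]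
    exact congrArg q (Subtype.ext (hab _ hu _ hv))⟩⟩
  -- coprime elements
  have hKB : ∀ k, k ∈ K → k ∈ A → k = 1 := fun k hk hkA => by
    obtain ⟨n, hn⟩ := hAp ⟨k, hkA⟩
    obtain ⟨i, -, hi⟩ := (Nat.dvd_prime_pow (Fact.out : p.Prime)).1
      (orderOf_dvd_of_pow_eq_one (congrArg Subtype.val hn : k ^ p ^ n = 1))
    rcases i with - | i
    · exact orderOf_eq_one_iff.1 (by simpa using hi)
    · exact absurd ((dvd_pow_self p (Nat.succ_ne_zero i)).trans
        (hi ▸ orderOf_dvd_natCard _ hk)) X.cop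
  by_cases hcyc : IsCyclic A'
  · obtain ⟨g, hg⟩ := hcyc.exists_generator
    obtain ⟨a', ha', hae⟩ := g.2
    refine ⟨(a' : G), hBA, ha', fun x hx => ?_, hBm⟩
    obtain ⟨i, hi⟩ := hg ⟨q ⟨x, mem_sup_right hx⟩, mem_map_of_mem q (show _ ∈ A.subgroupOf L from hx)⟩
    have h1 : q (a' ^ i) = q ⟨x, mem_sup_right hx⟩ := by
      rw [map_zpow, hae]
      exact congrArg Subtype.val hi
    have h2 := (QuotientGroup.eq).1 h1
    rw [mem_subgroupOf] at h2
    exact ⟨i, _, h2, by simp⟩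
  exfalso
  refine hBm ?_
  set W' := ((K' ⊓ centralizer (A : Set G)).subgroupOf L).map q with hW'
  have hle : (K'.subgroupOf L).map q ≤ W' := by
    refine CfsgLib.Coprime.le_of_centralizers_le (A := A') hcyc ?_ ?_ fun a ha ha1 => ?_
    · refine (map_mono ?_).trans (le_normalizer_map q)
      intro x hx
      refine mem_normalizer_iff.2 fun y => ?_
      simp only [mem_subgroupOf, Subgroup.coe_mul, Subgroup.coe_inv]
      exact mem_normalizer_iff.1 (hAK' hx) _
    · have hd1 : Nat.card A' ∣ Nat.card A := (card_map_dvd _ q).trans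
        (Nat.card_congr (subgroupOfEquivOfLe (le_sup_right : A ≤ L)).toEquiv).dvd
      have hd2 : Nat.card ↥((K'.subgroupOf L).map q) ∣ Nat.card K :=
        ((card_map_dvd _ q).trans (Nat.card_congr (subgroupOfEquivOfLe (le_sup_left : K' ≤ L)).toEquiv).dvd).trans
          (card_dvd_of_le inf_le_left)
      refine Nat.Coprime.coprime_dvd_left hd1 (Nat.Coprime.coprime_dvd_right hd2 ?_)
      obtain ⟨n, hn⟩ := IsPGroup.iff_card.1 hAp
      rw [hn]
      exact ((Fact.out : p.Prime).coprime_iff_not_dvd.2 X.cop).pow_left n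
    · rintro y ⟨⟨k, hk, rfl⟩, hky⟩
      obtain ⟨a', ha', rfl⟩ := ha
      refine mem_map_of_mem q ?_
      simp only [SetLike.mem_coe, mem_subgroupOf] at hk ha' ⊢
      have hka : ((k : G) * a' * (k : G)⁻¹ * (a' : G)⁻¹) = 1 := by
        refine hKB _ ?_ (hBA ?_)
        · rw [show (k : G) * a' * (k : G)⁻¹ * (a' : G)⁻¹ = (k : G) * (a' * (k : G)⁻¹ * (a' : G)⁻¹) by group]
          exact mul_mem hk.1 ((mem_normalizer_iff.1 (X.HK (hAH ha')) _).1 (inv_mem hk.1))
        · have h1 : q (k * a' * k⁻¹ * a'⁻¹) = 1 := by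
            rw [map_mul, map_mul, map_mul, map_inv, map_inv,
              mem_centralizer_singleton_iff.1 hky, mul_inv_cancel_right, mul_inv_cancel]
          have := (QuotientGroup.eq_one_iff _).1 h1
          rwa [mem_subgroupOf] at this
      rw [mul_inv_eq_one, mul_inv_eq_iff_eq_mul] at hka
      refine ⟨hk, ?_⟩
      by_contra hcon
      set B₂ := B ⊔ zpowers (a' : G)
      have hB₂ : B₂ ≤ A ∧ ¬ K ⊓ centralizer (B₂ : Set G) ≤ centralizer (A : Set G) := by
        refine ⟨sup_le hBA (zpowers_le.2 ha'), fun h => hcon (h ⟨hk.1, ?_⟩)⟩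
        rw [CfsgLib.Fusion.centralizer_sup_eq]
        refine ⟨hk.2, mem_centralizer_iff.2 fun z hz => ?_⟩
        obtain ⟨i, rfl⟩ := mem_zpowers_iff.1 hz
        exact ((show Commute (a' : G) k from hka.symm).zpow_left i).eq
      have heq := hBmax.eq_of_le hB₂ le_sup_left
      refine ha1 ((QuotientGroup.eq_one_iff _).2 ?_)
      rw [mem_subgroupOf, heq]
      exact mem_sup_right (mem_zpowers _)
  intro k hk
  obtain ⟨w, hw, hwe⟩ := hle (mem_map_of_mem q
    (show (⟨k, mem_sup_left hk⟩ : L) ∈ K'.subgroupOf L from hk))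
  simp only [SetLike.mem_coe, mem_subgroupOf] at hw
  have h2 := (QuotientGroup.eq).1 hwe
  rw [mem_subgroupOf] at h2
  have h3 := hKB _ (mul_mem (inv_mem hw.1.1) hk.1) (hBA h2)
  rw [Subgroup.coe_mul, Subgroup.coe_inv] at *
  rw [inv_mul_eq_one] at h3
  exact h3 ▸ hw.2

/-- The fixed points of a sharp elementary group and the modules of its transvection factors
generate `V`. -/
theorem le_sup_modules (T : List (Subgroup G)) (hT : ∀ B ∈ T, IsT p V H B) (U : Subgroup G)
    (hU : ∀ B ∈ T, ⁅V, factor K B⁆ ≤ U) (hUV : U ≤ V) :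
    ∀ v ∈ V, ∃ w ∈ U, ∃ c ∈ V, (∀ B ∈ T, c ∈ centralizer (B : Set G)) ∧ v = w * c := by
  induction T with
  | nil => intro v hv; exact ⟨1, one_mem _, v, hv, by simp, by rw [one_mul]⟩
  | cons B T ih =>
    intro v hv
    obtain ⟨w, hw, c, hc, hcT, rfl⟩ := ih (fun D hD => hT D (List.mem_cons_of_mem _ hD))
      (fun D hD => hU D (List.mem_cons_of_mem _ hD)) v hv
    have hB := hT B List.mem_cons_self
    obtain ⟨u, hu, c₀, hc₀, rfl⟩ := CfsgLib.Coprime.mem_sup_exists
      (show V ⊓ centralizer (factor K B : Set G) ≤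
          normalizer ((⁅V, factor K B⁆ : Subgroup G) : Set G) from
        fun x hx => centralizer_le_normalizer _ (mem_centralizer_iff.2 fun s hs =>
          X.comm (X.comm_le (X.factor_le hB) hs) hx.1)) ((X.module_sup hB).ge hc)
    refine ⟨w * u, mul_mem hw (hU B List.mem_cons_self hu), c₀, hc₀.1, fun D hD => ?_,
      by rw [mul_assoc]⟩
    rcases List.mem_cons.1 hD with rfl | hD
    · exact centralizer_le (show D ≤ factor K D from le_sup_right) hc₀.2
    · rcases X.dichotomy hB (hT D (List.mem_cons_of_mem _ hD)) with h | ⟨h, -, -⟩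
      · exact centralizer_le h hc₀.2
      · have := mul_mem (inv_mem (le_centralizer_iff.1 h hu)) (hcT D hD)
        rwa [inv_mul_cancel_left] at this

end Ctx

namespace Ctx

variable {V H K A : Subgroup G} (X : Ctx 2 V H K)
include X

/-- A sharp elementary subgroup contains the square of no element outside. -/
theorem sq_eq_one_of_sharp {M : Subgroup G} (hMH : M ≤ H) (hMe : Cfsg.IsElementaryAbelian 2 M)
    (hMs : Sharp V M) {x : G} (hx : x ∈ H) (hxM : ∀ m ∈ M, x * m = m * x) (hx2 : x ^ 2 ∈ M) :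
    x ^ 2 = 1 := by
  obtain ⟨k, B, hB, -, hBM⟩ := X.exists_product hMH hMe hMs
  refine X.eq_one (hMH hx2) (mem_centralizer_iff.2 fun v hv => ?_)
  have hU : ∀ i, ∀ u ∈ ⁅V, factor K (B i)⁆, Commute (x ^ 2) u := by
    intro i
    have hT := (hB i).2
    have hUV : ⁅V, factor K (B i)⁆ ≤ V := X.comm_le (X.factor_le hT)
    have hxB : x ∈ normalizer (B i : Set G) := centralizer_le_normalizer _
      (mem_centralizer_iff.2 fun b hb => (hxM b ((hB i).1 hb)).symm)
    have hxF : x ∈ normalizer (factor K (B i) : Set G) := by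
      refine CfsgLib.Fusion.conjBy_eq_iff.1 ?_
      rw [factor, CfsgLib.Fusion.conjBy, Subgroup.map_sup, map_commutator]
      rw [show K.map (MulAut.conj x).toMonoidHom = K from CfsgLib.Fusion.conjBy_eq_iff.2 (X.HK hx),
        show (B i).map (MulAut.conj x).toMonoidHom = B i from CfsgLib.Fusion.conjBy_eq_iff.2 hxB]
    obtain ⟨⟨u₀, hu₀⟩, hne⟩ := ne_bot_iff_exists_ne_one.1 (X.commutator_ne_bot hT.le (fun h => by
      have := hT.card
      rw [h, card_bot] at this
      omega))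
    have hu₀1 : u₀ ≠ 1 := fun h => hne (Subtype.ext h)
    have hxL := (X.normalizer_module hx hxB).1
    refine sq_fix_of_card_four (U := ⁅V, factor K (B i)⁆) (by rw [X.card_module hT]; rfl)
      (ea_of_le X.hV hUV) (X.normalizer_module hx hxF).1
      (commutator_mono le_rfl (show B i ≤ factor K (B i) from le_sup_right) hu₀) hu₀1 ?_
    -- a group of order two
    have hc2 := X.card_comm_of_isT hT
    have heq : zpowers u₀ = ⁅V, B i⁆ := by
      refine eq_of_le_of_card_ge (zpowers_le.2 hu₀) ?_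
      rw [hc2, Nat.card_zpowers]
      have h0 : u₀ ^ 2 = 1 := X.hV.2 u₀ (X.comm_le hT.le hu₀)
      rw [orderOf_eq_prime h0 hu₀1]
    have hmem : x * u₀ * x⁻¹ ∈ zpowers u₀ := heq ▸ (mem_normalizer_iff.1 hxL u₀).1 hu₀
    obtain ⟨j, hj⟩ := mem_zpowers_iff.1 hmem
    rcases Int.even_or_odd j with ⟨t, ht⟩ | ⟨t, ht⟩
    · have h0 : u₀ ^ (2 : ℤ) = 1 := by
        rw [zpow_ofNat]; exact X.hV.2 u₀ (X.comm_le hT.le hu₀)
      rw [ht, ← two_mul, zpow_mul, h0, one_zpow] at hj
      exact absurd (by simpa [mul_inv_eq_one] using hj.symm) hu₀1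
    · have h0 : u₀ ^ (2 : ℤ) = 1 := by
        rw [zpow_ofNat]; exact X.hV.2 u₀ (X.comm_le hT.le hu₀)
      rw [ht, zpow_add, zpow_mul, h0, one_zpow, one_mul, zpow_one] at hj
      exact hj.symm
  obtain ⟨w, hw, c, -, hcT, rfl⟩ := X.le_sup_modules (List.ofFn B) (fun D hD => by
      obtain ⟨i, rfl⟩ := List.mem_ofFn.1 hD; exact (hB i).2)
    (⨆ i, ⁅V, factor K (B i)⁆) (fun D hD => by
      obtain ⟨i, rfl⟩ := List.mem_ofFn.1 hD; exact le_iSup (fun i => ⁅V, factor K (B i)⁆) i)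
    (iSup_le fun i => X.comm_le (X.factor_le (hB i).2)) v hv
  have hcw : w ∈ centralizer ({x ^ 2} : Set G) :=
    (iSup_le fun i u hu => mem_centralizer_singleton_iff.2 (hU i u hu).eq.symm :
      (⨆ i, ⁅V, factor K (B i)⁆) ≤ centralizer ({x ^ 2} : Set G)) hw
  have hcc : M ≤ centralizer ({c} : Set G) := by
    rw [← hBM]
    exact iSup_le fun i m hm => mem_centralizer_singleton_iff.2
      (mem_centralizer_iff.1 (hcT _ (List.mem_ofFn.2 ⟨i, rfl⟩)) m hm)
  exact ((show Commute w (x ^ 2) from mem_centralizer_singleton_iff.1 hcw).mul_left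
    (show Commute c (x ^ 2) from (mem_centralizer_singleton_iff.1 (hcc hx2)).symm)).eq

/-- An abelian `2`-subgroup satisfies `|A| |C_V(A)| ≤ |V|`, with equality only if elementary. -/
theorem abelian_bound (hAH : A ≤ H) (hAp : IsPGroup 2 A) (hab : ∀ x ∈ A, ∀ y ∈ A, x * y = y * x) :
    Nat.card A * Nat.card (V ⊓ centralizer (A : Set G) : Subgroup G) ≤ Nat.card V ∧
      (Nat.card A * Nat.card (V ⊓ centralizer (A : Set G) : Subgroup G) = Nat.card V →
        Cfsg.IsElementaryAbelian 2 A) := by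
  induction hn : Nat.card A using Nat.strong_induction_on generalizing A with
  | _ n ih =>
  subst hn
  have hcomm : IsMulCommutative A := ⟨⟨fun u v => Subtype.ext (hab u u.2 v v.2)⟩⟩
  by_cases hel : ∀ x ∈ A, x ^ 2 = 1
  · exact ⟨X.mul_card_le hAH ⟨hcomm, hel⟩, fun _ => ⟨hcomm, hel⟩⟩
  have hA1 : A ≠ ⊥ := fun h => hel fun x hx => by rw [h] at hx; rw [mem_bot.1 hx, one_pow]
  obtain ⟨B, a, hBA, ha, hgen, hBm⟩ := X.exists_cyclic_factor hAH hAp hab hA1
  set M := B ⊔ zpowers (a ^ 2) with hM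
  have hMA : M ≤ A := sup_le hBA (zpowers_le.2 (pow_mem ha 2))
  set W := V ⊓ centralizer (B : Set G) with hW
  have haW : a ∈ normalizer (W : Set G) := CfsgLib.Coprime.inf_le_normalizer (A := zpowers a)
    (zpowers_le.2 (X.hHV (hAH ha)))
    (zpowers_le.2 (CfsgLib.Coprime.normalizer_le_normalizer_centralizer B
      (centralizer_le_normalizer _ (mem_centralizer_iff.2 fun b hb => hab b (hBA hb) a ha))))
    (mem_zpowers a)
  obtain ⟨j, hj⟩ : ∃ j, a ^ 2 ^ j = 1 := by
    obtain ⟨j, hj⟩ := hAp ⟨a, ha⟩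
    exact ⟨j, congrArg Subtype.val hj⟩
  -- the fixed points grow
  have hle : V ⊓ centralizer (A : Set G) ≤ V ⊓ centralizer (M : Set G) :=
    inf_le_inf_left _ (centralizer_le hMA)
  have hlt : V ⊓ centralizer (A : Set G) ≠ V ⊓ centralizer (M : Set G) := by
    intro heq
    refine X.fixed_ne hAH hAp hab hBA hBm ?_
    refine le_antisymm (inf_le_inf_left _ (centralizer_le hBA)) ?_
    have hcen : ∀ w ∈ W, Commute a w := centralizes_of_fix_sq (ea_of_le X.hV inf_le_left) haW hj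
      (fun w hw h2 => by
        have hwM : w ∈ V ⊓ centralizer (M : Set G) := by
          refine ⟨hw.1, ?_⟩
          rw [hM, CfsgLib.Fusion.centralizer_sup_eq]
          refine ⟨hw.2, mem_centralizer_iff.2 fun z hz => ?_⟩
          obtain ⟨i, rfl⟩ := mem_zpowers_iff.1 hz
          exact (h2.zpow_left i).eq
        exact mem_centralizer_iff.1 (heq.ge hwM).2 a ha)
    intro w hw
    refine ⟨hw.1, mem_centralizer_iff.2 fun x hx => ?_⟩
    obtain ⟨i, b, hb, rfl⟩ := hgen x hx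
    exact (((hcen w hw).zpow_left i).mul_left
      (show Commute b w from mem_centralizer_iff.1 hw.2 b hb)).eq
  have hVp : IsPGroup 2 V := isPGroup_of_ea X.hV
  obtain ⟨i, hi⟩ := IsPGroup.iff_card.1 (hVp.to_le
    (inf_le_left : V ⊓ centralizer (A : Set G) ≤ V))
  obtain ⟨i', hi'⟩ := IsPGroup.iff_card.1 (hVp.to_le
    (inf_le_left : V ⊓ centralizer (M : Set G) ≤ V))
  have hii : i < i' := by
    by_contra hge
    refine hlt (eq_of_le_of_card_ge hle ?_)
    rw [hi, hi']
    exact Nat.pow_le_pow_right (by norm_num) (not_lt.1 hge)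
  have hne : M ≠ A := fun h => hlt (by rw [h])
  have hMlt : Nat.card M < Nat.card A :=
    lt_of_le_of_ne (card_le_of_le hMA) fun h => hne (eq_of_le_of_card_ge hMA h.ge)
  have hsq : ∀ x ∈ A, x ^ 2 ∈ M := fun x hx => by
    obtain ⟨t, b, hb, rfl⟩ := hgen x hx
    rw [(show Commute (a ^ t) b from hab _ (zpow_mem ha t) _ (hBA hb)).mul_pow]
    refine mul_mem (mem_sup_right ?_) (mem_sup_left (pow_mem hb 2))
    exact ⟨t, by simp only [← zpow_natCast, ← zpow_mul, mul_comm]⟩
  have hcardA : Nat.card A ≤ 2 * Nat.card M := by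
    let f : Fin 2 × M → A := fun s => ⟨a ^ (s.1 : ℕ) * s.2, mul_mem (pow_mem ha _) (hMA s.2.2)⟩
    have hf : Function.Surjective f := by
      rintro ⟨x, hx⟩
      obtain ⟨t, b, hb, rfl⟩ := hgen x hx
      rcases Int.even_or_odd t with ⟨r, rfl⟩ | ⟨r, rfl⟩
      · refine ⟨⟨0, ⟨a ^ (r + r) * b, mul_mem (mem_sup_right ⟨r, ?_⟩) (mem_sup_left hb)⟩⟩,
          Subtype.ext (by simp [f])⟩
        rw [← two_mul, zpow_mul, zpow_ofNat]
      · refine ⟨⟨1, ⟨a ^ (2 * r) * b, mul_mem (mem_sup_right ⟨r, ?_⟩) (mem_sup_left hb)⟩⟩,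
          Subtype.ext ?_⟩
        · rw [zpow_mul, zpow_ofNat]
        · show a ^ ((1 : Fin 2) : ℕ) * (a ^ (2 * r) * b) = a ^ (2 * r + 1) * b
          rw [Fin.val_one, pow_one, ← mul_assoc, ← zpow_one_add, add_comm]
    have := Nat.card_le_card_of_surjective f hf
    rwa [Nat.card_prod, Nat.card_fin] at this
  have hkey : Nat.card A * Nat.card (V ⊓ centralizer (A : Set G) : Subgroup G) ≤
      Nat.card M * Nat.card (V ⊓ centralizer (M : Set G) : Subgroup G) := by
    rw [hi, hi']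
    calc Nat.card A * 2 ^ i ≤ 2 * Nat.card M * 2 ^ i := Nat.mul_le_mul_right _ hcardA
      _ = Nat.card M * 2 ^ (i + 1) := by ring
      _ ≤ _ := Nat.mul_le_mul_left _ (Nat.pow_le_pow_right (by norm_num) hii)
  obtain ⟨hMle, hMeq⟩ := ih _ hMlt (hMA.trans hAH) (hAp.to_le hMA)
    (fun x hx y hy => hab x (hMA hx) y (hMA hy)) rfl
  refine ⟨hkey.trans hMle, fun heq => absurd ?_ hel⟩
  have hMs : Sharp V M := le_antisymm hMle (heq ▸ hkey)
  intro x hx
  exact X.sq_eq_one_of_sharp (hMA.trans hAH) (hMeq hMs) hMs (hAH hx)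
    (fun m hm => hab x hx m (hMA hm)) (hsq x hx)

/-- An abelian `2`-subgroup with `|V| ≤ |A| |C_V(A)|` is a product of transvection groups. -/
theorem le_iSup_isT_of_abelian (hAH : A ≤ H) (hAp : IsPGroup 2 A)
    (hab : ∀ x ∈ A, ∀ y ∈ A, x * y = y * x)
    (h : Nat.card V ≤ Nat.card A * Nat.card (V ⊓ centralizer (A : Set G) : Subgroup G)) :
    A ≤ ⨆ B : {B : Subgroup G // IsT 2 V H B}, (B : Subgroup G) := by
  obtain ⟨h1, h2⟩ := X.abelian_bound hAH hAp hab
  have hs : Sharp V A := le_antisymm h1 h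
  obtain ⟨k, B, hB, -, hBA⟩ := X.exists_product hAH (h2 hs) hs
  exact hBA.ge.trans (iSup_le fun i =>
    le_iSup (fun B : {B : Subgroup G // IsT 2 V H B} => (B : Subgroup G)) ⟨B i, (hB i).2⟩)

end Ctx

end CfsgLib.FFPair
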