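import Cfsg.Agent.Lib.Fusion.FFPair.Abelian
import Cfsg.Agent.Lib.Fusion.Dichotomy
import Cfsg.Agent.Lib.Fusion.ThompsonComplement
import Cfsg.Agent.Lib.PGroup.MaxPNilpotent
import Cfsg.Agent.Lib.Coprime.Solvable
import Cfsg.Agent.Lib.LocalStructure.Basic
import Cfsg.Agent.S2759

/-!
# Thompson factorization for the abelian Thompson subgroup in solvable groups

If `F(X) = O₂(X)` then, modulo the core `C` of `C(Z(T))`, the normal closure of `J(T)` is a direct
product of copies of `S₃`.
-/

set_option autoImplicit false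
set_option linter.style.haveILetI false
set_option linter.unusedSectionVars false

open Subgroup
open scoped commutatorElement

namespace CfsgLib.FFPair

universe u

/-- A group generated by transvection groups is the direct product of the factors. -/
theorem Ctx.exists_mulEquiv_pi {G : Type u} [Group G] [Finite G] {p : ℕ} [Fact p.Prime]
    {V H K : Subgroup G} (X : Ctx p V H K)
    (hgen : H = ⨆ B : {B : Subgroup G // IsT p V H B}, (B : Subgroup G)) (hH : H ≠ ⊥) :
    ∃ n : ℕ, 1 ≤ n ∧
      Nonempty (↥H ≃* (Fin n → Matrix.SpecialLinearGroup (Fin 2) (ZMod p))) := by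
  set ι := {E : Subgroup G // ∃ T, IsT p V H T ∧ E = factor K T}
  haveI : Fintype ι := Fintype.ofFinite ι
  set e : Fin (Fintype.card ι) ≃ ι := (Fintype.equivFin ι).symm
  choose T hT hET using fun i => (e i).2
  set E : Fin (Fintype.card ι) → Subgroup G := fun i => (e i : Subgroup G) with hEdef
  have hEf : ∀ i, E i = factor K (T i) := hET
  have hne : ∀ i j, i ≠ j → factor K (T j) ≠ factor K (T i) := fun i j hij h =>
    hij (e.injective (Subtype.ext ((hET i).trans (h.symm.trans (hET j).symm))))
  have hcen : ∀ i j, i ≠ j →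
      E j ≤ centralizer ((⁅V, factor K (T i)⁆ : Subgroup G) : Set G) := fun i j hij => by
    rw [hEf j]
    exact (X.independent (hT i) (hT j) (hne i j hij)).1
  have hcomm : Pairwise fun i j => ∀ x y : G, x ∈ E i → y ∈ E j → Commute x y := by
    intro i j hij x y hx hy
    have hyH : y ∈ H := X.factor_le (hT j) (hEf j ▸ hy)
    have h := commutator_mem_commutator (hEf i ▸ hx : x ∈ factor K (T i))
      (show y ∈ H ⊓ centralizer ((⁅V, factor K (T i)⁆ : Subgroup G) : Set G) from
        ⟨hyH, hcen i j hij hy⟩)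
    rw [X.comm_other hgen (hT i), mem_bot, commutatorElement_eq_one_iff_mul_comm] at h
    exact h
  have hind : iSupIndep E := by
    intro i
    rw [disjoint_iff, eq_bot_iff]
    refine le_trans ?_ (X.module_faith (hT i)).le
    rw [← hEf i]
    exact inf_le_inf_left _ (iSup₂_le fun j hj => by
      rw [hEf i]
      exact hcen i j (Ne.symm hj))
  have hsup : (⨆ i, E i) = H := by
    refine le_antisymm (iSup_le fun i => (hEf i).le.trans (X.factor_le (hT i))) ?_
    conv_lhs => rw [hgen]
    refine iSup_le fun B => le_trans (le_sup_right : (B : Subgroup G) ≤ factor K B) ?_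
    refine le_trans (le_of_eq ?_) (le_iSup E (e.symm ⟨factor K B, B, B.2, rfl⟩))
    exact (congrArg Subtype.val (e.apply_symm_apply ⟨factor K B, B, B.2, rfl⟩)).symm
  have hn : 1 ≤ Fintype.card ι := by
    by_contra hlt
    refine hH (hgen.trans (le_bot_iff.1 (iSup_le fun B => ?_)))
    haveI : IsEmpty ι := Fintype.card_eq_zero_iff.1 (by omega)
    exact isEmptyElim (⟨factor K B, B, B.2, rfl⟩ : ι)
  have φ : ∀ i, Nonempty (↥(E i) ≃* Matrix.SpecialLinearGroup (Fin 2) (ZMod p)) := fun i => by
    rw [hEf i]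
    exact X.factor_iso (hT i)
  refine ⟨Fintype.card ι, hn, ⟨(MulEquiv.symm ?_).trans (MulEquiv.piCongrRight fun i => (φ i).some)⟩⟩
  exact (MonoidHom.ofInjective (injective_noncommPiCoprod_of_iSupIndep (hcomm := hcomm) hind)).trans
    (MulEquiv.subgroupCongr (noncommPiCoprod_range.trans hsup))

namespace AbelianThompson

variable {X : Type u} [Group X] [Finite X]

/-- The normal subgroup generated by the centres of the Sylow `2`-subgroups. -/
abbrev centreModule (X : Type u) [Group X] : Subgroup X :=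
  ⨆ S : Sylow 2 X, ((S : Subgroup X) ⊓ centralizer ((S : Subgroup X) : Set X))

theorem conj_centre (g : X) (S : Sylow 2 X) :
    ((S : Subgroup X) ⊓ centralizer ((S : Subgroup X) : Set X)).map (MulAut.conj g).toMonoidHom =
      ((g • S : Sylow 2 X) : Subgroup X) ⊓ centralizer (((g • S : Sylow 2 X) : Subgroup X) : Set X) := by
  rw [CfsgLib.Fusion.inf_centralizer_map_eq _ (MulAut.conj g).injective]
  rfl

instance centreModule_normal : (centreModule X).Normal := by
  refine ⟨fun x hx g => ?_⟩
  have h1 := mem_map_of_mem (MulAut.conj g).toMonoidHom hx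
  rw [centreModule, Subgroup.map_iSup] at h1
  refine (iSup_le fun S => ?_ : ⨆ S : Sylow 2 X, (((S : Subgroup X) ⊓
    centralizer ((S : Subgroup X) : Set X))).map (MulAut.conj g).toMonoidHom ≤ centreModule X) h1
  rw [conj_centre]
  exact le_iSup (fun S : Sylow 2 X => (S : Subgroup X) ⊓ centralizer ((S : Subgroup X) : Set X)) _

theorem normalCore_eq (T : Sylow 2 X) :
    (centralizer (((T : Subgroup X) ⊓ centralizer ((T : Subgroup X) : Set X) : Subgroup X) : Set X)).normalCore =
      centralizer (centreModule X : Set X) := by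
  haveI : (centralizer (centreModule X : Set X)).Normal := normal_centralizer
  refine le_antisymm ?_ (normal_le_normalCore.2 ?_)
  · rw [le_centralizer_iff]
    refine iSup_le fun S => ?_
    obtain ⟨g, rfl⟩ := MulAction.exists_smul_eq X T S
    rw [← conj_centre]
    rintro _ ⟨z, hz, rfl⟩
    refine mem_centralizer_iff.2 fun c hc => ?_
    have h1 := hc g⁻¹
    rw [inv_inv] at h1
    show c * (g * z * g⁻¹) = g * z * g⁻¹ * c
    calc c * (g * z * g⁻¹) = g * ((g⁻¹ * c * g) * z) * g⁻¹ := by group
      _ = g * (z * (g⁻¹ * c * g)) * g⁻¹ := by rw [mem_centralizer_iff.1 h1 z hz]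
      _ = g * z * g⁻¹ * c := by group
  · exact centralizer_le (le_iSup (fun S : Sylow 2 X =>
      (S : Subgroup X) ⊓ centralizer ((S : Subgroup X) : Set X)) T)

theorem conj_thompson (T : Sylow 2 X) (g : X) :
    (Cfsg.thompsonSubgroupAOf (T : Subgroup X)).map (MulAut.conj g).toMonoidHom =
      Cfsg.thompsonSubgroupAOf ((g • T : Sylow 2 X) : Subgroup X) :=
  (CfsgLib.Fusion.map_thompsonSubgroupAOf _ (MulAut.conj g).injective _).trans rfl

/-- Frattini: the normal closure of `J(T)` and its normalizer generate. -/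
theorem sup_normalizer_eq_top (T : Sylow 2 X) :
    normalClosure (Cfsg.thompsonSubgroupAOf (T : Subgroup X) : Set X) ⊔
      normalizer (Cfsg.thompsonSubgroupAOf (T : Subgroup X) : Set X) = ⊤ := by
  set J := Cfsg.thompsonSubgroupAOf (T : Subgroup X) with hJ
  set N := normalClosure (J : Set X) with hN
  obtain ⟨R, hR⟩ := CfsgLib.LS.sylow_inf_normal T N
  have hJN : J ≤ N := subset_normalClosure
  have hsub : ∀ A ∈ CfsgLib.Fusion.maxAb (T : Subgroup X), A ≤ N := fun A hA => by
    refine le_trans ?_ hJN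
    rw [hJ, CfsgLib.Fusion.thompsonSubgroupAOf_eq]
    exact le_sSup hA
  obtain ⟨A₀, hA₀⟩ := CfsgLib.Fusion.maxAb_nonempty (T : Subgroup X)
  have hJI : Cfsg.thompsonSubgroupAOf ((T : Subgroup X) ⊓ N) = J := by
    rw [hJ, CfsgLib.Fusion.thompsonSubgroupAOf_eq, CfsgLib.Fusion.thompsonSubgroupAOf_eq,
      ← CfsgLib.Fusion.maxAb_inter hA₀ (hsub A₀ hA₀)]
    refine congrArg sSup (Set.ext fun A => ⟨fun h => h.1, fun h => ⟨h, hsub A h⟩⟩)
  have hle : normalizer (((T : Subgroup X) ⊓ N : Subgroup X) : Set X) ≤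
      normalizer (J : Set X) := fun g hg => by
    refine CfsgLib.Fusion.conjBy_eq_iff.1 ?_
    rw [← hJI]
    show (Cfsg.thompsonSubgroupAOf _).map (MulAut.conj g).toMonoidHom = _
    rw [CfsgLib.Fusion.map_thompsonSubgroupAOf _ (MulAut.conj g).injective,
      show ((T : Subgroup X) ⊓ N).map (MulAut.conj g).toMonoidHom = (T : Subgroup X) ⊓ N from
        CfsgLib.Fusion.conjBy_eq_iff.2 hg]
  have hfr := R.normalizer_sup_eq_top
  rw [hR] at hfr
  exact top_le_iff.1 (hfr.ge.trans (sup_le (hle.trans le_sup_right) le_sup_left))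

section CharTwo

variable (hc : centralizer (Cfsg.pCore 2 X : Set X) ≤ Cfsg.pCore 2 X)
include hc

theorem centreModule_le :
    centreModule X ≤ Cfsg.pCore 2 X ⊓ centralizer (Cfsg.pCore 2 X : Set X) := by
  refine iSup_le fun S => ?_
  have h : (S : Subgroup X) ⊓ centralizer ((S : Subgroup X) : Set X) ≤
      centralizer (Cfsg.pCore 2 X : Set X) :=
    inf_le_right.trans (centralizer_le (CfsgLib.Coprime.pCore_le_sylow S))
  exact le_inf (h.trans hc) h

theorem centreModule_comm : ∀ a ∈ centreModule X, ∀ b ∈ centreModule X, a * b = b * a :=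
  fun _ ha _ hb => mem_centralizer_iff.1 (centreModule_le hc hb).2 _ (centreModule_le hc ha).1

theorem centreModule_isPGroup : IsPGroup 2 (centreModule X) :=
  (CfsgLib.Coprime.pCore_isPGroup 2).to_le ((centreModule_le hc).trans inf_le_left)

theorem centreModule_le_sylow (S : Sylow 2 X) : centreModule X ≤ S :=
  (centreModule_le hc).trans (inf_le_left.trans (CfsgLib.Coprime.pCore_le_sylow S))

theorem omega_ea : Cfsg.IsElementaryAbelian 2 (Cfsg.omegaOne 2 (centreModule X)) := by
  have hle : Cfsg.omegaOne 2 (centreModule X) ≤ centreModule X :=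
    (closure_le _).2 fun _ hx => hx.1
  refine ⟨⟨⟨fun a b => Subtype.ext (centreModule_comm hc _ (hle a.2) _ (hle b.2))⟩⟩, fun a ha => ?_⟩
  induction ha using closure_induction with
  | mem x hx => exact hx.2
  | one => exact one_pow 2
  | mul x y hx hy hx2 hy2 =>
    rw [(show Commute x y from centreModule_comm hc _ (hle hx) _ (hle hy)).mul_pow, hx2, hy2,
      one_mul]
  | inv x _ hx2 => rw [inv_pow, hx2, inv_one]

theorem eq_centralizer_of_isPGroup (D : Subgroup X) [D.Normal]
    (hle : centralizer (centreModule X : Set X) ≤ D)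
    (hp : IsPGroup 2 (D.map (QuotientGroup.mk' (centralizer (centreModule X : Set X))))) :
    D = centralizer (centreModule X : Set X) := by
  obtain ⟨k, hk⟩ := IsPGroup.iff_card.1 hp
  refine CfsgLib.Fusion.eq_centralizer_of_generated (centreModule X)
    (fun S : Sylow 2 X => (S : Subgroup X) ⊓ centralizer ((S : Subgroup X) : Set X))
    (fun _ => inf_le_right) rfl D hle ⟨k, ?_⟩
  have h := relIndex_ker (K := D) (QuotientGroup.mk' (centralizer (centreModule X : Set X)))
  rw [QuotientGroup.ker_mk'] at h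
  rw [h, hk]

theorem pCore_quotient (C : Subgroup X) [C.Normal]
    (hC : C = centralizer (centreModule X : Set X)) : Cfsg.pCore 2 (X ⧸ C) = ⊥ := by
  subst hC
  set C := centralizer (centreModule X : Set X) with hC
  haveI := CfsgLib.Coprime.pCore_normal' (G := X ⧸ C) 2
  set D := (Cfsg.pCore 2 (X ⧸ C)).comap (QuotientGroup.mk' C) with hD
  haveI : D.Normal := Normal.comap inferInstance _
  have hCD : C ≤ D := fun c hc => by
    show QuotientGroup.mk' C c ∈ Cfsg.pCore 2 _
    rw [show QuotientGroup.mk' C c = 1 from (QuotientGroup.eq_one_iff c).2 hc]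
    exact one_mem _
  have hDm : D.map (QuotientGroup.mk' C) = Cfsg.pCore 2 (X ⧸ C) :=
    map_comap_eq_self_of_surjective (QuotientGroup.mk'_surjective C) _
  have hDC : D = C := eq_centralizer_of_isPGroup hc D hCD
    (hDm ▸ CfsgLib.Coprime.pCore_isPGroup 2)
  rw [← hDm, hDC, QuotientGroup.map_mk'_self]

theorem centralizer_omega [(Cfsg.omegaOne 2 (centreModule X)).Normal] :
    centralizer (Cfsg.omegaOne 2 (centreModule X) : Set X) =
      centralizer (centreModule X : Set X) := by
  set W := Cfsg.omegaOne 2 (centreModule X)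
  set C := centralizer (centreModule X : Set X) with hC
  haveI : (centralizer (W : Set X)).Normal := normal_centralizer
  refine eq_centralizer_of_isPGroup hc (centralizer (W : Set X))
    (centralizer_le ((closure_le _).2 fun _ hx => hx.1)) ?_
  rintro ⟨_, c, hcW, rfl⟩
  obtain ⟨a, m, hm, hem⟩ := Nat.exists_eq_two_pow_mul_odd (orderOf_pos c).ne'
  refine ⟨a, Subtype.ext ?_⟩
  show QuotientGroup.mk' C c ^ 2 ^ a = 1
  rw [← map_pow]
  refine (QuotientGroup.eq_one_iff _).2 ?_
  refine CfsgLib.Fusion.mem_centralizer_of_fix_omega (p := 2) (centreModule_isPGroup hc)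
    (centreModule_comm hc) ?_ ?_ fun z hz hz2 => ?_
  · rw [normalizer_eq_top]
    exact mem_top _
  · rw [orderOf_pow' _ (pow_ne_zero a two_ne_zero), hem, Nat.gcd_mul_right_left,
      Nat.mul_div_cancel_left _ (pow_pos two_pos a), Nat.coprime_comm,
      Nat.prime_two.coprime_iff_not_dvd]
    exact hm.not_two_dvd_nat
  · rw [← mem_centralizer_iff.1 (pow_mem hcW (2 ^ a)) z (subset_closure ⟨hz, hz2⟩),
      mul_inv_cancel_right]

end CharTwo

/-- The structure theorem. -/
theorem main [Group.IsSolvable X] (hF : Cfsg.fittingSubgroup X = Cfsg.pCore 2 X) (T : Sylow 2 X) :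
    normalClosure (Cfsg.thompsonSubgroupAOf (T : Subgroup X) : Set X) ≤
        centralizer (centreModule X : Set X) ∨
      ∃ n : ℕ, 1 ≤ n ∧ Nonempty
        (↥(normalClosure (Cfsg.thompsonSubgroupAOf (T : Subgroup X) : Set X)) ⧸
          (centralizer (centreModule X : Set X)).subgroupOf
            (normalClosure (Cfsg.thompsonSubgroupAOf (T : Subgroup X) : Set X)) ≃*
          (Fin n → Equiv.Perm (Fin 3))) := by
  have hc : centralizer (Cfsg.pCore 2 X : Set X) ≤ Cfsg.pCore 2 X := by
    rw [← hF]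
    exact CfsgLib.Coprime.centralizer_fitting_le
  set W := Cfsg.omegaOne 2 (centreModule X) with hWdef
  haveI hWn : W.Normal := by
    refine ⟨fun x hx g => ?_⟩
    have h : W.map (MulAut.conj g).toMonoidHom ≤ W := by
      rw [hWdef, Cfsg.omegaOne, MonoidHom.map_closure, closure_le]
      rintro _ ⟨y, ⟨hy, hy2⟩, rfl⟩
      refine subset_closure ⟨Normal.conj_mem centreModule_normal y hy g, ?_⟩
      rw [← map_pow, hy2, map_one]
    exact h ⟨x, hx, rfl⟩
  have hW := omega_ea hc
  have hWV : W ≤ centreModule X := (closure_le _).2 fun _ hx => hx.1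
  have hCW : centralizer (W : Set X) = centralizer (centreModule X : Set X) := centralizer_omega hc
  set J := Cfsg.thompsonSubgroupAOf (T : Subgroup X) with hJ
  set N := normalClosure (J : Set X) with hN
  haveI : (centralizer (W : Set X)).Normal := normal_centralizer
  have hsep := CfsgLib.PGroup.MaxPNilpotent.isPSolvable_of_solvable (p := 2) Nat.prime_two _ X rfl inferInstance
  have ctx := ctx_nemb hW hsep (pCore_quotient hc _ hCW) N
  set f := nemb W with hf
  set H := N.map f with hH
  have hgen : H = ⨆ B : {B : Subgroup (Hol ↥W) // IsT 2 (holV ↥W) H B}, (B : Subgroup _) := by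
    refine le_antisymm ?_ (iSup_le fun B => B.2.le)
    rw [hH, map_le_iff_le_comap, hN, normalClosure, closure_le]
    intro x hx
    obtain ⟨j, hj, hjx⟩ := Group.mem_conjugatesOfSet_iff.1 hx
    obtain ⟨g, rfl⟩ := isConj_iff.1 hjx
    have hN' : Cfsg.thompsonSubgroupAOf ((g • T : Sylow 2 X) : Subgroup X) ≤ N := by
      rw [← conj_thompson]
      rintro _ ⟨y, hy, rfl⟩
      exact Normal.conj_mem normalClosure_normal y (subset_normalClosure hy) g
    have hmem : g * j * g⁻¹ ∈ Cfsg.thompsonSubgroupAOf ((g • T : Sylow 2 X) : Subgroup X) := by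
      rw [← conj_thompson]
      exact ⟨j, hj, rfl⟩
    rw [CfsgLib.Fusion.thompsonSubgroupAOf_eq] at hmem hN'
    refine (sSup_le fun A hA => ?_ : sSup (CfsgLib.Fusion.maxAb ((g • T : Sylow 2 X) : Subgroup X)) ≤
      (⨆ B : {B : Subgroup (Hol ↥W) // IsT 2 (holV ↥W) H B}, (B : Subgroup _)).comap f) hmem
    rw [← map_le_iff_le_comap]
    have hAN : A ≤ N := (le_sSup hA).trans hN'
    obtain ⟨hAS, hAc, hAmax⟩ := hA
    have hAm : ∀ a ∈ A, ∀ b ∈ A, a * b = b * a := fun a ha b hb =>
      congrArg Subtype.val (hAc.is_comm.comm (⟨a, ha⟩ : A) ⟨b, hb⟩)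
    refine ctx.le_iSup_isT_of_abelian (map_mono hAN)
      (((g • T : Sylow 2 X).2.to_le hAS).map f) ?_ ?_
    · rintro _ ⟨a, ha, rfl⟩ _ ⟨b, hb, rfl⟩
      rw [← map_mul, ← map_mul, hAm a ha b hb]
    rw [card_fixed, show Nat.card (holV ↥W) = Nat.card W from
      (Nat.card_congr (MonoidHom.ofInjective SemidirectProduct.inl_injective).toEquiv).symm]
    set A₁ := A ⊓ centralizer (W : Set X) with hA₁
    have hcomm : W ⊔ A₁ ≤ centralizer ((W ⊔ A₁ : Subgroup X) : Set X) := by
      rw [CfsgLib.Fusion.centralizer_sup_eq]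
      refine sup_le (le_inf (fun w hw => mem_centralizer_iff.2 fun v hv =>
        centreModule_comm hc _ (hWV hv) _ (hWV hw)) (fun w hw => mem_centralizer_iff.2 fun a ha =>
          (mem_centralizer_iff.1 ha.2 w hw).symm)) (le_inf inf_le_right fun a ha =>
            mem_centralizer_iff.2 fun b hb => hAm b hb.1 a ha.1)
    have h1 := hAmax (W ⊔ A₁) (sup_le (hWV.trans (centreModule_le_sylow hc _))
      (inf_le_left.trans hAS)) ⟨⟨fun a b => Subtype.ext
        (mem_centralizer_iff.1 (hcomm b.2) a a.2)⟩⟩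
    have h2 : W ⊓ A₁ ≤ W ⊓ centralizer (A : Set X) := fun x hx =>
      ⟨hx.1, mem_centralizer_iff.2 fun a ha => hAm a ha x hx.2.1⟩
    have h3 := (CfsgLib.Fusion.card_mul_le_sup_inf W A₁).trans
      (Nat.mul_le_mul h1 (card_le_of_le h2))
    have h4 := card_map_mul f A
    rw [hf, nemb_ker, ← hA₁] at h4
    rw [← h4, mul_right_comm] at h3
    exact Nat.le_of_mul_le_mul_right h3 Nat.card_pos
  by_cases hH1 : H = ⊥
  · left
    rw [hH, Subgroup.map_eq_bot_iff, hf, nemb_ker, hCW] at hH1
    exact hH1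
  right
  obtain ⟨n, hn, ⟨ψ⟩⟩ := ctx.exists_mulEquiv_pi hgen hH1
  refine ⟨n, hn, ⟨(((QuotientGroup.quotientMulEquivOfEq ?_).trans
    (QuotientGroup.quotientKerEquivRange (f.comp N.subtype))).trans
      (MulEquiv.subgroupCongr ?_)).trans (ψ.trans
        (MulEquiv.piCongrRight fun _ => Cfsg.Agent.S2759.exists_sl2_equiv.some))⟩⟩
  · rw [← MonoidHom.comap_ker, hf, nemb_ker, hCW]
    rfl
  · rw [MonoidHom.range_comp, range_subtype]

end AbelianThompson

end CfsgLib.FFPair
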