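import Cfsg.Prelude.Def_PLocal
import Cfsg.Agent.Lib.Coprime.Action
import Cfsg.Agent.Lib.Coprime.Hyperplanes
import Cfsg.Agent.Lib.Coprime.Core
import Cfsg.Agent.Lib.Fusion.Sylow
import Cfsg.Agent.Lib.Fusion.OffenderReplacement

/-!
# Failure of factorization pairs: best offenders are products of transvection groups
-/

set_option autoImplicit false
set_option linter.style.haveILetI false
set_option linter.unusedSectionVars false

open Subgroup
open scoped commutatorElement

namespace CfsgLib.FFPair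

universe u

variable {G : Type u} [Group G] [Finite G] {p : ℕ} [Fact p.Prime]

/-- The data of a failure of factorization pair, with `K = O_{p'}(H)`. -/
structure Ctx (p : ℕ) (V H K : Subgroup G) : Prop where
  hV : Cfsg.IsElementaryAbelian p V
  hHV : H ≤ normalizer (V : Set G)
  faith : H ⊓ centralizer (V : Set G) = ⊥
  KH : K ≤ H
  HK : H ≤ normalizer (K : Set G)
  cop : ¬ p ∣ Nat.card K
  cK : H ⊓ centralizer (K : Set G) ≤ K

variable {V H K A B : Subgroup G}

/-- `|V : C_V(A)| = |A|`. -/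
def Sharp (V A : Subgroup G) : Prop :=
  Nat.card A * Nat.card (V ⊓ centralizer (A : Set G) : Subgroup G) = Nat.card V

/-- A transvection group. -/
structure IsT (p : ℕ) (V H B : Subgroup G) : Prop where
  le : B ≤ H
  card : Nat.card B = p
  sharp : Sharp V B

theorem ea_of_le (hAe : Cfsg.IsElementaryAbelian p A) (hB : B ≤ A) :
    Cfsg.IsElementaryAbelian p B :=
  ⟨⟨⟨fun a b => Subtype.ext (by
    simpa using congrArg (fun z : A => (z : G))
      (hAe.1.is_comm.comm (⟨a, hB a.2⟩ : A) ⟨b, hB b.2⟩))⟩⟩, fun a ha => hAe.2 a (hB ha)⟩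

theorem isPGroup_of_ea {E : Subgroup G} (h : Cfsg.IsElementaryAbelian p E) : IsPGroup p E :=
  fun x => ⟨1, Subtype.ext (by simpa using h.2 x x.2)⟩

namespace Ctx

theorem of_pPrimeCore {V H : Subgroup G} (hV : Cfsg.IsElementaryAbelian p V)
    (hHV : H ≤ normalizer (V : Set G)) (hf : H ⊓ centralizer (V : Set G) = ⊥)
    (hS1 : centralizer (Cfsg.pPrimeCore p H : Set H) ≤ Cfsg.pPrimeCore p H) :
    Ctx p V H ((Cfsg.pPrimeCore p H).map H.subtype) where
  hV := hV
  hHV := hHV
  faith := hf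
  KH := map_subtype_le _
  HK := by
    haveI := CfsgLib.Coprime.pPrimeCore_characteristic (G := H) p
    intro h hh
    refine CfsgLib.Fusion.conjBy_eq_iff.1 (CfsgLib.Fusion.conjBy_eq_of_le
      (CfsgLib.Fusion.conjBy_le_iff.2 ?_))
    rintro _ ⟨x, hx, rfl⟩
    exact ⟨⟨h, hh⟩ * x * (⟨h, hh⟩ : H)⁻¹,
      (inferInstance : (Cfsg.pPrimeCore p H).Normal).conj_mem x hx _, rfl⟩
  cop := by
    rw [card_map_of_injective H.subtype_injective]
    exact CfsgLib.Coprime.pPrimeCore_not_dvd Fact.out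
  cK := by
    rintro x ⟨hx, hxc⟩
    refine ⟨⟨x, hx⟩, hS1 (mem_centralizer_iff.2 fun y hy => Subtype.ext ?_), rfl⟩
    exact mem_centralizer_iff.1 hxc (y : G) ⟨y, hy, rfl⟩

variable (X : Ctx p V H K)
include X

theorem comm {v w : G} (hv : v ∈ V) (hw : w ∈ V) : v * w = w * v :=
  congrArg Subtype.val (X.hV.1.is_comm.comm (⟨v, hv⟩ : V) ⟨w, hw⟩)

theorem eq_one {h : G} (hh : h ∈ H) (hc : h ∈ centralizer (V : Set G)) : h = 1 :=
  mem_bot.1 (X.faith.le ⟨hh, hc⟩)

/-- Faithfulness on two generating pieces. -/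
theorem eq_one_of_sup {h : G} (hh : h ∈ H) {U U' : Subgroup G} (hU : V ≤ U ⊔ U')
    (h1 : h ∈ centralizer (U : Set G)) (h2 : h ∈ centralizer (U' : Set G)) : h = 1 := by
  refine X.eq_one hh (centralizer_le hU ?_)
  rw [CfsgLib.Fusion.centralizer_sup_eq]
  exact ⟨h1, h2⟩

theorem inf_centralizer_eq_bot {A : Subgroup G} (hAH : A ≤ H) (hAp : IsPGroup p A) :
    A ⊓ centralizer (K : Set G) = ⊥ := by
  rw [eq_bot_iff]
  rintro a ⟨ha, hac⟩
  have haK : a ∈ K := X.cK ⟨hAH ha, hac⟩
  obtain ⟨n, hn⟩ := hAp ⟨a, ha⟩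
  have h1 : a ^ p ^ n = 1 := congrArg Subtype.val hn
  have h2 : orderOf a ∣ Nat.card K := orderOf_dvd_natCard _ haK
  obtain ⟨j, -, hj⟩ := (Nat.dvd_prime_pow (Fact.out : p.Prime)).1 (orderOf_dvd_of_pow_eq_one h1)
  rcases j with _ | j
  · rw [mem_bot]; exact orderOf_eq_one_iff.1 (by simpa using hj)
  · exact absurd ((dvd_pow_self p (Nat.succ_ne_zero j)).trans (hj ▸ h2)) X.cop

theorem offender_ea (hAH : A ≤ H) (hA : Cfsg.IsBestOffenderOn p V A) :
    Cfsg.IsElementaryAbelian p A := by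
  refine ⟨⟨⟨fun a b => Subtype.ext ?_⟩⟩, fun a ha => X.eq_one (pow_mem (hAH ha) p) (hA.2.2 a ha)⟩
  have h := X.eq_one (mul_mem (mul_mem (mul_mem (hAH a.2) (hAH b.2)) (inv_mem (hAH a.2)))
    (inv_mem (hAH b.2))) (hA.2.1 (commutator_mem_commutator a.2 b.2))
  exact commutatorElement_eq_one_iff_mul_comm.1 h

theorem sharp_bot : Sharp V (⊥ : Subgroup G) := by
  have h : V ⊓ centralizer ((⊥ : Subgroup G) : Set G) = V := inf_eq_left.2 fun v _ =>
    mem_centralizer_iff.2 fun a ha => by rw [mem_bot.1 ha, one_mul, mul_one]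
  rw [Sharp, h, Subgroup.card_bot, one_mul]

/-- A hyperplane whose fixed points on `K` are moved. -/
theorem exists_hyperplane (hAH : A ≤ H) (hAe : Cfsg.IsElementaryAbelian p A) (hA1 : A ≠ ⊥)
    (A₁ : Subgroup G) (hA₁ : A₁ ≤ A) (hne : A₁ = ⊥ ∨ p ^ 2 ≤ Nat.card A) :
    ∃ E : Subgroup G, E ≤ A ∧ E.relIndex A = p ∧ ¬ K ⊓ centralizer (E : Set G) ≤ centralizer (A : Set G) ∧
      (A₁ ≠ ⊥ → E ≠ A₁) := by
  have hfix := X.inf_centralizer_eq_bot hAH (isPGroup_of_ea hAe)
  have hnot : ∀ B : Subgroup G, B ≤ A → K ≤ centralizer (B : Set G) → B = ⊥ := fun B hB h =>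
    eq_bot_iff.2 (le_trans (le_inf hB (le_centralizer_iff.1 h)) hfix.le)
  obtain ⟨m, hm⟩ := IsPGroup.iff_card.1 (isPGroup_of_ea hAe)
  rcases Nat.lt_or_ge (Nat.card A) (p ^ 2) with hlt | hge
  · -- `A` has order `p`
    obtain rfl : A₁ = ⊥ := hne.resolve_right (not_le.2 hlt)
    have hm1 : m = 1 := by
      rw [hm] at hlt
      have := (Nat.pow_lt_pow_iff_right (Fact.out : p.Prime).one_lt).1 hlt
      rcases m with _ | m
      · exact absurd (Subgroup.eq_bot_of_card_eq _ (by simpa using hm)) hA1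
      · omega
    refine ⟨⊥, bot_le, by rw [relIndex_bot_left, hm, hm1, pow_one], fun h => hA1 (hnot A le_rfl ?_),
      fun h => absurd rfl h⟩
    refine le_trans (le_inf le_rfl fun k _ => mem_centralizer_iff.2 fun a ha => ?_) h
    rw [mem_bot.1 ha, one_mul, mul_one]
  · by_contra hcon
    push Not at hcon
    by_cases hA₁b : A₁ = ⊥
    · refine hA1 (hnot A le_rfl ?_)
      refine CfsgLib.Coprime.le_of_hyperplanes hAe hge X.cop (hAH.trans X.HK) fun E hE hEi => ?_
      by_contra hns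
      exact (hcon E hE hEi hns).1 hA₁b
    · refine hA₁b (hnot A₁ hA₁ ?_)
      refine CfsgLib.Coprime.le_of_hyperplanes hAe hge X.cop (hAH.trans X.HK) fun E hE hEi => ?_
      by_cases hns : K ⊓ centralizer (E : Set G) ≤ centralizer (A : Set G)
      · exact hns.trans (centralizer_le hA₁)
      · rw [(hcon E hE hEi hns).2]
        exact inf_le_right

/-- The fixed points on `V` grow strictly towards such a hyperplane. -/
theorem mul_le_of_hyperplane (hAH : A ≤ H) (hAe : Cfsg.IsElementaryAbelian p A) {E : Subgroup G}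
    (hE : E ≤ A) (hEi : E.relIndex A = p)
    (hEm : ¬ K ⊓ centralizer (E : Set G) ≤ centralizer (A : Set G)) :
    Nat.card A * Nat.card (V ⊓ centralizer (A : Set G) : Subgroup G) ≤
      Nat.card E * Nat.card (V ⊓ centralizer (E : Set G) : Subgroup G) := by
  have hle : V ⊓ centralizer (A : Set G) ≤ V ⊓ centralizer (E : Set G) :=
    inf_le_inf_left _ (centralizer_le hE)
  have hlt : V ⊓ centralizer (A : Set G) ≠ V ⊓ centralizer (E : Set G) := by
    intro heq
    obtain ⟨k, ⟨hkK, hkE⟩, hkA⟩ := SetLike.not_le_iff_exists.1 hEm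
    rw [mem_centralizer_iff] at hkA
    push Not at hkA
    obtain ⟨a, ha, hka⟩ := hkA
    have hab : ∀ x ∈ A, ∀ y ∈ A, x * y = y * x := fun x hx y hy =>
      congrArg Subtype.val (hAe.1.is_comm.comm (⟨x, hx⟩ : A) ⟨y, hy⟩)
    set z := k * a * k⁻¹ * a⁻¹ with hz
    have hzK : z ∈ K := by
      rw [hz, show k * a * k⁻¹ * a⁻¹ = k * (a * k⁻¹ * a⁻¹) by group]
      exact mul_mem hkK ((mem_normalizer_iff.1 (X.HK (hAH ha)) _).1 (inv_mem hkK))
    have haE : a ∈ centralizer (E : Set G) :=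
      mem_centralizer_iff.2 fun e he => hab e (hE he) a ha
    have hzE : z ∈ centralizer (E : Set G) :=
      mul_mem (mul_mem (mul_mem hkE haE) (inv_mem hkE)) (inv_mem haE)
    set U := V ⊓ centralizer (E : Set G) with hU
    have hUa : a ∈ centralizer (U : Set G) := mem_centralizer_iff.2 fun w hw =>
      (mem_centralizer_iff.1 (heq.ge hw).2 a ha).symm
    have hkn : k ∈ normalizer (centralizer (U : Set G) : Set G) := by
      refine CfsgLib.Coprime.normalizer_le_normalizer_centralizer U ?_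
      refine CfsgLib.Coprime.inf_le_normalizer (A := zpowers k)
        (zpowers_le.2 (X.hHV (X.KH hkK))) (zpowers_le.2 ?_) (mem_zpowers k)
      exact CfsgLib.Coprime.normalizer_le_normalizer_centralizer E
        (centralizer_le_normalizer _ hkE)
    have hzU : z ∈ centralizer (U : Set G) :=
      mul_mem ((mem_normalizer_iff.1 hkn a).1 hUa) (inv_mem hUa)
    have hZ : zpowers z ≤ centralizer (V : Set G) := by
      refine CfsgLib.Coprime.pq_lemma (p := p) (isPGroup_of_ea hAe |>.to_le hE) ?_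
        (isPGroup_of_ea X.hV) (le_centralizer_iff.1 (zpowers_le.2 hzE))
        (hE.trans (hAH.trans X.hHV)) (zpowers_le.2 (X.hHV (X.KH hzK))) ?_
      · rw [Nat.coprime_comm, (Fact.out : p.Prime).coprime_iff_not_dvd]
        exact fun hd => X.cop (hd.trans (card_dvd_of_le (zpowers_le.2 hzK)))
      · rw [← hU]
        exact le_centralizer_iff.1 (zpowers_le.2 hzU)
    refine hka ?_
    have h1 := X.eq_one (X.KH hzK) (hZ (mem_zpowers z))
    rw [hz, mul_inv_eq_one] at h1
    exact (mul_inv_eq_iff_eq_mul.1 h1).symm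
  obtain ⟨i, hi⟩ := IsPGroup.iff_card.1 ((isPGroup_of_ea X.hV).to_le
    (inf_le_left : V ⊓ centralizer (A : Set G) ≤ V))
  obtain ⟨j, hj⟩ := IsPGroup.iff_card.1 ((isPGroup_of_ea X.hV).to_le
    (inf_le_left : V ⊓ centralizer (E : Set G) ≤ V))
  have hij : i < j := by
    by_contra hji
    refine hlt (eq_of_le_of_card_ge hle ?_)
    rw [hi, hj]
    exact Nat.pow_le_pow_right (Fact.out : p.Prime).pos (not_lt.1 hji)
  have hcA : Nat.card A = p * Nat.card E := by
    have := relIndex_mul_relIndex (⊥ : Subgroup G) E A bot_le hE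
    rw [relIndex_bot_left, relIndex_bot_left, hEi] at this
    rw [← this, mul_comm]
  rw [hcA, hi, hj, mul_comm p, mul_assoc, ← pow_succ']
  exact Nat.mul_le_mul_left _ (Nat.pow_le_pow_right (Fact.out : p.Prime).pos hij)

/-- `|A| |C_V(A)| ≤ |V|`. -/
theorem mul_card_le (hAH : A ≤ H) (hAe : Cfsg.IsElementaryAbelian p A) :
    Nat.card A * Nat.card (V ⊓ centralizer (A : Set G) : Subgroup G) ≤ Nat.card V := by
  induction hn : Nat.card A using Nat.strong_induction_on generalizing A with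
  | _ n ih =>
  subst hn
  by_cases hA1 : A = ⊥
  · subst hA1
    exact X.sharp_bot.le
  obtain ⟨E, hE, hEi, hEm, -⟩ := X.exists_hyperplane hAH hAe hA1 ⊥ bot_le (Or.inl rfl)
  refine (X.mul_le_of_hyperplane hAH hAe hE hEi hEm).trans (ih _ ?_ (hE.trans hAH) ?_ rfl)
  · refine lt_of_le_of_ne (card_le_of_le hE) fun h => ?_
    rw [eq_of_le_of_card_ge hE h.ge, relIndex_self] at hEi
    exact (Fact.out : p.Prime).one_lt.ne hEi
  · exact ea_of_le hAe hE

theorem sharp_of_offender (hAH : A ≤ H) (hA : Cfsg.IsBestOffenderOn p V A) : Sharp V A := by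
  refine le_antisymm (X.mul_card_le hAH (X.offender_ea hAH hA)) ?_
  have h := hA.1 ⊥ bot_le
  rwa [X.sharp_bot] at h

theorem offender_of_sharp (hAH : A ≤ H) (hAe : Cfsg.IsElementaryAbelian p A) (hs : Sharp V A) :
    Cfsg.IsBestOffenderOn p V A := by
  refine ⟨fun B hB => (X.mul_card_le (hB.trans hAH) (ea_of_le hAe hB)).trans hs.ge,
    commutator_le.2 fun a ha b hb => ?_, fun a ha => by rw [hAe.2 a ha]; exact one_mem _⟩
  rw [commutatorElement_eq_one_iff_mul_comm.2
    (congrArg Subtype.val (hAe.1.is_comm.comm (⟨a, ha⟩ : A) ⟨b, hb⟩))]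
  exact one_mem _

theorem IsT.ea (hB : IsT p V H B) : Cfsg.IsElementaryAbelian p B := by
  haveI := isCyclic_of_prime_card hB.card
  refine ⟨IsCyclic.isMulCommutative, fun b hb => ?_⟩
  have h := pow_card_eq_one' (x := (⟨b, hb⟩ : B))
  rw [hB.card] at h
  exact congrArg Subtype.val h

theorem commutator_ne_bot (hBH : B ≤ H) (hB1 : B ≠ ⊥) : ⁅V, B⁆ ≠ ⊥ := fun h =>
  hB1 (eq_bot_iff.2 fun b hb => mem_bot.2 (X.eq_one (hBH hb)
    ((le_centralizer_iff.1 (commutator_eq_bot_iff_le_centralizer.1 h)) hb)))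

/-- A sharp group is a product of independent transvection groups. -/
theorem exists_product (hAH : A ≤ H) (hAe : Cfsg.IsElementaryAbelian p A) (hs : Sharp V A) :
    ∃ (k : ℕ) (B : Fin k → Subgroup G), (∀ i, B i ≤ A ∧ IsT p V H (B i)) ∧ iSupIndep B ∧
      ⨆ i, B i = A := by
  induction hn : Nat.card A using Nat.strong_induction_on generalizing A with
  | _ n ih =>
  subst hn
  have hp : p.Prime := Fact.out
  by_cases hA1 : A = ⊥
  · subst hA1
    exact ⟨0, Fin.elim0, fun i => i.elim0, fun i => i.elim0, iSup_of_empty _⟩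
  have step : ∀ E : Subgroup G, E ≤ A → E.relIndex A = p →
      ¬ K ⊓ centralizer (E : Set G) ≤ centralizer (A : Set G) → Sharp V E ∧ Nat.card E < Nat.card A := by
    intro E hE hEi hEm
    refine ⟨le_antisymm (X.mul_card_le (hE.trans hAH) (ea_of_le hAe hE))
      (hs.ge.trans (X.mul_le_of_hyperplane hAH hAe hE hEi hEm)), lt_of_le_of_ne (card_le_of_le hE) ?_⟩
    intro h
    rw [eq_of_le_of_card_ge hE h.ge, relIndex_self] at hEi
    exact hp.one_lt.ne hEi
  obtain ⟨E, hE, hEi, hEm, -⟩ := X.exists_hyperplane hAH hAe hA1 ⊥ bot_le (Or.inl rfl)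
  obtain ⟨hEs, hElt⟩ := step E hE hEi hEm
  obtain ⟨k, B, hB, hBi, hBs⟩ := ih _ hElt (hE.trans hAH) (ea_of_le hAe hE) hEs rfl
  -- a transvection group outside `E`
  obtain ⟨T, hTA, hT, hTE⟩ : ∃ T, T ≤ A ∧ IsT p V H T ∧ ¬ T ≤ E := by
    have hcA : Nat.card A = p * Nat.card E := by
      have := relIndex_mul_relIndex (⊥ : Subgroup G) E A bot_le hE
      rw [relIndex_bot_left, relIndex_bot_left, hEi] at this
      rw [← this, mul_comm]
    by_cases hE1 : E = ⊥
    · subst hE1
      rw [Subgroup.card_bot, mul_one] at hcA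
      exact ⟨A, le_rfl, ⟨hAH, hcA, hs⟩, fun h => hA1 (le_bot_iff.1 h)⟩
    have h2 : p ^ 2 ≤ Nat.card A := by
      rw [hcA, pow_two]
      refine Nat.mul_le_mul_left _ ?_
      obtain ⟨j, hj⟩ := IsPGroup.iff_card.1 ((isPGroup_of_ea hAe).to_le hE)
      rcases j with _ | j
      · exact absurd (Subgroup.eq_bot_of_card_eq _ (by simpa using hj)) hE1
      · rw [hj]; exact Nat.le_self_pow (Nat.succ_ne_zero j) p
    obtain ⟨E', hE', hE'i, hE'm, hEE'⟩ := X.exists_hyperplane hAH hAe hA1 E hE (Or.inr h2)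
    obtain ⟨hE's, hE'lt⟩ := step E' hE' hE'i hE'm
    obtain ⟨k', B', hB', -, hB's⟩ := ih _ hE'lt (hE'.trans hAH) (ea_of_le hAe hE') hE's rfl
    have : ¬ E' ≤ E := fun h => hEE' hE1 (eq_of_le_of_card_ge h (by
      have := relIndex_mul_relIndex (⊥ : Subgroup G) E' A bot_le hE'
      rw [relIndex_bot_left, relIndex_bot_left, hE'i, hcA, mul_comm p] at this
      exact (Nat.eq_of_mul_eq_mul_right hp.pos this).ge))
    rw [← hB's, iSup_le_iff] at this
    push Not at this
    obtain ⟨i, hi⟩ := this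
    exact ⟨B' i, (hB' i).1.trans hE', (hB' i).2, hi⟩
  have hTd : T ⊓ E = ⊥ := by
    rcases ((T ⊓ E).subgroupOf T).eq_bot_or_eq_top_of_prime_card (hp := hT.card ▸ Fact.mk hp) with h | h
    · rw [subgroupOf_eq_bot] at h
      exact eq_bot_iff.2 fun x hx => h.le_bot ⟨hx, hx.1⟩
    · exact absurd ((subgroupOf_eq_top.1 h).trans inf_le_right) hTE
  have hTE' : T ⊔ E = A := by
    refine le_antisymm (sup_le hTA hE) ?_
    have hlt : E < T ⊔ E := lt_of_le_of_ne le_sup_right fun h => hTE (h ▸ le_sup_left)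
    have h1 := relIndex_mul_relIndex E (T ⊔ E) A hlt.le (sup_le hTA hE)
    rw [hEi] at h1
    rcases (Nat.dvd_prime hp).1 (Dvd.intro _ h1) with h | h
    · exact absurd (relIndex_eq_one.1 h) hlt.not_ge
    · rw [h] at h1
      exact relIndex_eq_one.1 (mul_eq_left₀ hp.ne_zero |>.1 h1)
  have hab : ∀ x ∈ A, ∀ y ∈ A, x * y = y * x := fun x hx y hy =>
    congrArg Subtype.val (hAe.1.is_comm.comm (⟨x, hx⟩ : A) ⟨y, hy⟩)
  refine ⟨k + 1, Fin.cons T B, fun i => ?_, ?_, ?_⟩
  · induction i using Fin.cases with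
    | zero => exact ⟨hTA, hT⟩
    | succ i => exact ⟨(hB i).1.trans hE, (hB i).2⟩
  · intro i
    rw [disjoint_iff]
    induction i using Fin.cases with
    | zero =>
      refine eq_bot_iff.2 (le_trans (le_inf inf_le_left (inf_le_right.trans (iSup₂_le fun j hj => ?_))) hTd.le)
      induction j using Fin.cases with
      | zero => exact absurd rfl hj
      | succ j => rw [Fin.cons_succ, ← hBs]; exact le_iSup B j
    | succ i =>
      rw [Fin.cons_succ]
      set O := ⨆ j, ⨆ (_ : j ≠ i), B j with hO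
      have hOE : O ≤ E := iSup₂_le fun j _ => (hB j).1
      have hle : (⨆ j, ⨆ (_ : j ≠ i.succ), (Fin.cons T B : Fin (k + 1) → Subgroup G) j) ≤ T ⊔ O := by
        refine iSup₂_le fun j hj => ?_
        induction j using Fin.cases with
        | zero => exact le_sup_left
        | succ j =>
          rw [Fin.cons_succ]
          exact le_sup_of_le_right (le_iSup₂_of_le j (fun e => hj (by rw [e])) le_rfl)
      refine eq_bot_iff.2 fun x hx => ?_
      have hTn : O ≤ normalizer (T : Set G) := fun o ho => mem_normalizer_iff.2 fun t => by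
        constructor
        · intro ht
          rwa [hab o (hE (hOE ho)) t (hTA ht), mul_inv_cancel_right]
        · intro ht
          have h := hab o (hE (hOE ho)) _ (hTA ht)
          rw [show o * t * o⁻¹ * o = o * t by group] at h
          rwa [mul_left_cancel h] at ht
      obtain ⟨t, ht, o, ho, rfl⟩ := CfsgLib.Coprime.mem_sup_exists hTn (hle hx.2)
      have htE : t ∈ E := by
        have := mul_mem ((hB i).1 hx.1) (inv_mem (hOE ho))
        rwa [mul_inv_cancel_right] at this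
      have ht1 : t = 1 := mem_bot.1 (hTd.le ⟨ht, htE⟩)
      subst ht1
      rw [one_mul] at hx ⊢
      exact (hBi i).le_bot ⟨hx.1, ho⟩
  · refine le_antisymm (iSup_le fun i => ?_) ?_
    · induction i using Fin.cases with
      | zero => exact hTA
      | succ i => exact (hB i).1.trans hE
    · rw [← hTE', ← hBs]
      refine sup_le ?_ (iSup_le fun i => ?_)
      · exact le_iSup_of_le 0 le_rfl
      · exact le_iSup_of_le i.succ (by rw [Fin.cons_succ])

theorem isT_of_minimal (hAH : A ≤ H) (hA : Cfsg.IsBestOffenderOn p V A) (hAV : ⁅V, A⁆ ≠ ⊥)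
    (hmin : ∀ B : Subgroup G, B ≤ A → Cfsg.IsBestOffenderOn p V B → ⁅V, B⁆ ≠ ⊥ → B = A) :
    IsT p V H A := by
  obtain ⟨k, B, hB, -, hBs⟩ := X.exists_product hAH (X.offender_ea hAH hA) (X.sharp_of_offender hAH hA)
  rcases k with _ | k
  · refine absurd ?_ hAV
    rw [← hBs, iSup_of_empty, commutator_bot_right]
  have hT := (hB 0).2
  have hne : B 0 ≠ ⊥ := fun h => (Fact.out : p.Prime).one_lt.ne'
    (by rw [← hT.card, h, Subgroup.card_bot])
  rw [← hmin _ (hB 0).1 (X.offender_of_sharp hT.le (IsT.ea (X := X) hT) hT.sharp)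
    (X.commutator_ne_bot hT.le hne)]
  exact hT

theorem minimal_of_isT (hT : IsT p V H A) :
    Cfsg.IsBestOffenderOn p V A ∧ ⁅V, A⁆ ≠ ⊥ ∧
      ∀ B : Subgroup G, B ≤ A → Cfsg.IsBestOffenderOn p V B → ⁅V, B⁆ ≠ ⊥ → B = A := by
  have hne : A ≠ ⊥ := fun h => (Fact.out : p.Prime).one_lt.ne'
    (by rw [← hT.card, h, Subgroup.card_bot])
  refine ⟨X.offender_of_sharp hT.le (IsT.ea (X := X) hT) hT.sharp,
    X.commutator_ne_bot hT.le hne, fun B hB _ hBV => ?_⟩
  rcases (B.subgroupOf A).eq_bot_or_eq_top_of_prime_card (hp := hT.card ▸ Fact.mk Fact.out) with h | h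
  · rw [subgroupOf_eq_bot] at h
    exact absurd (by rw [(disjoint_self.1 (h.mono_right hB)), commutator_bot_right]) hBV
  · exact le_antisymm hB (subgroupOf_eq_top.1 h)

theorem iSup_isT (hS3 : H = ⨆ A : {A : Subgroup G // A ≤ H ∧ Cfsg.IsBestOffenderOn p V A},
    (A : Subgroup G)) : H = ⨆ B : {B : Subgroup G // IsT p V H B}, (B : Subgroup G) := by
  refine le_antisymm ?_ (iSup_le fun B => B.2.le)
  conv_lhs => rw [hS3]
  refine iSup_le fun A => ?_
  obtain ⟨k, B, hB, -, hBs⟩ := X.exists_product A.2.1 (X.offender_ea A.2.1 A.2.2)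
    (X.sharp_of_offender A.2.1 A.2.2)
  rw [← hBs]
  exact iSup_le fun i => le_iSup (fun B : {B : Subgroup G // IsT p V H B} => (B : Subgroup G))
    ⟨B i, (hB i).2⟩

end Ctx

end CfsgLib.FFPair
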