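import Cfsg.Agent.Lib.Fusion.FFPair.Holomorph

/-!
# The failure of Thompson factorization in `p`-solvable groups of characteristic `p`
-/

set_option autoImplicit false
set_option linter.style.haveILetI false
set_option linter.unusedSectionVars false

open Subgroup

namespace CfsgLib.FFPair

universe u

variable {G : Type u} [Group G] [Finite G] {p : ℕ} [Fact p.Prime]

/-- The module generated by the `Ω₁` of the centres of the Sylow subgroups. -/
abbrev sylowModule (p : ℕ) (G : Type u) [Group G] : Subgroup G :=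
  ⨆ S : Sylow p G, CfsgLib.Fusion.sylowZ p (S : Subgroup G)

instance sylowModule_normal_inst : (sylowModule p G).Normal := CfsgLib.Fusion.sylowModule_normal

theorem sylowModule_ea (hsep : Cfsg.IsPSolvable p G) (hO : Cfsg.pPrimeCore p G = ⊥) :
    Cfsg.IsElementaryAbelian p (sylowModule p G) :=
  CfsgLib.Fusion.sylowModule_elementary
    (CfsgLib.Block.centralizer_pCore_le_of_isPSolvable hsep hO)

theorem pCore_quotient_sylowModule :
    Cfsg.pCore p (G ⧸ centralizer (sylowModule p G : Set G)) = ⊥ := by
  haveI : (centralizer (sylowModule p G : Set G)).Normal := normal_centralizer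
  set C := centralizer (sylowModule p G : Set G) with hC
  haveI := CfsgLib.Coprime.pCore_normal' (G := G ⧸ C) p
  set D := (Cfsg.pCore p (G ⧸ C)).comap (QuotientGroup.mk' C) with hD
  haveI : D.Normal := Normal.comap inferInstance _
  have hCD : C ≤ D := fun c hc => by
    show QuotientGroup.mk' C c ∈ Cfsg.pCore p _
    rw [show QuotientGroup.mk' C c = 1 from (QuotientGroup.eq_one_iff c).2 hc]
    exact one_mem _
  obtain ⟨k, hk⟩ := (CfsgLib.Coprime.pCore_isPGroup (G := G ⧸ C) p).exists_card_eq
  have hkD : C.relIndex D = p ^ k := by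
    have h := relIndex_comap (f := QuotientGroup.mk' C) ⊥ D
    rw [MonoidHom.comap_bot, QuotientGroup.ker_mk', relIndex_bot_left,
      map_comap_eq_self_of_surjective (QuotientGroup.mk'_surjective C)] at h
    rw [h, hk]
  have hDC : D = C := CfsgLib.Fusion.eq_centralizer_of_generated (sylowModule p G)
    (fun S : Sylow p G => CfsgLib.Fusion.sylowZ p (S : Subgroup G))
    (fun S => (CfsgLib.Fusion.sylowZ_le _).trans inf_le_right) rfl D hCD ⟨k, hkD⟩
  rw [← map_comap_eq_self_of_surjective (QuotientGroup.mk'_surjective C) (Cfsg.pCore p (G ⧸ C)),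
    ← hD, hDC, QuotientGroup.map_mk'_self]

instance thompsonSubgroup_normal_inst : (Cfsg.thompsonSubgroup p G).Normal := by
  refine ⟨fun x hx g => ?_⟩
  have h : (Cfsg.thompsonSubgroup p G).map (MulAut.conj g).toMonoidHom ≤
      Cfsg.thompsonSubgroup p G := by
    rw [map_le_iff_le_comap]
    refine sSup_le fun A hA => map_le_iff_le_comap.1 (le_sSup
      ⟨CfsgLib.Fusion.isElementaryAbelian_map _ hA.1, fun B hB => ?_⟩)
    rw [card_map_of_injective (MulAut.conj g).injective]
    exact hA.2 B hB
  exact h ⟨x, hx, rfl⟩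

/-- The image of the Thompson subgroup on the module. -/
abbrev thompsonImage (p : ℕ) (G : Type u) [Group G] [Finite G] [Fact p.Prime] :
    Subgroup (Hol ↥(sylowModule p G)) :=
  (Cfsg.thompsonSubgroup p G).map (nemb (sylowModule p G))

/-- Its `p'`-core. -/
abbrev thompsonImageCore (p : ℕ) (G : Type u) [Group G] [Finite G] [Fact p.Prime] :
    Subgroup (Hol ↥(sylowModule p G)) :=
  (Cfsg.pPrimeCore p ↥(thompsonImage p G)).map (thompsonImage p G).subtype

theorem centralizer_iSup_coe {ι : Sort*} (f : ι → Subgroup G) :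
    centralizer ((⨆ i, (f i : Set G)) : Set G) = centralizer ((⨆ i, f i : Subgroup G) : Set G) := by
  refine le_antisymm (le_centralizer_iff.2 (iSup_le fun i => ?_))
    (centralizer_le (iSup_le fun i => (le_iSup f i : f i ≤ ⨆ i, f i)))
  rw [le_centralizer_iff]
  exact centralizer_le (le_iSup (fun i => (f i : Set G)) i)

variable (hsep : Cfsg.IsPSolvable p G) (hO : Cfsg.pPrimeCore p G = ⊥)
include hsep hO

theorem thompson_ctx : Ctx p (holV ↥(sylowModule p G)) (thompsonImage p G) (thompsonImageCore p G) :=
  ctx_nemb (sylowModule_ea hsep hO) hsep pCore_quotient_sylowModule _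

theorem thompson_gen : thompsonImage p G =
    ⨆ B : {B : Subgroup (Hol ↥(sylowModule p G)) //
      IsT p (holV ↥(sylowModule p G)) (thompsonImage p G) B}, (B : Subgroup _) := by
  refine (thompson_ctx hsep hO).iSup_isT (le_antisymm ?_ (iSup_le fun A : {A : Subgroup (Hol ↥(sylowModule p G)) // A ≤ thompsonImage p G ∧ Cfsg.IsBestOffenderOn p (holV ↥(sylowModule p G)) A} => A.2.1))
  show (sSup (Cfsg.maxElementaryAbelianSubgroups p G)).map _ ≤ _
  rw [map_le_iff_le_comap]
  refine sSup_le fun A hA => map_le_iff_le_comap.1 ?_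
  exact le_iSup (fun A : {A : Subgroup (Hol ↥(sylowModule p G)) // A ≤ thompsonImage p G ∧
      Cfsg.IsBestOffenderOn p (holV ↥(sylowModule p G)) A} => (A : Subgroup (Hol ↥(sylowModule p G))))
    ⟨A.map (nemb (sylowModule p G)), map_mono (le_sSup hA),
      maxEA_offender (sylowModule_ea hsep hO) hA⟩

theorem exists_isT_of_not_factorizable (hnf : ¬ Cfsg.IsThompsonFactorizable p G) :
    ∃ A, IsT p (holV ↥(sylowModule p G)) (thompsonImage p G) A := by
  by_contra hne
  refine hnf ((CfsgLib.Fusion.thompsonFactorizable_iff hO).2 ?_)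
  have h : thompsonImage p G = ⊥ := by
    rw [thompson_gen hsep hO]
    exact iSup_eq_bot.2 fun B => absurd ⟨B.1, B.2⟩ hne
  rwa [Subgroup.map_eq_bot_iff, nemb_ker] at h

end CfsgLib.FFPair
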