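import Cfsg.Agent.Lib.Fusion.FFPair.Operators
import Cfsg.Agent.Lib.Fusion.FFPair.Thompson

/-!
# Coprime operators on a `p`-solvable group failing Thompson factorization
-/

set_option autoImplicit false
set_option linter.style.haveILetI false
set_option linter.unusedSectionVars false

open Subgroup

namespace CfsgLib.FFPair

universe u v

theorem sylowModule_aut {M : Type u} [Group M] [Finite M] {p : ℕ} [Fact p.Prime] (σ : MulAut M) :
    (sylowModule p M).map σ.toMonoidHom ≤ sylowModule p M := by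
  rw [sylowModule, Subgroup.map_iSup]
  refine iSup_le fun S => le_of_le_of_eq ?_ rfl
  rw [CfsgLib.Fusion.omega_map_eq _ σ.injective, CfsgLib.Fusion.inf_centralizer_map_eq _ σ.injective]
  refine (le_of_eq ?_).trans (le_iSup (fun S : Sylow p M => CfsgLib.Fusion.sylowZ p (S : Subgroup M))
    (S.mapSurjective (f := σ.toMonoidHom) σ.surjective))
  rfl

theorem thompsonSubgroup_aut {M : Type u} [Group M] [Finite M] {p : ℕ} (σ : MulAut M) :
    (Cfsg.thompsonSubgroup p M).map σ.toMonoidHom ≤ Cfsg.thompsonSubgroup p M := by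
  rw [map_le_iff_le_comap]
  refine sSup_le fun A hA => map_le_iff_le_comap.1 (le_sSup
    ⟨CfsgLib.Fusion.isElementaryAbelian_map _ hA.1, fun B hB => ?_⟩)
  rw [card_map_of_injective σ.injective]
  exact hA.2 B hB

/-- Automorphisms restricted to an invariant subgroup. -/
def restrictAut {M : Type u} [Group M] (U : Subgroup M)
    (hU : ∀ (σ : MulAut M), ∀ u ∈ U, σ u ∈ U) : MulAut M →* MulAut ↥U where
  toFun σ :=
    { toFun := fun u => ⟨σ u, hU σ u u.2⟩
      invFun := fun u => ⟨σ.symm u, hU σ.symm u u.2⟩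
      left_inv := fun u => Subtype.ext (σ.symm_apply_apply u)
      right_inv := fun u => Subtype.ext (σ.apply_symm_apply u)
      map_mul' := fun u w => Subtype.ext (map_mul σ (u : M) w) }
  map_one' := MulEquiv.ext fun _ => Subtype.ext rfl
  map_mul' _ _ := MulEquiv.ext fun _ => Subtype.ext rfl

variable {G : Type u} [Group G] [Finite G] {p : ℕ} [Fact p.Prime] {q : ℕ} [Fact q.Prime]
variable (K X : Subgroup G) (hXK : X ≤ normalizer (K : Set G))

/-- The operators on `K`. -/
abbrev opAut : ↥X →* MulAut ↥K := K.normalizerMonoidHom.comp (inclusion hXK)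

/-- The operators in the extension of the module. -/
noncomputable abbrev opHol : ↥X →* Hol ↥(sylowModule p ↥K) :=
  SemidirectProduct.inr.comp ((restrictAut (sylowModule p ↥K)
    fun σ u hu => sylowModule_aut σ ⟨u, hu, rfl⟩).comp (opAut K X hXK))

theorem opHol_conj_inl (x : ↥X) (v : ↥(sylowModule p ↥K)) :
    opHol (p := p) K X hXK x * SemidirectProduct.inl v * (opHol (p := p) K X hXK x)⁻¹ =
      SemidirectProduct.inl ⟨opAut K X hXK x v, sylowModule_aut _ ⟨v, v.2, rfl⟩⟩ :=
  inr_conj _ v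

theorem opHol_conj_nemb (x : ↥X) (k : ↥K) :
    opHol (p := p) K X hXK x * nemb (sylowModule p ↥K) k * (opHol (p := p) K X hXK x)⁻¹ =
      nemb (sylowModule p ↥K) (opAut K X hXK x k) := by
  show SemidirectProduct.inr _ * SemidirectProduct.inr _ * (SemidirectProduct.inr _)⁻¹ =
    SemidirectProduct.inr _
  rw [← map_inv, ← map_mul, ← map_mul]
  refine congrArg _ (MulEquiv.ext fun v => Subtype.ext ?_)
  rw [MulAut.conjNormal_apply]
  show opAut K X hXK x (MulAut.conjNormal k
    ⟨(opAut K X hXK x).symm v, sylowModule_aut _ ⟨v, v.2, rfl⟩⟩ : ↥(sylowModule p ↥K)) = _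
  rw [MulAut.conjNormal_apply, map_mul, map_mul, map_inv, MulEquiv.apply_symm_apply]

variable (hX : Cfsg.IsElementaryAbelian q X) (hq : ¬ q ∣ Nat.card K)
include hXK hX hq

theorem isOperators :
    IsOperators q (holV ↥(sylowModule p ↥K)) (thompsonImage p ↥K) (thompsonImageCore p ↥K)
      (opHol (p := p) K X hXK).range := by
  have hnH : (opHol (p := p) K X hXK).range ≤
      normalizer (thompsonImage p ↥K : Set (Hol ↥(sylowModule p ↥K))) := by
    rintro _ ⟨x, rfl⟩
    refine CfsgLib.Fusion.conjBy_eq_iff.1 (CfsgLib.Fusion.conjBy_eq_of_le ?_)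
    rw [CfsgLib.Fusion.conjBy_le_iff]
    rintro _ ⟨k, hk, rfl⟩
    rw [opHol_conj_nemb]
    exact mem_map_of_mem _ (thompsonSubgroup_aut _ ⟨k, hk, rfl⟩)
  refine ⟨?_, le_normalizer_holV _, hnH, hnH.trans ?_, fun h => hq ?_⟩
  · exact (isPGroup_of_ea hX).of_surjective _ (opHol (p := p) K X hXK).rangeRestrict_surjective
  · intro g hg
    refine CfsgLib.Fusion.conjBy_eq_iff.1 (CfsgLib.Fusion.conjBy_eq_of_le ?_)
    rw [CfsgLib.Fusion.conjBy_le_iff]
    rintro _ ⟨y, hy, rfl⟩
    exact ⟨(thompsonImage p ↥K).normalizerMonoidHom ⟨g, hg⟩ y,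
      (CfsgLib.Coprime.map_pPrimeCore_equiv _ p).le ⟨y, hy, rfl⟩, rfl⟩
  · exact h.trans ((CfsgLib.Coprime.card_map_dvd_card _ _).trans (card_subgroup_dvd_card _))

/-- Fixed points of the operators on the image lift to fixed points in `K`. -/
theorem exists_fixed_lift {d : Hol ↥(sylowModule p ↥K)} (hd : d ∈ thompsonImage p ↥K)
    (hdQ : d ∈ centralizer ((opHol (p := p) K X hXK).range : Set (Hol ↥(sylowModule p ↥K)))) :
    ∃ k : ↥K, (k : G) ∈ centralizer (X : Set G) ∧ nemb (sylowModule p ↥K) k = d := by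
  obtain ⟨m, -, rfl⟩ := hd
  set N := (nemb (sylowModule p ↥K)).ker.map K.subtype with hN
  have hfix : ∀ x : ↥X, (opAut K X hXK x m : ↥K) * m⁻¹ ∈ (nemb (sylowModule p ↥K)).ker := by
    intro x
    rw [MonoidHom.mem_ker, map_mul, map_inv, ← opHol_conj_nemb,
      mem_centralizer_iff.1 hdQ _ ⟨x, rfl⟩, mul_inv_cancel_right, mul_inv_cancel]
  have hNX : X ≤ normalizer (N : Set G) := by
    intro x hx
    refine CfsgLib.Fusion.conjBy_eq_iff.1 (CfsgLib.Fusion.conjBy_eq_of_le ?_)
    rw [CfsgLib.Fusion.conjBy_le_iff]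
    rintro _ ⟨k, hk, rfl⟩
    refine ⟨opAut K X hXK ⟨x, hx⟩ k, ?_, rfl⟩
    rw [SetLike.mem_coe, MonoidHom.mem_ker, ← opHol_conj_nemb, MonoidHom.mem_ker.1 hk, mul_one,
      mul_inv_cancel]
  have hcop : (Nat.card X).Coprime (Nat.card N) := by
    obtain ⟨n, hn⟩ := (isPGroup_of_ea hX).exists_card_eq
    rw [hn]
    exact ((Fact.out : q.Prime).coprime_iff_not_dvd.2
      fun h => hq (h.trans (card_dvd_of_le (map_subtype_le _)))).pow_left n
  have hmN : (m : G) ∈ normalizer (N : Set G) := by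
    refine CfsgLib.Fusion.conjBy_eq_iff.1 (CfsgLib.Fusion.conjBy_eq_of_le ?_)
    rw [CfsgLib.Fusion.conjBy_le_iff]
    rintro _ ⟨k, hk, rfl⟩
    exact ⟨m * k * m⁻¹, (inferInstance : (nemb (sylowModule p ↥K)).ker.Normal).conj_mem k hk m, rfl⟩
  obtain ⟨n, hn, hc⟩ := CfsgLib.Coprime.exists_fixed_in_coset hNX hcop
    (Or.inl (CfsgLib.Coprime.isSolvable_of_isMulCommutative hX.1)) hmN
    fun x hx => ⟨_, hfix ⟨x, hx⟩, rfl⟩
  obtain ⟨n', hn', rfl⟩ := hn
  exact ⟨m * n', hc, by rw [map_mul, MonoidHom.mem_ker.1 hn', mul_one]⟩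

/-- The subgroup generated by the Thompson normalizer, the centralizer of `Ω₁(Z(S))` and the fixed
points of the operators. -/
theorem coprime_generation (hsep : Cfsg.IsPSolvable p ↥K) (hO : Cfsg.pPrimeCore p ↥K = ⊥)
    (S : Sylow p ↥K) (M : Subgroup ↥K)
    (h1 : normalizer (Cfsg.thompsonSubgroupOf p (S : Subgroup ↥K) : Set ↥K) ≤ M)
    (h2 : centralizer (CfsgLib.Fusion.sylowZ p (S : Subgroup ↥K) : Set ↥K) ≤ M)
    (h3 : (centralizer (X : Set G)).subgroupOf K ≤ M) : M = ⊤ := by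
  haveI : (centralizer (sylowModule p ↥K : Set ↥K)).Normal := normal_centralizer
  set C := centralizer (sylowModule p ↥K : Set ↥K) with hC
  set L := Cfsg.thompsonSubgroup p ↥K ⊔ C with hL
  haveI : L.Normal := sup_normal _ _
  set T := (S : Subgroup ↥K) ⊓ L with hT
  have hTi : ¬ p ∣ T.relIndex L := CfsgLib.Fusion.not_dvd_relIndex_inf_of_normal S L
  have hTp : IsPGroup p T := S.2.to_le inf_le_left
  have hJT : Cfsg.thompsonSubgroupOf p T = Cfsg.thompsonSubgroupOf p (S : Subgroup ↥K) := by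
    have hJL : Cfsg.thompsonSubgroupOf p (S : Subgroup ↥K) ≤ L :=
      (CfsgLib.Fusion.thompsonSubgroupOf_le_whole S).trans le_sup_left
    rw [CfsgLib.Fusion.thompsonSubgroupOf_eq, CfsgLib.Fusion.thompsonSubgroupOf_eq]
    refine congrArg sSup (Set.ext fun A => ⟨fun hA => ?_, fun hA => ?_⟩)
    · obtain ⟨A₀, h₀⟩ := CfsgLib.Fusion.exists_isMaxEA p (S : Subgroup ↥K)
      exact ⟨hA.1.trans inf_le_left, hA.2.1, fun B hB hBe => (h₀.2.2 B hB hBe).trans
        (hA.2.2 A₀ (le_inf h₀.1 ((CfsgLib.Fusion.le_thompsonSubgroupOf h₀).trans hJL)) h₀.2.1)⟩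
    · exact ⟨le_inf hA.1 ((CfsgLib.Fusion.le_thompsonSubgroupOf hA).trans hJL), hA.2.1,
        fun B hB hBe => hA.2.2 B (hB.trans inf_le_left) hBe⟩
  have hSM : (S : Subgroup ↥K) ≤ M :=
    le_trans (le_normalizer.trans (CfsgLib.Fusion.normalizer_le_normalizer_thompsonSubgroupOf _)) h1
  have hCM : C ≤ M := (centralizer_le (le_iSup
    (fun S : Sylow p ↥K => CfsgLib.Fusion.sylowZ p (S : Subgroup ↥K)) S)).trans h2
  -- the image of `L` lies in the image of `M`
  have X' := thompson_ctx hsep hO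
  have hgen := thompson_gen hsep hO
  have O := isOperators (p := p) K X hXK hX hq
  have hLmap : L.map (nemb (sylowModule p ↥K)) = thompsonImage p ↥K := by
    rw [hL, Subgroup.map_sup, sup_eq_left]
    refine ((Subgroup.map_eq_bot_iff C).2 ?_).le.trans bot_le
    rw [nemb_ker]
  have hTbar : ¬ p ∣ (T.map (nemb (sylowModule p ↥K))).relIndex (thompsonImage p ↥K) := by
    have hkL : (nemb (sylowModule p ↥K)).ker ≤ L := nemb_ker.le.trans le_sup_right
    rw [← hLmap, relIndex_map_map, sup_eq_left.2 hkL]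
    exact fun h => hTi (h.trans (relIndex_dvd_of_le_left _ le_sup_left))
  set Mb := M.map (nemb (sylowModule p ↥K)) with hMb
  have hTM : T.map (nemb (sylowModule p ↥K)) ≤ Mb := map_mono (inf_le_left.trans hSM)
  have hfac : ∀ A, IsT p (holV ↥(sylowModule p ↥K)) (thompsonImage p ↥K) A → A ≤ Mb →
      factor (thompsonImageCore p ↥K) A ≤ Mb := by
    intro A hA hAM
    have hcop : (Nat.card A).Coprime (Nat.card (thompsonImageCore p ↥K)) := by
      rw [hA.card]
      exact (Fact.out : p.Prime).coprime_iff_not_dvd.2 X'.cop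
    have e := CfsgLib.Coprime.commutator_commutator_eq (hA.le.trans X'.HK) hcop
      (Or.inl (CfsgLib.Coprime.isSolvable_of_isMulCommutative (Ctx.IsT.ea (X := X') hA).1))
    refine sup_le ?_ hAM
    rw [← e]
    refine commutator_le.2 fun κ hκ a ha => ?_
    obtain ⟨d, ⟨hdH, hdQ⟩, hd⟩ := X'.exists_fixed_conj O hgen hA
      (k := κ) (mem_sup_left hκ : κ ∈ factor (thompsonImageCore p ↥K) A)
    obtain ⟨k, hk, rfl⟩ := exists_fixed_lift K X hXK hX hq hdH hdQ
    rw [commutatorElement_def, ← hd a (mem_sup_right ha)]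
    have hkM : nemb (sylowModule p ↥K) k ∈ Mb := mem_map_of_mem _ (h3 (mem_subgroupOf.2 hk))
    exact mul_mem (mul_mem (mul_mem hkM (hAM ha)) (inv_mem hkM)) (inv_mem (hAM ha))
  have hHM : thompsonImage p ↥K ≤ Mb := by
    conv_lhs => rw [hgen]
    refine iSup_le fun B => ?_
    obtain ⟨h, hh, hB⟩ := CfsgLib.Fusion.exists_conj_le_of_not_dvd_relIndex (hTp.map _)
      ((map_mono inf_le_right).trans hLmap.le) hTbar
      (IsPGroup.of_card (n := 1) (by rw [B.2.card, pow_one])) B.2.le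
    have hA := (X'.isT_conj B.2 hh).1
    refine le_trans (fun b hb => ?_) (hfac _ hA (hB.trans hTM))
    exact (mem_normalizer_iff.1 (X'.H_le_normalizer hgen hA hh) b).2
      (mem_sup_right (CfsgLib.Fusion.conj_mem_conjBy hb))
  have hLM : L ≤ M := by
    refine le_trans ?_ (sup_le le_rfl hCM : M ⊔ C ≤ M)
    refine (le_comap_map (nemb (sylowModule p ↥K)) L).trans ?_
    refine (comap_mono (hLmap.le.trans hHM)).trans_eq ?_
    rw [hMb, comap_map_eq, nemb_ker]
  -- Frattini
  set P : Sylow p ↥L := (hTp.of_equiv (subgroupOfEquivOfLe (inf_le_right : T ≤ L)).symm).toSylow hTi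
  have htop := Sylow.normalizer_sup_eq_top (N := L) P
  rw [show (P : Subgroup ↥L).map L.subtype = T from map_subgroupOf_eq_of_le inf_le_right] at htop
  rw [← top_le_iff, ← htop]
  refine sup_le ?_ hLM
  refine le_trans ?_ h1
  rw [← hJT]
  exact CfsgLib.Fusion.normalizer_le_normalizer_thompsonSubgroupOf _

/-- The special linear section centralized by the operators. -/
theorem coprime_section (hsep : Cfsg.IsPSolvable p ↥K) (hO : Cfsg.pPrimeCore p ↥K = ⊥)
    (hnf : ¬ Cfsg.IsThompsonFactorizable p ↥K) :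
    (p = 2 ∨ p = 3) ∧ ∃ W D : Subgroup G, W ≤ K ⊓ centralizer (X : Set G) ∧
      D ≤ K ⊓ centralizer (X : Set G) ∧ Cfsg.IsElementaryAbelian p W ∧ Nat.card W = p ^ 2 ∧
      D ≤ normalizer (W : Set G) ∧ ∃ _ : ((centralizer (W : Set G)).subgroupOf D).Normal,
        Nonempty ((↥D ⧸ (centralizer (W : Set G)).subgroupOf D) ≃*
          Matrix.SpecialLinearGroup (Fin 2) (ZMod p)) := by
  obtain ⟨A, hA⟩ := exists_isT_of_not_factorizable hsep hO hnf
  have X' := thompson_ctx hsep hO
  have O := isOperators (p := p) K X hXK hX hq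
  refine ⟨X'.prime_eq hA, ?_⟩
  obtain ⟨Wb, Φ, hWb, hWcard, hΦ1, hΦ2, hΦ3⟩ :=
    X'.exists_fixed_pair O (thompson_gen hsep hO) hA
  obtain ⟨ψ⟩ := X'.factor_iso hA
  have hΦi : Function.Injective Φ := (injective_iff_map_eq_one _).2 fun e he => hΦ3 e (by
    rw [he]; exact one_mem _)
  -- the module in `G`
  set ι : ↥(sylowModule p ↥K) →* G := K.subtype.comp (sylowModule p ↥K).subtype with hι
  have hιi : Function.Injective ι := K.subtype_injective.comp (sylowModule p ↥K).subtype_injective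
  set Wv := Wb.comap (SemidirectProduct.inl : ↥(sylowModule p ↥K) →* Hol ↥(sylowModule p ↥K)) with hWv
  have hWvb : Wv.map (SemidirectProduct.inl : ↥(sylowModule p ↥K) →* Hol ↥(sylowModule p ↥K)) = Wb :=
    map_comap_eq_self (fun w hw => (hWb hw).1)
  set W := Wv.map ι with hW
  have hWX : W ≤ centralizer (X : Set G) := by
    rintro _ ⟨v, hv, rfl⟩
    refine mem_centralizer_iff.2 fun x hx => ?_
    have h := opHol_conj_inl (p := p) K X hXK ⟨x, hx⟩ v
    rw [mem_centralizer_iff.1 (hWb hv).2 _ ⟨⟨x, hx⟩, rfl⟩, mul_inv_cancel_right] at h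
    have h' : x * ι v * x⁻¹ = ι v :=
      (congrArg (fun v => ι v) (SemidirectProduct.inl_injective h)).symm
    exact mul_inv_eq_iff_eq_mul.1 h'
  -- the group inducing the special linear group
  set D₀ : Subgroup ↥K := Φ.range.comap (nemb (sylowModule p ↥K)) ⊓
    (centralizer (X : Set G)).subgroupOf K with hD₀
  refine ⟨W, D₀.map K.subtype, le_inf ?_ hWX, le_inf (map_subtype_le _) ?_, ?_, ?_, ?_, ?_⟩
  · rintro _ ⟨v, -, rfl⟩
    exact (v : ↥K).2
  · rintro _ ⟨k, hk, rfl⟩
    exact hk.2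
  · refine CfsgLib.Fusion.isElementaryAbelian_map ι ?_
    have hv := sylowModule_ea hsep hO
    exact ⟨⟨⟨fun a b => Subtype.ext (Subtype.ext (congrArg Subtype.val
      (hv.1.is_comm.comm (a : ↥(sylowModule p ↥K)) (b : ↥(sylowModule p ↥K)))))⟩⟩,
      fun a _ => Subtype.ext (hv.2 _ a.2)⟩
  · rw [hW, card_map_of_injective hιi,
      ← card_map_of_injective (K := Wv) (SemidirectProduct.inl_injective
        (φ := MonoidHom.id (MulAut ↥(sylowModule p ↥K)))), hWvb, hWcard]
  -- normalization and the isomorphism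
  all_goals
    have hact : ∀ k : ↥K, ∀ v : ↥(sylowModule p ↥K),
        (k : G) * ι v * (k : G)⁻¹ = ι (MulAut.conjNormal k v) := fun k v => by
      simp [hι, MulAut.conjNormal_apply]
  · rintro _ ⟨k, ⟨⟨e, he⟩, -⟩, rfl⟩
    refine CfsgLib.Fusion.conjBy_eq_iff.1 (CfsgLib.Fusion.conjBy_eq_of_le ?_)
    rw [CfsgLib.Fusion.conjBy_le_iff]
    rintro _ ⟨v, hv, rfl⟩
    show (k : G) * ι v * (k : G)⁻¹ ∈ W
    rw [hact]
    refine mem_map_of_mem ι (show SemidirectProduct.inl _ ∈ Wb from ?_)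
    rw [← emb_conj MulAut.conjNormal k v]
    show nemb (sylowModule p ↥K) k * _ * (nemb (sylowModule p ↥K) k)⁻¹ ∈ Wb
    rw [← he]
    exact (mem_normalizer_iff.1 (hΦ2 e) _).1 hv
  · set D := D₀.map K.subtype
    have hDmem : ∀ d : ↥D, ∃ k ∈ D₀, (k : G) = d := fun d => by
      obtain ⟨k, hk, he⟩ := d.2
      exact ⟨k, hk, he⟩
    let eD : ↥D₀ ≃* ↥D := D₀.equivMapOfInjective K.subtype K.subtype_injective
    let f₀ : ↥D₀ →* ↥(Φ.range) :=
      ((nemb (sylowModule p ↥K)).comp D₀.subtype).codRestrict _ fun k => k.2.1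
    let f : ↥D →* Matrix.SpecialLinearGroup (Fin 2) (ZMod p) :=
      (ψ.toMonoidHom.comp (MonoidHom.ofInjective hΦi).symm.toMonoidHom).comp
        (f₀.comp eD.symm.toMonoidHom)
    have hs : Function.Surjective f := by
      intro y
      obtain ⟨e, rfl⟩ := ψ.surjective y
      obtain ⟨k, hk, hke⟩ := exists_fixed_lift K X hXK hX hq (hΦ1 e).1 (hΦ1 e).2
      refine ⟨eD ⟨k, ⟨e, hke.symm⟩, hk⟩, ?_⟩
      show ψ ((MonoidHom.ofInjective hΦi).symm (f₀ (eD.symm (eD _)))) = ψ e
      rw [MulEquiv.symm_apply_apply]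
      exact congrArg ψ ((MulEquiv.symm_apply_eq _).2 (Subtype.ext hke))
    have hker : f.ker = (centralizer (W : Set G)).subgroupOf D := by
      ext d
      obtain ⟨k, hkd⟩ : ∃ k : ↥D₀, eD k = d := eD.surjective d
      subst hkd
      have e1 : f (eD k) = 1 ↔ nemb (sylowModule p ↥K) (k : ↥K) = 1 := by
        show ψ ((MonoidHom.ofInjective hΦi).symm (f₀ (eD.symm (eD k)))) = 1 ↔ _
        rw [MulEquiv.symm_apply_apply, map_eq_one_iff _ ψ.injective,
          map_eq_one_iff _ (MulEquiv.injective _), Subtype.ext_iff]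
        rfl
      rw [MonoidHom.mem_ker, e1, mem_subgroupOf]
      constructor
      · intro h
        refine mem_centralizer_iff.2 ?_
        rintro _ ⟨v, -, rfl⟩
        have h1 : MulAut.conjNormal (k : ↥K) v = v := by
          apply SemidirectProduct.inl_injective (φ := MonoidHom.id (MulAut ↥(sylowModule p ↥K)))
          rw [← emb_conj MulAut.conjNormal (k : ↥K) v]
          show nemb (sylowModule p ↥K) k * _ * (nemb (sylowModule p ↥K) k)⁻¹ = _
          rw [h, one_mul, inv_one, mul_one]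
        have h2 := hact (k : ↥K) v
        rw [h1] at h2
        exact (mul_inv_eq_iff_eq_mul.1 h2).symm
      · intro h
        obtain ⟨e, he⟩ := k.2.1
        have h1 : Φ e ∈ centralizer (Wb : Set (Hol ↥(sylowModule p ↥K))) := by
          refine mem_centralizer_iff.2 ?_
          rw [← hWvb]
          rintro _ ⟨v, hv, rfl⟩
          have h2 : ((k : ↥K) : G) * ι v * ((k : ↥K) : G)⁻¹ = ι v := by
            have h3 := mem_centralizer_iff.1 h (ι v) (mem_map_of_mem ι hv)
            show ((eD k : ↥D) : G) * ι v * ((eD k : ↥D) : G)⁻¹ = ι v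
            rw [← h3, mul_inv_cancel_right]
          rw [hact] at h2
          have h4 := emb_conj MulAut.conjNormal (k : ↥K) v
          rw [hιi h2] at h4
          rw [he]
          exact (mul_inv_eq_iff_eq_mul.1 h4).symm
        rw [← show Φ e = nemb (sylowModule p ↥K) (k : ↥K) from he, hΦ3 e h1, map_one]
    refine ⟨hker ▸ MonoidHom.normal_ker f, ?_⟩
    haveI : ((centralizer (W : Set G)).subgroupOf D).Normal := hker ▸ MonoidHom.normal_ker f
    exact ⟨(QuotientGroup.quotientMulEquivOfEq hker.symm).trans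
      (QuotientGroup.quotientKerEquivOfSurjective f hs)⟩

end CfsgLib.FFPair
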