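import Cfsg.Agent.Lib.Fusion.FFPair.Pair
import Cfsg.Agent.Lib.Classical.SL2Sylow

/-!
# Failure of factorization pairs: the factors `[K, A] A` and their modules
-/

set_option autoImplicit false
set_option linter.style.haveILetI false
set_option linter.unusedSectionVars false

open Subgroup Matrix
open scoped commutatorElement

namespace CfsgLib.FFPair

universe u

variable {G : Type u} [Group G] [Finite G] {p : ℕ} [Fact p.Prime] {V H K A B : Subgroup G}

/-- `[K, A] A`. -/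
def factor (K A : Subgroup G) : Subgroup G := ⁅K, A⁆ ⊔ A

theorem normalizer_commutator_mem {K A : Subgroup G} {g : G}
    (hK : g ∈ normalizer (K : Set G)) (hA : g ∈ normalizer (A : Set G)) :
    g ∈ normalizer ((⁅K, A⁆ : Subgroup G) : Set G) := by
  refine CfsgLib.Fusion.conjBy_eq_iff.1 ?_
  rw [CfsgLib.Fusion.conjBy, map_commutator]
  exact congrArg₂ (⁅·, ·⁆) (CfsgLib.Fusion.conjBy_eq_iff.2 hK)
    (CfsgLib.Fusion.conjBy_eq_iff.2 hA)

theorem comm_le_of_le_normalizer {W L : Subgroup G} (h : L ≤ normalizer (W : Set G)) :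
    ⁅W, L⁆ ≤ W := by
  refine commutator_le.2 fun w hw l hl => ?_
  rw [commutatorElement_def, show w * l * w⁻¹ * l⁻¹ = w * (l * w⁻¹ * l⁻¹) by group]
  exact mul_mem hw ((mem_normalizer_iff.1 (h hl) _).1 (inv_mem hw))

theorem sl2_three_pair : ∃ M1 M2 : Matrix.SpecialLinearGroup (Fin 2) (ZMod 3),
    M1 ^ 4 = 1 ∧ M2 ^ 4 = 1 ∧ M1 * M2 ≠ M2 * M1 :=
  ⟨⟨!![0, -1; 1, 0], by decide⟩, ⟨!![1, 1; 1, -1], by decide⟩, by decide, by decide, by decide⟩

namespace Ctx

variable (X : Ctx p V H K)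
include X

theorem exists_moved (hA : IsT p V H A) : ∃ k ∈ K, k ∉ centralizer (A : Set G) := by
  by_contra h
  push Not at h
  have := X.inf_centralizer_eq_bot hA.le (isPGroup_of_ea (IsT.ea (X := X) hA))
  rw [inf_eq_left.2 (le_centralizer_iff.1 h)] at this
  exact (Fact.out : p.Prime).one_lt.ne' (by rw [← hA.card, this, Subgroup.card_bot])

theorem inf_K_eq_bot (hA : IsT p V H A) : A ⊓ K = ⊥ := by
  refine eq_bot_iff.2 fun a ha => ?_
  by_contra h1
  exact X.cop (hA.card.symm.dvd.trans (card_dvd_of_le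
    ((eq_zpowers_of_card hA.card ha.1 h1).le.trans (zpowers_le.2 ha.2))))

theorem exists_mul_of_mem (hA : IsT p V H A) {d : G} (hd : d ∈ K ⊔ A) :
    ∃ κ ∈ K, ∃ α ∈ A, d = κ * α := by
  obtain ⟨κ, hκ, α, hα, h⟩ := CfsgLib.Coprime.mem_sup_exists (hA.le.trans X.HK) hd
  exact ⟨κ, hκ, α, hα, h.symm⟩

/-- All conjugates under `K` lie in the group generated by two of them. -/
theorem conj_le_pair (hA : IsT p V H A) {k : G} (hk : k ∈ K)
    (hne : k ∉ centralizer (A : Set G)) {k' : G} (hk' : k' ∈ K) :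
    CfsgLib.Fusion.conjBy k' A ≤ A ⊔ CfsgLib.Fusion.conjBy k A := by
  have hp : p.Prime := Fact.out
  obtain ⟨hB, -, -⟩ := X.isT_conj hA (X.KH hk)
  obtain ⟨hT, hTP, -⟩ := X.isT_conj hA (X.KH hk')
  obtain ⟨hs1, hs2⟩ := X.sees hA hk hne
  have D := X.pairData hA hB hs1 hs2
  set W := ⁅V, A⁆ ⊔ ⁅V, CfsgLib.Fusion.conjBy k A⁆ with hW
  have hWV : W ≤ V := sup_le (X.comm_le hA.le) (X.comm_le hB.le)
  obtain ⟨u, hu, hu1⟩ : ∃ u ∈ W ⊓ (V ⊓ centralizer (CfsgLib.Fusion.conjBy k' A : Set G)),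
      u ≠ 1 := by
    by_contra h
    push Not at h
    have hbot : (V ⊓ centralizer (CfsgLib.Fusion.conjBy k' A : Set G)) ⊓ W = ⊥ :=
      eq_bot_iff.2 fun u hu => mem_bot.2 (h u ⟨hu.2, hu.1⟩)
    have h2 := relIndex_le_of_le_right (H := V ⊓ centralizer (CfsgLib.Fusion.conjBy k' A : Set G))
      hWV (by rw [X.relIndex_of_isT hT]; exact hp.ne_zero)
    rw [← inf_relIndex_right, hbot, relIndex_bot_left, X.relIndex_of_isT hT, D.card_W, pow_two] at h2
    exact (lt_mul_of_one_lt_left hp.pos hp.one_lt).not_ge h2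
  obtain ⟨d, hd, hdu⟩ := D.trans u hu.1 hu1
  obtain ⟨κ, hκ, α, hα, rfl⟩ := X.exists_mul_of_mem hA
    ((sup_le le_sup_right (CfsgLib.Fusion.conjBy_le_iff.2 fun x hx =>
      mul_mem (mul_mem (mem_sup_left hk) (mem_sup_right hx)) (inv_mem (mem_sup_left hk)))) hd)
  have hαA : CfsgLib.Fusion.conjBy α A = A :=
    CfsgLib.Fusion.conjBy_eq_iff.2 (le_normalizer hα)
  have hκA : CfsgLib.Fusion.conjBy (κ * α) A = CfsgLib.Fusion.conjBy κ A := by
    rw [← CfsgLib.Fusion.conjBy_conjBy, hαA]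
  have hle : CfsgLib.Fusion.conjBy κ A ≤ A ⊔ CfsgLib.Fusion.conjBy k A := by
    rw [← hκA]
    exact CfsgLib.Fusion.conjBy_le_iff.2 fun x hx =>
      mul_mem (mul_mem hd (mem_sup_left hx)) (inv_mem hd)
  obtain ⟨hT', hTP', -⟩ := X.isT_conj hA (mul_mem (X.KH hκ) (hA.le hα))
  rw [hκA] at hT' hTP'
  refine le_of_eq_of_le ?_ hle
  by_contra hne'
  have hne2 : k' * κ⁻¹ ∉ centralizer (CfsgLib.Fusion.conjBy κ A : Set G) := fun h => hne' (by
    have := CfsgLib.Fusion.conjBy_eq_iff.2 (centralizer_le_normalizer _ h)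
    rwa [CfsgLib.Fusion.conjBy_conjBy, inv_mul_cancel_right] at this)
  refine (X.sees hT' (mul_mem hk' (inv_mem hκ)) hne2).1 ?_
  rw [CfsgLib.Fusion.conjBy_conjBy, inv_mul_cancel_right, hTP', hdu]
  exact zpowers_le.2 hu.2.2

theorem comm_K_le (hA : A ≤ H) : ⁅K, A⁆ ≤ K :=
  comm_le_of_le_normalizer (hA.trans X.HK)

theorem le_normalizer_commK : A ≤ normalizer ((⁅K, A⁆ : Subgroup G) : Set G) := by
  rw [commutator_comm]; exact normalizer_commutator_ge_left A K

theorem pair_eq_factor (hA : IsT p V H A) {k : G} (hk : k ∈ K)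
    (hne : k ∉ centralizer (A : Set G)) : A ⊔ CfsgLib.Fusion.conjBy k A = factor K A := by
  refine le_antisymm (sup_le le_sup_right (CfsgLib.Fusion.conjBy_le_iff.2 fun a ha => ?_))
    (sup_le (commutator_le.2 fun k' hk' a ha => ?_) le_sup_left)
  · rw [show k * a * k⁻¹ = k * a * k⁻¹ * a⁻¹ * a by group]
    exact mul_mem (mem_sup_left (commutator_mem_commutator hk ha)) (mem_sup_right ha)
  · rw [commutatorElement_def]
    exact mul_mem (X.conj_le_pair hA hk hne hk' (CfsgLib.Fusion.conj_mem_conjBy ha))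
      (mem_sup_left (inv_mem ha))

theorem factor_inf_K (hA : IsT p V H A) : factor K A ⊓ K = ⁅K, A⁆ := by
  refine le_antisymm ?_ (le_inf le_sup_left (X.comm_K_le hA.le))
  rintro d ⟨hd, hdK⟩
  obtain ⟨z, hz, α, hα, rfl⟩ := CfsgLib.Coprime.mem_sup_exists X.le_normalizer_commK hd
  have : α ∈ A ⊓ K := ⟨hα, by
    have := mul_mem (inv_mem (X.comm_K_le hA.le hz)) hdK
    rwa [inv_mul_cancel_left] at this⟩
  rw [X.inf_K_eq_bot hA, mem_bot] at this
  rwa [this, mul_one]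

theorem K_le_normalizer (hA : IsT p V H A) : K ≤ normalizer (factor K A : Set G) := by
  intro k hk
  refine CfsgLib.Fusion.conjBy_eq_iff.1 (CfsgLib.Fusion.conjBy_eq_of_le ?_)
  rw [factor, CfsgLib.Fusion.conjBy, Subgroup.map_sup]
  refine sup_le ((CfsgLib.Fusion.conjBy_eq_iff.2 (normalizer_commutator_ge_left K A hk)).le.trans
    le_sup_left) (CfsgLib.Fusion.conjBy_le_iff.2 fun a ha => ?_)
  rw [show k * a * k⁻¹ = k * a * k⁻¹ * a⁻¹ * a by group]
  exact mul_mem (mem_sup_left (commutator_mem_commutator hk ha)) (mem_sup_right ha)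

theorem factor_le (hA : IsT p V H A) : factor K A ≤ H :=
  sup_le ((X.comm_K_le hA.le).trans X.KH) hA.le

theorem normalizer_module {E : Subgroup G} {g : G} (hg : g ∈ H)
    (hgE : g ∈ normalizer (E : Set G)) :
    g ∈ normalizer ((⁅V, E⁆ : Subgroup G) : Set G) ∧
      g ∈ normalizer ((V ⊓ centralizer (E : Set G) : Subgroup G) : Set G) :=
  ⟨normalizer_commutator_mem (X.hHV hg) hgE,
    CfsgLib.Coprime.inf_le_normalizer (A := zpowers g) (zpowers_le.2 (X.hHV hg))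
      (zpowers_le.2 (CfsgLib.Coprime.normalizer_le_normalizer_centralizer E hgE)) (mem_zpowers g)⟩

theorem factor_data (hA : IsT p V H A) :
    ∃ k ∈ K, factor K A = A ⊔ CfsgLib.Fusion.conjBy k A ∧ IsT p V H (CfsgLib.Fusion.conjBy k A) ∧
      PairData p V A (CfsgLib.Fusion.conjBy k A) := by
  obtain ⟨k, hk, hne⟩ := X.exists_moved hA
  obtain ⟨hs1, hs2⟩ := X.sees hA hk hne
  exact ⟨k, hk, (X.pair_eq_factor hA hk hne).symm, (X.isT_conj hA (X.KH hk)).1,
    X.pairData hA (X.isT_conj hA (X.KH hk)).1 hs1 hs2⟩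

theorem card_module (hA : IsT p V H A) : Nat.card (⁅V, factor K A⁆ : Subgroup G) = p ^ 2 := by
  obtain ⟨k, -, hE, -, D⟩ := X.factor_data hA
  rw [hE, D.comm, D.card_W]

theorem module_inf (hA : IsT p V H A) :
    ⁅V, factor K A⁆ ⊓ (V ⊓ centralizer (factor K A : Set G)) = ⊥ := by
  obtain ⟨k, -, hE, -, D⟩ := X.factor_data hA
  rw [hE, D.comm]
  exact D.inf_bot

theorem module_sup (hA : IsT p V H A) :
    ⁅V, factor K A⁆ ⊔ (V ⊓ centralizer (factor K A : Set G)) = V := by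
  obtain ⟨k, -, hE, -, D⟩ := X.factor_data hA
  rw [hE, D.comm]
  exact D.sup_eq

theorem module_faith (hA : IsT p V H A) :
    factor K A ⊓ centralizer ((⁅V, factor K A⁆ : Subgroup G) : Set G) = ⊥ := by
  obtain ⟨k, -, hE, -, D⟩ := X.factor_data hA
  rw [hE, D.comm]
  exact D.faith

theorem factor_iso (hA : IsT p V H A) :
    Nonempty (↥(factor K A) ≃* Matrix.SpecialLinearGroup (Fin 2) (ZMod p)) := by
  obtain ⟨k, -, hE, -, D⟩ := X.factor_data hA
  rw [hE]
  exact D.iso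

theorem module_trans (hA : IsT p V H A) {u : G} (hu : u ∈ ⁅V, factor K A⁆) (hu1 : u ≠ 1) :
    ∃ κ ∈ K, CfsgLib.Fusion.conjBy κ ⁅V, A⁆ = zpowers u ∧
      CfsgLib.Fusion.conjBy κ A ≤ factor K A := by
  obtain ⟨k, -, hE, -, D⟩ := X.factor_data hA
  rw [hE, D.comm] at hu
  obtain ⟨d, hd, hdu⟩ := D.trans u hu hu1
  rw [← hE] at hd
  obtain ⟨κ, hκ, α, hα, rfl⟩ := X.exists_mul_of_mem hA
    (sup_le ((X.comm_K_le hA.le).trans le_sup_left) le_sup_right hd)
  have hαV : CfsgLib.Fusion.conjBy α ⁅V, A⁆ = ⁅V, A⁆ :=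
    CfsgLib.Fusion.conjBy_eq_iff.2 (normalizer_commutator_mem (X.hHV (hA.le hα)) (le_normalizer hα))
  refine ⟨κ, hκ, by rwa [← CfsgLib.Fusion.conjBy_conjBy, hαV] at hdu,
    CfsgLib.Fusion.conjBy_le_iff.2 fun a ha => ?_⟩
  exact (mem_normalizer_iff.1 (X.K_le_normalizer hA hκ) _).1 (mem_sup_right ha)

/-- `K` is irreducible on the module of a factor. -/
theorem irreducible (hA : IsT p V H A) {U : Subgroup G} (hU : U ≤ ⁅V, factor K A⁆)
    (hKU : K ≤ normalizer (U : Set G)) : U = ⊥ ∨ U = ⁅V, factor K A⁆ := by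
  refine or_iff_not_imp_left.2 fun hne => le_antisymm hU fun w hw => ?_
  obtain ⟨⟨u, hu⟩, hu1⟩ := ne_bot_iff_exists_ne_one.1 hne
  have hu1' : u ≠ 1 := fun h => hu1 (Subtype.ext h)
  by_cases hw1 : w = 1
  · exact hw1 ▸ one_mem _
  obtain ⟨κ, hκ, hκu, -⟩ := X.module_trans hA (hU hu) hu1'
  obtain ⟨μ, hμ, hμw, -⟩ := X.module_trans hA hw hw1
  have hP : ⁅V, A⁆ ≤ U := by
    rw [← CfsgLib.Fusion.conjBy_inv_conjBy κ ⁅V, A⁆, hκu,
      ← CfsgLib.Fusion.conjBy_eq_iff.2 (hKU (inv_mem hκ))]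
    exact CfsgLib.Fusion.conjBy_mono (zpowers_le.2 hu)
  have : CfsgLib.Fusion.conjBy μ ⁅V, A⁆ ≤ U :=
    (CfsgLib.Fusion.conjBy_mono hP).trans (CfsgLib.Fusion.conjBy_eq_iff.2 (hKU hμ)).le
  exact this (hμw ▸ mem_zpowers w)

theorem exists_eq_pow_of_isT (hA : IsT p V H A) {z : G} (hz : z ∈ factor K A) :
    z ^ p ∈ ⁅K, A⁆ := by
  obtain ⟨κ, hκ, α, hα, rfl⟩ := X.exists_mul_of_mem hA
    (sup_le ((X.comm_K_le hA.le).trans le_sup_left) le_sup_right hz)
  rw [← X.factor_inf_K hA]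
  refine ⟨pow_mem hz p, ?_⟩
  have : ∀ n : ℕ, (κ * α) ^ n * (α ^ n)⁻¹ ∈ K := by
    intro n
    induction n with
    | zero => simp
    | succ n ih =>
      rw [show (κ * α) ^ (n + 1) * (α ^ (n + 1))⁻¹ =
        ((κ * α) ^ n * (α ^ n)⁻¹) * (α ^ n * κ * (α ^ n)⁻¹) by rw [pow_succ, pow_succ]; group]
      exact mul_mem ih ((mem_normalizer_iff.1 (X.HK (hA.le (pow_mem hα n))) _).1 hκ)
  have h := this p
  rwa [(IsT.ea (X := X) hA).2 α hα, inv_one, mul_one] at h

theorem card_commK (hA : IsT p V H A) : Nat.card (⁅K, A⁆ : Subgroup G) = (p - 1) * (p + 1) := by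
  have hinj : ∀ x y : (⁅K, A⁆ : Subgroup G) × A, (x.1 : G) * x.2 = y.1 * y.2 → x = y := by
    intro x y h
    have h1 : (y.1 : G)⁻¹ * x.1 = y.2 * (x.2 : G)⁻¹ := by
      rw [eq_mul_inv_iff_mul_eq, mul_assoc, h, inv_mul_cancel_left]
    have h2 : (y.1 : G)⁻¹ * x.1 ∈ A ⊓ K := by
      refine mem_inf.2 ⟨?_, mul_mem (inv_mem (X.comm_K_le hA.le y.1.2)) (X.comm_K_le hA.le x.1.2)⟩
      rw [h1]
      exact mul_mem y.2.2 (inv_mem x.2.2)
    rw [X.inf_K_eq_bot hA, mem_bot, inv_mul_eq_one] at h2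
    rw [h2] at h
    exact Prod.ext (Subtype.ext h2.symm) (Subtype.ext (mul_left_cancel h))
  have hc := Nat.card_eq_of_bijective (fun x : (⁅K, A⁆ : Subgroup G) × A =>
      (⟨(x.1 : G) * x.2, mul_mem_sup x.1.2 x.2.2⟩ : factor K A))
    ⟨fun x y h => hinj x y (congrArg Subtype.val h), fun e => by
      obtain ⟨z, hz, a, ha, h⟩ := CfsgLib.Coprime.mem_sup_exists X.le_normalizer_commK e.2
      exact ⟨(⟨z, hz⟩, ⟨a, ha⟩), Subtype.ext h⟩⟩
  obtain ⟨φ⟩ := X.factor_iso hA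
  rw [Nat.card_congr φ.toEquiv, Classical.card_sl2, ZMod.card, Nat.card_prod, hA.card,
    mul_comm (Nat.card _)] at hc
  exact Nat.eq_of_mul_eq_mul_left (Fact.out : p.Prime).pos hc

theorem commK_ne_bot (hA : IsT p V H A) : ⁅K, A⁆ ≠ ⊥ := fun h => by
  have h2 := (Fact.out : p.Prime).two_le
  have hc := X.card_commK hA
  rw [h, Subgroup.card_bot] at hc
  nlinarith [Nat.le_mul_of_pos_left (p + 1) (show 0 < p - 1 by omega)]

theorem prime_eq (hA : IsT p V H A) : p = 2 ∨ p = 3 := by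
  have hp : p.Prime := Fact.out
  by_contra hcon
  push Not at hcon
  obtain ⟨φ⟩ := X.factor_iso hA
  have h2 : (2 : ZMod p) ≠ 0 := fun h => hcon.1 ((Nat.prime_dvd_prime_iff_eq hp Nat.prime_two).1
    ((ZMod.natCast_eq_zero_iff 2 p).1 (by exact_mod_cast h)))
  let Dt : Matrix.SpecialLinearGroup (Fin 2) (ZMod p) :=
    ⟨!![2, 0; 0, 2⁻¹], by rw [Matrix.det_fin_two_of, mul_inv_cancel₀ h2]; ring⟩
  have hswap : Dt * Qd.up 1 = Qd.up (4 : ZMod p) * Dt := by
    refine Subtype.ext ?_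
    show !![(2 : ZMod p), 0; 0, 2⁻¹] * !![1, 1; 0, 1] = !![1, 4; 0, 1] * !![2, 0; 0, 2⁻¹]
    ext i j
    fin_cases i <;> fin_cases j <;> simp <;> field_simp <;> norm_num
  have hcomm : Dt * Qd.up 1 * Dt⁻¹ * (Qd.up 1)⁻¹ = Qd.up (3 : ZMod p) := by
    rw [hswap, mul_inv_cancel_right, Qd.up_inv, Qd.up_mul]
    exact congrArg Qd.up (by ring)
  set x := φ.symm Dt
  set y := φ.symm (Qd.up 1)
  have hzK : ((x * y * x⁻¹ * y⁻¹ : factor K A) : G) ∈ K := by
    have hle : factor K A ≤ K ⊔ A := sup_le ((X.comm_K_le hA.le).trans le_sup_left) le_sup_right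
    obtain ⟨κ₁, hκ₁, α₁, hα₁, h₁⟩ := X.exists_mul_of_mem hA (hle x.2)
    obtain ⟨κ₂, hκ₂, α₂, hα₂, h₂⟩ := X.exists_mul_of_mem hA (hle y.2)
    push_cast
    rw [h₁, h₂]
    have hc : α₁ * α₂ = α₂ * α₁ := congrArg Subtype.val
      ((IsT.ea (X := X) hA).1.is_comm.comm (⟨α₁, hα₁⟩ : A) ⟨α₂, hα₂⟩)
    rw [show κ₁ * α₁ * (κ₂ * α₂) * (κ₁ * α₁)⁻¹ * (κ₂ * α₂)⁻¹ =
      κ₁ * (α₁ * κ₂ * α₁⁻¹) * ((α₁ * α₂) * α₁⁻¹ * κ₁⁻¹ * α₂⁻¹) * κ₂⁻¹ by group, hc,
      mul_inv_cancel_right]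
    exact mul_mem (mul_mem (mul_mem hκ₁ ((mem_normalizer_iff.1 (X.HK (hA.le hα₁)) _).1 hκ₂))
      ((mem_normalizer_iff.1 (X.HK (hA.le hα₂)) _).1 (inv_mem hκ₁))) (inv_mem hκ₂)
  have hzp : ((x * y * x⁻¹ * y⁻¹ : factor K A) : G) ^ p = 1 := by
    have : (x * y * x⁻¹ * y⁻¹) ^ p = 1 := φ.injective (by
      simp only [map_pow, map_mul, map_inv, map_one, x, y, MulEquiv.apply_symm_apply]
      rw [hcomm, Qd.up_pow, ZMod.natCast_self, zero_mul, Qd.up_zero])
    exact congrArg Subtype.val this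
  have hz1 : x * y * x⁻¹ * y⁻¹ = 1 := by
    refine Subtype.ext (orderOf_eq_one_iff.1 ?_)
    rcases (Nat.dvd_prime hp).1 (orderOf_dvd_of_pow_eq_one hzp) with h | h
    · exact h
    · exact absurd (h ▸ orderOf_dvd_natCard _ hzK) X.cop
  have h3 := congrArg φ hz1
  simp only [map_mul, map_inv, map_one, x, y, MulEquiv.apply_symm_apply, hcomm] at h3
  rw [← Qd.up_zero] at h3
  have h30 : ((3 : ℕ) : ZMod p) = 0 := by exact_mod_cast Qd.up_injective h3
  exact hcon.2 ((Nat.prime_dvd_prime_iff_eq hp Nat.prime_three).1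
    ((ZMod.natCast_eq_zero_iff 3 p).1 h30))

theorem commK_groups (hA : IsT p V H A) :
    (p = 2 ∧ IsPGroup 3 (⁅K, A⁆ : Subgroup G)) ∨ (p = 3 ∧ IsPGroup 2 (⁅K, A⁆ : Subgroup G) ∧
      ¬ IsMulCommutative (⁅K, A⁆ : Subgroup G)) := by
  have hc := X.card_commK hA
  rcases X.prime_eq hA with h | h
  · subst h
    exact Or.inl ⟨rfl, IsPGroup.of_card (n := 1) (by rw [hc]; rfl)⟩
  · subst h
    refine Or.inr ⟨rfl, IsPGroup.of_card (n := 3) (by rw [hc]; rfl), fun hcomm => ?_⟩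
    obtain ⟨φ⟩ := X.factor_iso hA
    have key : ∀ M : Matrix.SpecialLinearGroup (Fin 2) (ZMod 3), M ^ 4 = 1 →
        (φ.symm M : G) ∈ ⁅K, A⁆ := fun M hM => by
      have h4 : (φ.symm M : G) ^ 4 = 1 := by
        rw [← SubgroupClass.coe_pow, ← map_pow, hM, map_one, OneMemClass.coe_one]
      rw [show (φ.symm M : G) = ((φ.symm M : G) ^ 3)⁻¹ by
        rw [← mul_eq_one_iff_eq_inv, ← pow_succ', h4]]
      exact inv_mem (X.exists_eq_pow_of_isT hA (φ.symm M).2)
    obtain ⟨M1, M2, hM1, hM2, hne⟩ := sl2_three_pair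
    have h1 := key M1 hM1
    have h2 := key M2 hM2
    exact hne (φ.symm.injective (Subtype.ext (by
      rw [map_mul, map_mul, Subgroup.coe_mul, Subgroup.coe_mul]
      exact congrArg Subtype.val (hcomm.is_comm.comm
        (⟨_, h1⟩ : (⁅K, A⁆ : Subgroup G)) ⟨_, h2⟩))))

theorem centralizer_commK (hA : IsT p V H A) :
    V ⊓ centralizer ((⁅K, A⁆ : Subgroup G) : Set G) ≤ centralizer (factor K A : Set G) := by
  rintro v ⟨hv, hvc⟩
  set W := ⁅V, factor K A⁆
  obtain ⟨w, hw, c, hc, rfl⟩ := CfsgLib.Coprime.mem_sup_exists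
    (show V ⊓ centralizer (factor K A : Set G) ≤ normalizer (W : Set G) from
      fun x hx => centralizer_le_normalizer _ (mem_centralizer_iff.2 fun s hs =>
        X.comm (X.comm_le (X.factor_le hA) hs) hx.1)) ((X.module_sup hA).ge hv)
  have hwU : w ∈ W ⊓ centralizer ((⁅K, A⁆ : Subgroup G) : Set G) := by
    refine ⟨hw, ?_⟩
    have := Subgroup.mul_mem (centralizer ((⁅K, A⁆ : Subgroup G) : Set G)) hvc
      (Subgroup.inv_mem _ (centralizer_le (s := ((⁅K, A⁆ : Subgroup G) : Set G))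
        (show (⁅K, A⁆ : Subgroup G) ≤ factor K A from le_sup_left) hc.2))
    rwa [mul_inv_cancel_right] at this
  rcases X.irreducible hA (U := W ⊓ centralizer ((⁅K, A⁆ : Subgroup G) : Set G)) inf_le_left
    (CfsgLib.Coprime.inf_le_normalizer
      (fun k hk => (X.normalizer_module (X.KH hk) (X.K_le_normalizer hA hk)).1)
      ((normalizer_commutator_ge_left K A).trans
        (CfsgLib.Coprime.normalizer_le_normalizer_centralizer _))) with h | h
  · rw [h, mem_bot] at hwU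
    rw [hwU, one_mul]
    exact hc.2
  · refine absurd ?_ (X.commK_ne_bot hA)
    exact le_bot_iff.1 ((le_inf le_sup_left (le_centralizer_iff.1 (inf_eq_left.1 h))).trans
      (X.module_faith hA).le)

/-- Transvection groups fixing each other's centres commute. -/
theorem commute_of_fixed (hA : IsT p V H A) (hB : IsT p V H B)
    (h1 : ⁅V, A⁆ ≤ centralizer (B : Set G)) (h2 : ⁅V, B⁆ ≤ centralizer (A : Set G)) :
    B ≤ centralizer (A : Set G) := by
  intro b hb
  refine mem_centralizer_iff.2 fun a ha => ?_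
  have key : ∀ v ∈ V, (a * b) * v * (a * b)⁻¹ = (b * a) * v * (b * a)⁻¹ := by
    intro v hv
    set α := a * v * a⁻¹ * v⁻¹ with hα
    set β := b * v * b⁻¹ * v⁻¹ with hβ
    have hαP : α ∈ ⁅V, A⁆ := by
      rw [hα, show a * v * a⁻¹ * v⁻¹ = (v * a * v⁻¹ * a⁻¹)⁻¹ by group]
      exact inv_mem (commutator_mem_commutator hv ha)
    have hβP : β ∈ ⁅V, B⁆ := by
      rw [hβ, show b * v * b⁻¹ * v⁻¹ = (v * b * v⁻¹ * b⁻¹)⁻¹ by group]
      exact inv_mem (commutator_mem_commutator hv hb)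
    have ea : a * β * a⁻¹ = β := by
      rw [mem_centralizer_iff.1 (h2 hβP) a ha, mul_inv_cancel_right]
    have eb : b * α * b⁻¹ = α := by
      rw [mem_centralizer_iff.1 (h1 hαP) b hb, mul_inv_cancel_right]
    calc a * b * v * (a * b)⁻¹ = (a * β * a⁻¹) * (α * v) := by rw [hα, hβ]; group
      _ = β * α * v := by rw [ea, ← mul_assoc]
      _ = α * β * v := by rw [X.comm (X.comm_le hB.le hβP) (X.comm_le hA.le hαP)]
      _ = (b * α * b⁻¹) * (β * v) := by rw [eb]; exact mul_assoc _ _ _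
      _ = b * a * v * (b * a)⁻¹ := by rw [hα, hβ]; group
  have := X.eq_one (h := (b * a)⁻¹ * (a * b))
    (mul_mem (inv_mem (mul_mem (hB.le hb) (hA.le ha))) (mul_mem (hA.le ha) (hB.le hb)))
    (mem_centralizer_iff.2 fun v hv => by
      have h := key v hv
      rw [eq_comm, ← mul_inv_eq_iff_eq_mul]
      calc (b * a)⁻¹ * (a * b) * v * ((b * a)⁻¹ * (a * b))⁻¹
          = (b * a)⁻¹ * (a * b * v * (a * b)⁻¹) * (b * a) := by group
        _ = v := by rw [h]; group)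
  exact (inv_mul_eq_one.1 this).symm

theorem le_factor_of_module_eq (hA : IsT p V H A) (hB : IsT p V H B)
    (hW : ⁅V, factor K A⁆ = ⁅V, factor K B⁆) : B ≤ factor K A := by
  have hp : p.Prime := Fact.out
  set W := ⁅V, factor K A⁆ with hWdef
  set C := V ⊓ centralizer (factor K A : Set G) with hCdef
  have hWV : W ≤ V := X.comm_le (X.factor_le hA)
  have hCB : C ≤ centralizer (B : Set G) := by
    have h1 : ⁅C, ⁅K, B⁆⁆ ≤ C ⊓ W := by
      refine le_inf (comm_le_of_le_normalizer (fun z hz => ?_)) ?_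
      · exact (X.normalizer_module (X.KH (X.comm_K_le hB.le hz))
          (X.K_le_normalizer hA (X.comm_K_le hB.le hz))).2
      · rw [hW]
        exact commutator_mono inf_le_left le_sup_left
    rw [inf_comm C W, X.module_inf hA, le_bot_iff, commutator_eq_bot_iff_le_centralizer] at h1
    exact ((le_inf inf_le_left h1).trans (X.centralizer_commK hB)).trans
      (centralizer_le (show B ≤ factor K B from le_sup_right))
  have hPW : ⁅V, B⁆ ≤ W := hW.ge.trans' (commutator_mono le_rfl le_sup_right)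
  have hPc := X.card_comm_of_isT hB
  obtain ⟨u, hu, hu1⟩ : ∃ u ∈ ⁅V, B⁆, u ≠ 1 := by
    by_contra h
    push Not at h
    exact hp.one_lt.ne' (by rw [← hPc, (eq_bot_iff.2 fun x hx => mem_bot.2 (h x hx) : ⁅V, B⁆ = ⊥),
      Subgroup.card_bot])
  obtain ⟨κ, hκ, hκu, hle⟩ := X.module_trans hA (hPW hu) hu1
  obtain ⟨hT, hTP, -⟩ := X.isT_conj hA (X.KH hκ)
  set A' := CfsgLib.Fusion.conjBy κ A with hA'def
  have hP' : ⁅V, A'⁆ = ⁅V, B⁆ := by rw [hTP, hκu, eq_zpowers_of_card hPc hu hu1]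
  set M := V ⊓ centralizer (B : Set G) with hMdef
  set M' := V ⊓ centralizer (A' : Set G) with hM'def
  have hCA' : C ≤ M' := inf_le_inf_left _ (centralizer_le hle)
  -- the two hyperplanes agree
  have hMW : M ⊓ W = ⁅V, B⁆ := by
    refine (eq_of_le_of_card_ge (le_inf (le_inf (X.comm_le hB.le) (X.comm_fixed hB)) hPW) ?_).symm
    obtain ⟨i, hi, hiW⟩ := (Nat.dvd_prime_pow hp).1 (X.card_module hA ▸ card_dvd_of_le
      (inf_le_right : M ⊓ W ≤ W))
    rw [hPc, hiW]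
    have hi2 : i ≠ 2 := by
      rintro rfl
      have hMW' : M ⊓ W = W := eq_of_le_of_card_ge inf_le_right
        (by rw [hiW, X.card_module hA])
      have hb : B ≤ centralizer (W : Set G) :=
        le_centralizer_iff.1 ((inf_eq_right.1 hMW').trans inf_le_right)
      have hb' : B ≤ centralizer (C : Set G) := le_centralizer_iff.1 hCB
      exact hp.one_lt.ne' (by rw [← hB.card, (eq_bot_iff.2 fun b hb1 => mem_bot.2
        (X.eq_one_of_sup (hB.le hb1) (X.module_sup hA).ge (hb hb1) (hb' hb1)) : B = ⊥),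
          Subgroup.card_bot])
    calc p ^ i ≤ p ^ 1 := Nat.pow_le_pow_right hp.pos (by omega)
      _ = p := pow_one p
  have hMM' : M = M' := by
    refine eq_of_le_of_card_ge (fun m hm => ?_) ?_
    · obtain ⟨w, hw, c, hc, rfl⟩ := CfsgLib.Coprime.mem_sup_exists
        (show V ⊓ centralizer (factor K A : Set G) ≤ normalizer (W : Set G) from
          fun x hx => centralizer_le_normalizer _ (mem_centralizer_iff.2 fun s hs =>
            X.comm (hWV hs) hx.1)) ((X.module_sup hA).ge hm.1)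
      have hwM : w ∈ M ⊓ W := ⟨by
        have := mul_mem hm (inv_mem (show c ∈ M from ⟨hc.1, hCB hc⟩))
        rwa [mul_inv_cancel_right] at this, hw⟩
      rw [hMW, ← hP'] at hwM
      exact mul_mem ⟨X.comm_le hT.le hwM, X.comm_fixed hT hwM⟩ (hCA' hc)
    · have h1 := hB.sharp
      have h2 := hT.sharp
      unfold Sharp at h1 h2
      rw [hB.card, ← h2, hT.card] at h1
      exact (Nat.eq_of_mul_eq_mul_left hp.pos h1).ge
  -- a common element outside
  obtain ⟨y, hy, hyM⟩ : ∃ y ∈ V, y ∉ M := SetLike.not_le_iff_exists.1 fun h => by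
    have := X.relIndex_of_isT hB
    rw [relIndex_eq_one.2 h] at this
    exact hp.one_lt.ne this
  haveI : Nontrivial A' := Finite.one_lt_card_iff_nontrivial.1 (hT.card.symm ▸ hp.one_lt)
  obtain ⟨⟨a, ha⟩, ha1⟩ := exists_ne (1 : A')
  have ha1' : a ≠ 1 := fun h => ha1 (Subtype.ext h)
  set q := a * y * a⁻¹ * y⁻¹ with hq
  have hqP : q ∈ ⁅V, A'⁆ := by
    rw [hq, show a * y * a⁻¹ * y⁻¹ = (y * a * y⁻¹ * a⁻¹)⁻¹ by group]
    exact inv_mem (commutator_mem_commutator hy ha)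
  have hq1 : q ≠ 1 := fun h => hyM (by
    rw [hMM']
    refine ⟨hy, mem_centralizer_iff.2 fun x hx => ?_⟩
    obtain ⟨n, rfl⟩ := exists_pow_eq hT.card ha ha1' hx
    rw [hq, mul_inv_eq_one, mul_inv_eq_iff_eq_mul] at h
    exact (Commute.pow_left (show Commute a y from h) n).eq)
  have haq : a * q * a⁻¹ = q := by
    rw [mem_centralizer_iff.1 (X.comm_fixed hT hqP) a ha, mul_inv_cancel_right]
  have hpow : ∀ i : ℕ, a ^ i * y * (a ^ i)⁻¹ = q ^ i * y := by
    intro i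
    induction i with
    | zero => simp
    | succ i ih =>
      rw [pow_succ' a, show a * a ^ i * y * (a * a ^ i)⁻¹ = a * (a ^ i * y * (a ^ i)⁻¹) * a⁻¹ by
        group, ih, show a * (q ^ i * y) * a⁻¹ = (a * q ^ i * a⁻¹) * (a * y * a⁻¹ * y⁻¹) * y by group,
        ← conj_pow, haq, ← hq, ← pow_succ]
  intro b hb
  have hrP : b * y * b⁻¹ * y⁻¹ ∈ ⁅V, A'⁆ := by
    rw [hP', show b * y * b⁻¹ * y⁻¹ = (y * b * y⁻¹ * b⁻¹)⁻¹ by group]
    exact inv_mem (commutator_mem_commutator hy hb)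
  obtain ⟨i, hi⟩ := exists_pow_eq (X.card_comm_of_isT hT) hqP hq1 hrP
  have hby : b * y * b⁻¹ = a ^ i * y * (a ^ i)⁻¹ := by
    rw [hpow, ← hi, inv_mul_cancel_right]
  have hone : (a ^ i)⁻¹ * b = 1 := by
    refine X.eq_one (mul_mem (inv_mem (hT.le (pow_mem ha i))) (hB.le hb)) ?_
    have hyc : y ∈ centralizer ({(a ^ i)⁻¹ * b} : Set G) := by
      rw [mem_centralizer_singleton_iff, eq_comm, ← mul_inv_eq_iff_eq_mul]
      calc (a ^ i)⁻¹ * b * y * ((a ^ i)⁻¹ * b)⁻¹ = (a ^ i)⁻¹ * (b * y * b⁻¹) * a ^ i := by group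
        _ = y := by rw [hby]; group
    have hMc : M ≤ centralizer ({(a ^ i)⁻¹ * b} : Set G) := fun m hm => by
      refine mem_centralizer_iff.2 fun z hz => ?_
      rw [Set.mem_singleton_iff.1 hz]
      have e1 := mem_centralizer_iff.1 hm.2 b hb
      have e2 := mem_centralizer_iff.1 (hMM'.le hm).2 (a ^ i) (pow_mem ha i)
      exact (Commute.mul_left (Commute.inv_left (show Commute (a ^ i) m from e2))
        (show Commute b m from e1)).eq
    have hV : V ≤ centralizer ({(a ^ i)⁻¹ * b} : Set G) := by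
      have hlt : M < V ⊓ centralizer ({(a ^ i)⁻¹ * b} : Set G) :=
        lt_of_le_of_ne (le_inf inf_le_left hMc) fun h => hyM (h ▸ ⟨hy, hyc⟩)
      have h := relIndex_mul_relIndex _ _ V hlt.le inf_le_left
      rw [X.relIndex_of_isT hB] at h
      rcases (Nat.dvd_prime hp).1 (Dvd.intro _ h) with h' | h'
      · exact absurd (relIndex_eq_one.1 h') hlt.not_ge
      · rw [h'] at h
        exact (relIndex_eq_one.1 (mul_eq_left₀ hp.ne_zero |>.1 h)).trans inf_le_right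
    exact mem_centralizer_iff.2 fun v hv => (mem_centralizer_iff.1 (hV hv) _ rfl).symm
  rw [inv_mul_eq_one] at hone
  exact hone ▸ hle (pow_mem ha i)

/-- A transvection group lies in a given factor or is independent of it. -/
theorem dichotomy (hA : IsT p V H A) (hB : IsT p V H B) :
    B ≤ factor K A ∨ (B ≤ centralizer ((⁅V, factor K A⁆ : Subgroup G) : Set G) ∧
      B ≤ centralizer (factor K A : Set G) ∧ ⁅V, B⁆ ≤ centralizer (factor K A : Set G)) := by
  by_cases hW : ⁅V, factor K A⁆ = ⁅V, factor K B⁆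
  · exact Or.inl (X.le_factor_of_module_eq hA hB hW)
  have key : ∀ {A B : Subgroup G}, IsT p V H A → IsT p V H B →
      ⁅V, factor K A⁆ ≠ ⁅V, factor K B⁆ → ⁅V, factor K A⁆ ≤ centralizer (factor K B : Set G) := by
    intro A B hA hB hW
    have hKn : ∀ {T : Subgroup G}, IsT p V H T →
        K ≤ normalizer ((⁅V, factor K T⁆ : Subgroup G) : Set G) := fun {T} hT k hk =>
      (X.normalizer_module (X.KH hk) (X.K_le_normalizer hT hk)).1
    have hbot : ⁅V, factor K A⁆ ⊓ ⁅V, factor K B⁆ = ⊥ :=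
      (X.irreducible hA inf_le_left (CfsgLib.Coprime.inf_le_normalizer (hKn hA) (hKn hB))).resolve_right
        fun h => hW (eq_of_le_of_card_ge (inf_eq_left.1 h)
          (by rw [X.card_module hA, X.card_module hB]))
    have h1 : ⁅⁅V, factor K A⁆, ⁅K, B⁆⁆ = ⊥ := le_bot_iff.1 (hbot ▸ le_inf
      (comm_le_of_le_normalizer ((X.comm_K_le hB.le).trans (hKn hA)))
      (commutator_mono (X.comm_le (X.factor_le hA)) le_sup_left))
    exact (le_inf (X.comm_le (X.factor_le hA)) (commutator_eq_bot_iff_le_centralizer.1 h1)).trans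
      (X.centralizer_commK hB)
  have hWB := key hA hB hW
  have hPB : ⁅V, B⁆ ≤ centralizer (factor K A : Set G) :=
    (commutator_mono le_rfl (show B ≤ factor K B from le_sup_right)).trans (key hB hA (Ne.symm hW))
  refine Or.inr ⟨le_centralizer_iff.1 (hWB.trans (centralizer_le (show B ≤ factor K B from
    le_sup_right))), ?_, hPB⟩
  have hcomm : ∀ T : Subgroup G, IsT p V H T → T ≤ factor K A → B ≤ centralizer (T : Set G) :=
    fun T hT hTE => X.commute_of_fixed hT hB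
      (((commutator_mono le_rfl hTE).trans hWB).trans (centralizer_le (show B ≤ factor K B from
        le_sup_right)))
      (hPB.trans (centralizer_le hTE))
  obtain ⟨k, -, hE, hT, -⟩ := X.factor_data hA
  rw [hE, CfsgLib.Fusion.centralizer_sup_eq]
  exact le_inf (hcomm A hA le_sup_right) (hcomm _ hT (hE ▸ le_sup_right))

end Ctx

end CfsgLib.FFPair
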