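import Cfsg.Agent.Lib.Fusion.FFPair.Factor

/-!
# Failure of factorization pairs: the direct product decomposition
-/

set_option autoImplicit false
set_option linter.style.haveILetI false
set_option linter.unusedSectionVars false

open Subgroup
open scoped commutatorElement

namespace CfsgLib.FFPair

universe u

variable {G : Type u} [Group G] [Finite G] {p : ℕ} [Fact p.Prime] {V H K A B : Subgroup G}

namespace Ctx

variable (X : Ctx p V H K)
  (hgen : H = ⨆ B : {B : Subgroup G // IsT p V H B}, (B : Subgroup G))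
include X hgen

omit hgen in
theorem le_normalizer_factor (hA : IsT p V H A) (hB : IsT p V H B) :
    B ≤ normalizer (factor K A : Set G) := by
  rcases X.dichotomy hA hB with h | ⟨-, h, -⟩
  · exact h.trans le_normalizer
  · exact h.trans (centralizer_le_normalizer _)

theorem H_le_normalizer (hA : IsT p V H A) : H ≤ normalizer (factor K A : Set G) := by
  conv_lhs => rw [hgen]
  exact iSup_le fun B => X.le_normalizer_factor hA B.2

theorem factor_sup (hA : IsT p V H A) :
    factor K A ⊔ (H ⊓ centralizer ((⁅V, factor K A⁆ : Subgroup G) : Set G)) = H := by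
  refine le_antisymm (sup_le (X.factor_le hA) inf_le_left) ?_
  conv_lhs => rw [hgen]
  refine iSup_le fun B => ?_
  rcases X.dichotomy hA B.2 with h | ⟨h, -, -⟩
  · exact h.trans le_sup_left
  · exact le_trans (le_inf B.2.le h) le_sup_right

theorem comm_other (hA : IsT p V H A) :
    ⁅factor K A, H ⊓ centralizer ((⁅V, factor K A⁆ : Subgroup G) : Set G)⁆ = ⊥ := by
  refine le_bot_iff.1 ((le_inf ?_ ?_).trans (X.module_faith hA).le)
  · exact comm_le_of_le_normalizer (inf_le_left.trans (X.H_le_normalizer hgen hA))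
  · refine commutator_le.2 fun e he h hh => mem_centralizer_iff.2 fun w hw => ?_
    have he' := (X.normalizer_module (X.factor_le hA he) (le_normalizer he)).1
    have e1 : h * w * h⁻¹ = w := by
      rw [← mem_centralizer_iff.1 hh.2 w hw, mul_inv_cancel_right]
    have e2 : h * (e⁻¹ * w * e) * h⁻¹ = e⁻¹ * w * e := by
      have := (mem_normalizer_iff.1 (inv_mem he') w).1 hw
      rw [inv_inv] at this
      rw [← mem_centralizer_iff.1 hh.2 _ this, mul_inv_cancel_right]
    rw [commutatorElement_def, eq_comm, ← mul_inv_eq_iff_eq_mul]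
    calc e * h * e⁻¹ * h⁻¹ * w * (e * h * e⁻¹ * h⁻¹)⁻¹
        = e * h * e⁻¹ * (h⁻¹ * w * h) * (e * h⁻¹ * e⁻¹) := by group
      _ = e * (h * (e⁻¹ * w * e) * h⁻¹) * e⁻¹ := by
          rw [show h⁻¹ * w * h = w by
            conv_lhs => rw [← e1]
            group]
          group
      _ = w := by rw [e2]; group

theorem module_comm_other (hA : IsT p V H A) :
    ⁅V, H ⊓ centralizer ((⁅V, factor K A⁆ : Subgroup G) : Set G)⁆ ≤
      V ⊓ centralizer (factor K A : Set G) := by
  refine commutator_le.2 fun v hv h hh => ?_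
  obtain ⟨w, hw, c, hc, rfl⟩ := CfsgLib.Coprime.mem_sup_exists
    (show V ⊓ centralizer (factor K A : Set G) ≤
        normalizer ((⁅V, factor K A⁆ : Subgroup G) : Set G) from
      fun x hx => centralizer_le_normalizer _ (mem_centralizer_iff.2 fun s hs =>
        X.comm (X.comm_le (X.factor_le hA) hs) hx.1)) ((X.module_sup hA).ge hv)
  have hhC := (X.normalizer_module hh.1 (X.H_le_normalizer hgen hA hh.1)).2
  have e1 : h * w⁻¹ * h⁻¹ = w⁻¹ := by
    rw [← mem_centralizer_iff.1 hh.2 _ (inv_mem hw), mul_inv_cancel_right]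
  have hz : c * (h * c⁻¹ * h⁻¹) ∈ V ⊓ centralizer (factor K A : Set G) :=
    Subgroup.mul_mem _ hc ((mem_normalizer_iff.1 hhC _).1 (inv_mem hc))
  rw [commutatorElement_def, show w * c * h * (w * c)⁻¹ * h⁻¹ =
    w * (c * (h * c⁻¹ * h⁻¹)) * (h * w⁻¹ * h⁻¹) by group, e1,
    X.comm (X.comm_le (X.factor_le hA) hw) hz.1, mul_inv_cancel_right]
  exact hz

omit hgen in
theorem factor_eq_of_le (hA : IsT p V H A) (hB : IsT p V H B) (h : B ≤ factor K A) :
    factor K B = factor K A := by
  refine eq_of_le_of_card_ge (sup_le ?_ h) ?_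
  · refine commutator_le.2 fun k hk b hb => ?_
    rw [commutatorElement_def]
    exact mul_mem ((mem_normalizer_iff.1 (X.K_le_normalizer hA hk) _).1 (h hb)) (inv_mem (h hb))
  · obtain ⟨φ⟩ := X.factor_iso hA
    obtain ⟨ψ⟩ := X.factor_iso hB
    rw [Nat.card_congr φ.toEquiv, Nat.card_congr ψ.toEquiv]

omit hgen in
theorem independent (hA : IsT p V H A) (hB : IsT p V H B) (hne : factor K B ≠ factor K A) :
    factor K B ≤ centralizer ((⁅V, factor K A⁆ : Subgroup G) : Set G) ∧
      ⁅V, factor K B⁆ ≤ V ⊓ centralizer (factor K A : Set G) := by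
  obtain ⟨k, hk, hE, hT, D⟩ := X.factor_data hB
  have h1 : ¬ B ≤ factor K A := fun h => hne (X.factor_eq_of_le hA hB h)
  have h2 : ¬ CfsgLib.Fusion.conjBy k B ≤ factor K A := fun h => h1 fun b hb =>
    (mem_normalizer_iff.1 (X.K_le_normalizer hA hk) b).2 (h (CfsgLib.Fusion.conj_mem_conjBy hb))
  obtain ⟨a1, -, a3⟩ := (X.dichotomy hA hB).resolve_left h1
  obtain ⟨b1, -, b3⟩ := (X.dichotomy hA hT).resolve_left h2
  refine ⟨hE ▸ sup_le a1 b1, le_inf (X.comm_le (X.factor_le hB)) ?_⟩
  rw [hE, D.comm]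
  exact sup_le a3 b3

omit hgen in
theorem decomposition {ι : Type*} (A : ι → Subgroup G) (hA : ∀ i, IsT p V H (A i))
    (hinj : Function.Injective fun i => factor K (A i)) (s : Finset ι) :
    (⨆ i ∈ s, ⁅V, factor K (A i)⁆) ⊓
        (V ⊓ ⨅ i ∈ s, centralizer (factor K (A i) : Set G)) = ⊥ ∧
      (⨆ i ∈ s, ⁅V, factor K (A i)⁆) ⊔
        (V ⊓ ⨅ i ∈ s, centralizer (factor K (A i) : Set G)) = V := by
  classical
  induction s using Finset.induction with
  | empty => simp
  | insert i₀ s hi ih =>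
    obtain ⟨ih1, ih2⟩ := ih
    rw [Finset.iSup_insert, Finset.iInf_insert]
    set S := ⨆ i ∈ s, ⁅V, factor K (A i)⁆ with hS
    set Cs := ⨅ i ∈ s, centralizer (factor K (A i) : Set G) with hCs
    set W := ⁅V, factor K (A i₀)⁆ with hW
    set C₀ := centralizer (factor K (A i₀) : Set G) with hC₀
    have hWV : W ≤ V := X.comm_le (X.factor_le (hA i₀))
    have hSV : S ≤ V := iSup₂_le fun i _ => X.comm_le (X.factor_le (hA i))
    have hind : ∀ i ∈ s, factor K (A i) ≠ factor K (A i₀) := fun i his h =>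
      hi (hinj h ▸ his)
    have hSC : S ≤ C₀ := iSup₂_le fun i his =>
      (X.independent (hA i₀) (hA i) (hind i his)).2.trans inf_le_right
    have hWC : W ≤ Cs := le_iInf₂ fun i his =>
      (X.independent (hA i) (hA i₀) (hind i his).symm).2.trans inf_le_right
    have hn : ∀ {P Q : Subgroup G}, P ≤ V → Q ≤ V → Q ≤ normalizer (P : Set G) :=
      fun hP hQ x hx => centralizer_le_normalizer _ (mem_centralizer_iff.2 fun y hy =>
        X.comm (hP hy) (hQ hx))
    constructor
    · rw [eq_bot_iff]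
      rintro x ⟨hx, hxV, hxC₀, hxCs⟩
      obtain ⟨w, hw, y, hy, rfl⟩ := CfsgLib.Coprime.mem_sup_exists (hn hWV hSV) hx
      have hw1 : w ∈ W ⊓ (V ⊓ C₀) := ⟨hw, hWV hw, by
        have := Subgroup.mul_mem C₀ hxC₀ (inv_mem (hSC hy))
        rwa [mul_inv_cancel_right] at this⟩
      rw [X.module_inf (hA i₀), mem_bot] at hw1
      subst hw1
      rw [one_mul] at hxCs ⊢
      exact ih1.le ⟨hy, hSV hy, hxCs⟩
    · refine le_antisymm (sup_le (sup_le hWV hSV) inf_le_left) fun v hv => ?_
      obtain ⟨y, hy, c, hc, rfl⟩ := CfsgLib.Coprime.mem_sup_exists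
        (hn hSV (inf_le_left : V ⊓ Cs ≤ V)) (ih2.ge hv)
      obtain ⟨w, hw, c₀, hc₀, rfl⟩ := CfsgLib.Coprime.mem_sup_exists
        (hn hWV (inf_le_left : V ⊓ C₀ ≤ V)) ((X.module_sup (hA i₀)).ge hc.1)
      rw [← mul_assoc]
      refine mul_mem_sup (mul_mem (mem_sup_right hy) (mem_sup_left hw)) ⟨hc₀.1, hc₀.2, ?_⟩
      have := Subgroup.mul_mem Cs (inv_mem (hWC hw)) hc.2
      rwa [inv_mul_cancel_left] at this

end Ctx

end CfsgLib.FFPair
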