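import Cfsg.Agent.Lib.Fusion.FFPair.Orbit
import Cfsg.Agent.Lib.PGroup.ElementaryBasic
import Cfsg.Agent.Lib.Coprime.Hyperplanes

/-!
# Coprime operators on failure of factorization pairs
-/

set_option autoImplicit false
set_option linter.style.haveILetI false
set_option linter.unusedSectionVars false

open Subgroup
open scoped commutatorElement

namespace CfsgLib.FFPair

universe u

variable {G : Type u} [Group G] [Finite G] {p : ℕ} [Fact p.Prime]

/-- A group `Q` of operators of prime power order prime to `|H|`. -/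
structure IsOperators (q : ℕ) (V H K Q : Subgroup G) : Prop where
  hQ : IsPGroup q Q
  nV : Q ≤ normalizer (V : Set G)
  nH : Q ≤ normalizer (H : Set G)
  nK : Q ≤ normalizer (K : Set G)
  cop : ¬ q ∣ Nat.card H

variable {V H K A Q : Subgroup G} {q : ℕ} [hq : Fact q.Prime]

namespace Ctx

variable (X : Ctx p V H K) (O : IsOperators q V H K Q)
include X O

theorem lt_of_isT (hA : IsT p V H A) : p < q := by
  have h1 : p ∣ Nat.card H := hA.card ▸ card_dvd_of_le hA.le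
  have h2 : (p - 1) * (p + 1) ∣ Nat.card H :=
    X.card_commK hA ▸ card_dvd_of_le ((X.comm_K_le hA.le).trans X.KH)
  have hq2 := hq.out.two_le
  rcases X.prime_eq hA with rfl | rfl
  · rcases hq2.eq_or_lt with h | h
    · exact absurd (h ▸ h1) O.cop
    · exact h
  · rcases (show q = 2 ∨ q = 3 ∨ 3 < q by omega) with rfl | rfl | h
    · exact absurd ((by decide : 2 ∣ (3 - 1) * (3 + 1)).trans h2) O.cop
    · exact absurd h1 O.cop
    · exact h

theorem isT_conj_operator (hA : IsT p V H A) {ξ : G} (hξ : ξ ∈ Q) :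
    IsT p V H (CfsgLib.Fusion.conjBy ξ A) := by
  refine ⟨?_, by rw [CfsgLib.Fusion.card_conjBy]; exact hA.card, ?_⟩
  · exact (CfsgLib.Fusion.conjBy_mono hA.le).trans (CfsgLib.Fusion.conjBy_eq_iff.2 (O.nH hξ)).le
  · have hV := CfsgLib.Fusion.conjBy_eq_iff.2 (O.nV hξ)
    have hC : V ⊓ centralizer (CfsgLib.Fusion.conjBy ξ A : Set G) =
        CfsgLib.Fusion.conjBy ξ (V ⊓ centralizer (A : Set G)) := by
      rw [← CfsgLib.Fusion.conjBy_centralizer]
      conv_lhs => rw [← hV]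
      exact (map_inf _ _ _ (MulAut.conj ξ).injective).symm
    unfold Sharp
    rw [hC, CfsgLib.Fusion.card_conjBy, CfsgLib.Fusion.card_conjBy]
    exact hA.sharp

theorem conj_factor (hA : IsT p V H A) {ξ : G} (hξ : ξ ∈ Q) :
    CfsgLib.Fusion.conjBy ξ (factor K A) = factor K (CfsgLib.Fusion.conjBy ξ A) := by
  have hK := CfsgLib.Fusion.conjBy_eq_iff.2 (O.nK hξ)
  conv_rhs => rw [factor, ← hK]
  rw [factor]
  exact (Subgroup.map_sup _ _ _).trans (congrArg₂ (· ⊔ ·) (map_commutator _ _ _) rfl)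

theorem conj_module (hA : IsT p V H A) {ξ : G} (hξ : ξ ∈ Q) :
    CfsgLib.Fusion.conjBy ξ ⁅V, factor K A⁆ = ⁅V, factor K (CfsgLib.Fusion.conjBy ξ A)⁆ := by
  conv_rhs => rw [← CfsgLib.Fusion.conjBy_eq_iff.2 (O.nV hξ), ← X.conj_factor O hA hξ]
  exact map_commutator _ _ _

omit O in
theorem isSylowIn_factor (hA : IsT p V H A) : CfsgLib.Coprime.IsSylowIn p A (factor K A) := by
  have hp : p.Prime := Fact.out
  have h := CfsgLib.EABasic.card_sup_mul_card_inf_of_le_normalizer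
    (X.le_normalizer_commK (A := A))
  have h0 : A ⊓ ⁅K, A⁆ = ⊥ :=
    le_bot_iff.1 ((inf_le_inf_left A (X.comm_K_le hA.le)).trans (X.inf_K_eq_bot hA).le)
  rw [h0, Subgroup.card_bot, mul_one, sup_comm, hA.card, X.card_commK hA] at h
  refine ⟨le_sup_right, ?_⟩
  rw [hA.card, show Nat.card ↥(factor K A) = p * ((p - 1) * (p + 1)) from h,
    Nat.factorization_mul hp.ne_zero (Nat.mul_ne_zero (by have := hp.two_le; omega) (Nat.succ_ne_zero p)), Finsupp.add_apply,
    hp.factorization_self, Nat.factorization_eq_zero_of_not_dvd, pow_one]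
  rcases X.prime_eq hA with rfl | rfl <;> decide

/-- Operators normalizing a factor centralize it and its module. -/
theorem centralizes_factor (hA : IsT p V H A) {ξ : G} (hξ : ξ ∈ Q)
    (hn : ξ ∈ normalizer (factor K A : Set G)) :
    ξ ∈ centralizer ((⁅V, factor K A⁆ : Subgroup G) : Set G) ∧
      ξ ∈ centralizer (factor K A : Set G) := by
  set E := factor K A with hE
  set W := ⁅V, E⁆ with hW
  have hEH : E ≤ H := X.factor_le hA
  have hWV : W ≤ V := X.comm_le hEH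
  have hzp : IsPGroup q (zpowers ξ) := O.hQ.to_le (zpowers_le.2 hξ)
  have hpq := X.lt_of_isT O hA
  obtain ⟨n, hn'⟩ := hzp.exists_card_eq
  have hcop : (Nat.card (zpowers ξ)).Coprime (Nat.card E) := by
    rw [hn']
    exact (hq.out.coprime_iff_not_dvd.2 fun h => O.cop (h.trans (card_dvd_of_le hEH))).pow_left n
  have hzn : zpowers ξ ≤ normalizer (E : Set G) := zpowers_le.2 hn
  obtain ⟨P, hP, hPn⟩ := CfsgLib.Coprime.exists_invariant_sylow hzn hcop
    (Or.inl (CfsgLib.Coprime.isSolvable_of_isMulCommutative inferInstance)) p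
  obtain ⟨k, hk, hkP⟩ := (X.isSylowIn_factor hA).exists_conj hP
  obtain ⟨hPT, -, -⟩ := X.isT_conj hA (hEH hk)
  rw [show CfsgLib.Fusion.conjBy k A = P from hkP] at hPT
  have hPW : ⁅V, P⁆ ≤ W := commutator_mono le_rfl hP.1
  have hξP : ξ ∈ centralizer (P : Set G) :=
    mem_centralizer_of_small (hPn (mem_zpowers ξ)) hzp (hPT.card.trans_lt hpq)
  have hnW : zpowers ξ ≤ normalizer (W : Set G) := zpowers_le.2 (CfsgLib.Fusion.conjBy_eq_iff.1 (by
    rw [hW]
    exact (map_commutator _ _ _).trans (by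
      rw [← CfsgLib.Fusion.conjBy, ← CfsgLib.Fusion.conjBy, CfsgLib.Fusion.conjBy_eq_iff.2 (O.nV hξ),
        CfsgLib.Fusion.conjBy_eq_iff.2 hn])))
  have hnL : ξ ∈ normalizer ((⁅V, P⁆ : Subgroup G) : Set G) := CfsgLib.Fusion.conjBy_eq_iff.1
    ((map_commutator _ _ _).trans (by
      rw [← CfsgLib.Fusion.conjBy, ← CfsgLib.Fusion.conjBy, CfsgLib.Fusion.conjBy_eq_iff.2 (O.nV hξ),
        CfsgLib.Fusion.conjBy_eq_iff.2 (hPn (mem_zpowers ξ))]))
  have hξL : ξ ∈ centralizer ((⁅V, P⁆ : Subgroup G) : Set G) :=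
    mem_centralizer_of_small hnL hzp ((X.card_comm_of_isT hPT).trans_lt hpq)
  have hξW : ξ ∈ centralizer (W : Set G) := by
    set Wc := ⁅W, zpowers ξ⁆
    set Z := W ⊓ centralizer (zpowers ξ : Set G)
    have hWc : Wc ≤ W := by
      refine commutator_le.2 fun w hw z hz => ?_
      rw [commutatorElement_def, show w * z * w⁻¹ * z⁻¹ = w * (z * w⁻¹ * z⁻¹) by group]
      exact mul_mem hw ((mem_normalizer_iff.1 (hnW hz) _).1 (inv_mem hw))
    have hzc : (Nat.card (zpowers ξ)).Coprime (Nat.card W) := by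
      rw [hn', hW, X.card_module hA]
      exact ((Nat.coprime_primes hq.out (Fact.out : p.Prime)).2 hpq.ne').pow _ _
    have hWab : IsMulCommutative W := (ea_of_le X.hV hWV).1
    have hbot : Z ⊓ Wc = ⊥ := CfsgLib.Coprime.centralizer_inf_commutator_eq_bot hWab hnW hzc
    have hLZ : ⁅V, P⁆ ≤ Z := le_inf hPW (le_centralizer_iff.1 (zpowers_le.2 hξL))
    have h0 : Wc ⊓ ⁅V, P⁆ = ⊥ :=
      le_bot_iff.1 (fun x hx => hbot.le ⟨hLZ hx.2, hx.1⟩)
    have hc := CfsgLib.Fusion.card_mul_le_sup_inf Wc ⁅V, P⁆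
    rw [h0, Subgroup.card_bot, mul_one, X.card_comm_of_isT hPT] at hc
    have hc2 : Nat.card Wc * p ≤ p * p := hc.trans ((card_le_of_le (sup_le hWc hPW)).trans_eq
      (by rw [hW, X.card_module hA, sq]))
    have hξc : ξ ∈ centralizer (Wc : Set G) := by
      refine mem_centralizer_of_small ?_ hzp
        ((Nat.le_of_mul_le_mul_right hc2 (Fact.out : p.Prime).pos).trans_lt hpq)
      show ξ ∈ normalizer ((⁅W, zpowers ξ⁆ : Subgroup G) : Set G)
      rw [commutator_comm]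
      exact normalizer_commutator_ge_left (zpowers ξ) W (mem_zpowers ξ)
    have hWc1 : Wc = ⊥ := le_bot_iff.1 (fun x hx => hbot.le
      ⟨⟨hWc hx, le_centralizer_iff.1 (zpowers_le.2 hξc) hx⟩, hx⟩)
    exact le_centralizer_iff.1 (commutator_eq_bot_iff_le_centralizer.1 hWc1) (mem_zpowers ξ)
  refine ⟨hξW, mem_centralizer_iff.2 fun e he => ?_⟩
  have h1 : e⁻¹ * (ξ * e * ξ⁻¹) ∈ E ⊓ centralizer (W : Set G) := by
    refine ⟨Subgroup.mul_mem _ (inv_mem he) ((mem_normalizer_iff.1 hn e).1 he), mem_centralizer_iff.2 fun w hw => ?_⟩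
    have hew : e⁻¹ * w * e ∈ W := by
      have h := (mem_normalizer_iff.1 (X.normalizer_module (hEH (inv_mem he))
        (le_normalizer (inv_mem he))).1 w).1 hw
      simpa using h
    have hew' : e * w * e⁻¹ ∈ W :=
      (mem_normalizer_iff.1 (X.normalizer_module (hEH he) (le_normalizer he)).1 w).1 hw
    have c1 : ξ * w = w * ξ := (mem_centralizer_iff.1 hξW w hw).symm
    have c2 : ξ * (e * w * e⁻¹) = e * w * e⁻¹ * ξ := (mem_centralizer_iff.1 hξW _ hew').symm
    have c1' : ξ⁻¹ * w = w * ξ⁻¹ := (show Commute ξ w from c1).inv_left.eq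
    have c2' : ξ * (e * w * e⁻¹) * ξ⁻¹ = e * w * e⁻¹ := by rw [c2, mul_inv_cancel_right]
    symm
    calc e⁻¹ * (ξ * e * ξ⁻¹) * w = e⁻¹ * (ξ * e * (ξ⁻¹ * w)) := by group
      _ = e⁻¹ * (ξ * (e * w * e⁻¹) * ξ⁻¹) * (ξ * e * ξ⁻¹) := by rw [c1']; group
      _ = w * (e⁻¹ * (ξ * e * ξ⁻¹)) := by rw [c2']; group
  rw [hE, hW, X.module_faith hA, mem_bot, inv_mul_eq_one] at h1
  exact eq_mul_inv_iff_mul_eq.1 h1

variable (hgen : H = ⨆ B : {B : Subgroup G // IsT p V H B}, (B : Subgroup G))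
include hgen

/-- Conjugates outside the stabilizer of a factor are independent of it. -/
theorem conj_factor_data (hA : IsT p V H A) {ξ : G} (hξ : ξ ∈ Q)
    (hn : ξ ∉ normalizer (factor K A : Set G)) :
    CfsgLib.Fusion.conjBy ξ (factor K A) ≤ centralizer ((⁅V, factor K A⁆ : Subgroup G) : Set G) ∧
      CfsgLib.Fusion.conjBy ξ (factor K A) ≤ centralizer (factor K A : Set G) ∧
      CfsgLib.Fusion.conjBy ξ ⁅V, factor K A⁆ ≤ V ⊓ centralizer (factor K A : Set G) := by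
  have hB := X.isT_conj_operator O hA hξ
  have hne : factor K (CfsgLib.Fusion.conjBy ξ A) ≠ factor K A := fun h =>
    hn (CfsgLib.Fusion.conjBy_eq_iff.1 ((X.conj_factor O hA hξ).trans h))
  obtain ⟨h1, h2⟩ := X.independent hA hB hne
  rw [X.conj_factor O hA hξ, X.conj_module O hA hξ]
  refine ⟨h1, le_trans (le_inf (X.factor_le hB) h1) ?_, h2⟩
  rw [← commutator_eq_bot_iff_le_centralizer, commutator_comm]
  exact X.comm_other hgen hA

theorem orbit_factor (hA : IsT p V H A) :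
    OrbitData Q (normalizer (factor K A : Set G)) (factor K A) :=
  ⟨fun _ hξ hn => (X.centralizes_factor O hA hξ hn).2,
    fun _ hξ hn => (X.conj_factor_data O hgen hA hξ hn).2.1⟩

theorem orbit_module (hA : IsT p V H A) :
    OrbitData Q (normalizer (factor K A : Set G)) ⁅V, factor K A⁆ := by
  have hWV : ⁅V, factor K A⁆ ≤ V := X.comm_le (X.factor_le hA)
  exact ⟨fun _ hξ hn => (X.centralizes_factor O hA hξ hn).1, fun _ hξ hn v hv =>
    mem_centralizer_iff.2 fun w hw =>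
      X.comm (hWV hw) ((X.conj_factor_data O hgen hA hξ hn).2.2 hv).1⟩

theorem orbit_factor_mem (hA : IsT p V H A) (e : ↥(factor K A)) :
    (X.orbit_factor O hgen hA).prod e ∈ H ⊓ centralizer (Q : Set G) :=
  ⟨(X.orbit_factor O hgen hA).prod_mem e fun _ hξ =>
      (mem_normalizer_iff.1 (O.nH hξ) _).1 (X.factor_le hA e.2),
    mem_centralizer_iff.2 fun _ hξ => (X.orbit_factor O hgen hA).prod_commute hξ e⟩

/-- Conjugations inside a factor are induced by fixed points of the operators. -/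
theorem exists_fixed_conj (hA : IsT p V H A) {k : G} (hk : k ∈ factor K A) :
    ∃ d ∈ H ⊓ centralizer (Q : Set G), ∀ a ∈ factor K A, d * a * d⁻¹ = k * a * k⁻¹ := by
  refine ⟨_, X.orbit_factor_mem O hgen hA ⟨k, hk⟩, fun a ha => ?_⟩
  obtain ⟨r, hr, e⟩ := (X.orbit_factor O hgen hA).prod_eq ⟨k, hk⟩
    (T := centralizer (factor K A : Set G)) fun ξ hξ hn =>
      (X.conj_factor_data O hgen hA hξ hn).2.1 (CfsgLib.Fusion.conj_mem_conjBy hk)
  rw [e, mul_inv_rev]
  have c := mem_centralizer_iff.1 hr a ha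
  calc k * r * a * (r⁻¹ * k⁻¹) = k * (r * a) * r⁻¹ * k⁻¹ := by group
    _ = _ := by rw [← c]; group

/-- A fixed natural module with a fixed group inducing the special linear group on it. -/
theorem exists_fixed_pair (hA : IsT p V H A) :
    ∃ (W : Subgroup G) (Φ : ↥(factor K A) →* G), W ≤ V ⊓ centralizer (Q : Set G) ∧
      Nat.card W = p ^ 2 ∧ (∀ e, Φ e ∈ H ⊓ centralizer (Q : Set G)) ∧
      (∀ e, Φ e ∈ normalizer (W : Set G)) ∧ (∀ e, Φ e ∈ centralizer (W : Set G) → e = 1) := by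
  set hΦ := X.orbit_factor O hgen hA
  set hΨ := X.orbit_module O hgen hA
  have hWV : ⁅V, factor K A⁆ ≤ V := X.comm_le (X.factor_le hA)
  -- the action of the fixed group on one module component
  have hact : ∀ (e : ↥(factor K A)) (w : G), w ∈ ⁅V, factor K A⁆ →
      hΦ.prod e * w * (hΦ.prod e)⁻¹ = e * w * (e : G)⁻¹ := by
    intro e w hw
    obtain ⟨r, hr, he⟩ := hΦ.prod_eq e (T := centralizer ((⁅V, factor K A⁆ : Subgroup G) : Set G))
      fun ξ hξ hn => (X.conj_factor_data O hgen hA hξ hn).1 (CfsgLib.Fusion.conj_mem_conjBy e.2)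
    rw [he, mul_inv_rev]
    have c := mem_centralizer_iff.1 hr w hw
    calc (e : G) * r * w * (r⁻¹ * (e : G)⁻¹) = e * (r * w) * r⁻¹ * (e : G)⁻¹ := by group
      _ = _ := by rw [← c]; group
  have hstab : ∀ (e : ↥(factor K A)) (w : G), w ∈ ⁅V, factor K A⁆ →
      (e : G) * w * (e : G)⁻¹ ∈ ⁅V, factor K A⁆ := fun e w hw =>
    (mem_normalizer_iff.1 (X.normalizer_module (X.factor_le hA e.2) (le_normalizer e.2)).1 w).1 hw
  have hcomp : ∀ (e : ↥(factor K A)) (w : ↥(⁅V, factor K A⁆ : Subgroup G)) (ξ : G), ξ ∈ Q →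
      hΦ.prod e * (ξ * w * ξ⁻¹) * (hΦ.prod e)⁻¹ =
        ξ * ((e : G) * w * (e : G)⁻¹) * ξ⁻¹ := by
    intro e w ξ hξ
    have c : ξ * hΦ.prod e = hΦ.prod e * ξ := hΦ.prod_commute hξ e
    have c' : ξ⁻¹ * (hΦ.prod e)⁻¹ = (hΦ.prod e)⁻¹ * ξ⁻¹ := by
      rw [← mul_inv_rev, ← mul_inv_rev, c]
    rw [← hact e w w.2]
    calc hΦ.prod e * (ξ * w * ξ⁻¹) * (hΦ.prod e)⁻¹
        = (hΦ.prod e * ξ) * w * (ξ⁻¹ * (hΦ.prod e)⁻¹) := by group
      _ = _ := by rw [← c, c']; group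
  have hconj : ∀ (e : ↥(factor K A)) (w : ↥(⁅V, factor K A⁆ : Subgroup G)),
      hΦ.prod e * hΨ.prod w * (hΦ.prod e)⁻¹ = hΨ.prod ⟨_, hstab e w w.2⟩ := by
    intro e w
    letI := Fintype.ofFinite (↥Q ⧸ (normalizer (factor K A : Set G)).subgroupOf Q)
    rw [hΨ.prod_apply, hΨ.prod_apply]
    show (MulAut.conj (hΦ.prod e)).toMonoidHom _ = _
    rw [Finset.map_noncommProd]
    exact Finset.noncommProd_congr rfl (fun i _ => hcomp e w _ (i.out).2) _
  have hinj : ∀ w, hΨ.prod w = 1 → w = 1 := by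
    intro w hw
    obtain ⟨r, hr, he⟩ := hΨ.prod_eq w (T := V ⊓ centralizer (factor K A : Set G))
      fun ξ hξ hn => (X.conj_factor_data O hgen hA hξ hn).2.2 (CfsgLib.Fusion.conj_mem_conjBy w.2)
    rw [hw] at he
    have hwr : (w : G) = r⁻¹ := eq_inv_of_mul_eq_one_left he.symm
    exact Subtype.ext (mem_bot.1 ((X.module_inf hA).le ⟨w.2, hwr ▸ Subgroup.inv_mem _ hr⟩))
  refine ⟨hΨ.prod.range, hΦ.prod, ?_, ?_, fun e => X.orbit_factor_mem O hgen hA e, ?_, ?_⟩
  · rintro _ ⟨w, rfl⟩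
    exact ⟨hΨ.prod_mem w fun ξ hξ => (mem_normalizer_iff.1 (O.nV hξ) _).1 (hWV w.2),
      mem_centralizer_iff.2 fun ξ hξ => hΨ.prod_commute hξ w⟩
  · rw [← X.card_module hA]
    exact (Nat.card_congr (MonoidHom.ofInjective ((injective_iff_map_eq_one _).2 hinj)).toEquiv).symm
  · intro e
    refine CfsgLib.Fusion.conjBy_eq_iff.1 (CfsgLib.Fusion.conjBy_eq_of_le ?_)
    rw [CfsgLib.Fusion.conjBy_le_iff]
    rintro _ ⟨w, rfl⟩
    exact ⟨_, (hconj e w).symm⟩
  · intro e he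
    refine Subtype.ext (mem_bot.1 ((X.module_faith hA).le ⟨e.2, mem_centralizer_iff.2 fun w hw => ?_⟩))
    have h1 := hconj e ⟨w, hw⟩
    rw [← mem_centralizer_iff.1 he _ ⟨⟨w, hw⟩, rfl⟩, mul_inv_cancel_right] at h1
    have h2 : (⟨w, hw⟩ : ↥(⁅V, factor K A⁆ : Subgroup G)) = ⟨_, hstab e w hw⟩ :=
      (injective_iff_map_eq_one _).2 hinj h1
    exact eq_mul_inv_iff_mul_eq.1 (congrArg Subtype.val h2)

end Ctx

end CfsgLib.FFPair
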