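import Cfsg.Agent.Lib.Fusion.FFPair.Global
import Mathlib.GroupTheory.NoncommPiCoprod
import Mathlib.GroupTheory.Perm.Basic

/-!
# Products over orbits of commuting subgroups
-/

set_option autoImplicit false
set_option linter.style.haveILetI false
set_option linter.unusedSectionVars false

open Subgroup
open scoped commutatorElement

namespace CfsgLib.FFPair

universe u

variable {G : Type u} [Group G] [Finite G]

/-- An element of prime power order normalizing a subgroup smaller than the prime centralizes it. -/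
theorem mem_centralizer_of_small {q : ℕ} [hq : Fact q.Prime] {P : Subgroup G} {ξ : G}
    (hξ : ξ ∈ normalizer (P : Set G)) (hξq : IsPGroup q (zpowers ξ)) (h : Nat.card P < q) :
    ξ ∈ centralizer (P : Set G) := by
  obtain ⟨n, hn⟩ := hξq ⟨ξ, mem_zpowers ξ⟩
  have hn' : (⟨ξ, hξ⟩ : normalizer (P : Set G)) ^ q ^ n = 1 :=
    Subtype.ext (by simpa using congrArg Subtype.val hn)
  set f := (MulAut.toPerm (M := P)).comp P.normalizerMonoidHom
  have h1 : orderOf (f ⟨ξ, hξ⟩) ∣ q ^ n :=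
    orderOf_dvd_of_pow_eq_one (by rw [← map_pow, hn', map_one])
  have h2 : orderOf (f ⟨ξ, hξ⟩) ∣ (Nat.card P).factorial := by
    rw [← Nat.card_perm]
    exact orderOf_dvd_natCard _
  obtain ⟨j, -, hj⟩ := (Nat.dvd_prime_pow hq.out).1 h1
  rcases j with _ | j
  · rw [pow_zero, orderOf_eq_one_iff] at hj
    refine mem_centralizer_iff.2 fun x hx => ?_
    have h3 : f ⟨ξ, hξ⟩ ⟨x, hx⟩ = ⟨x, hx⟩ := by rw [hj]; rfl
    have h4 : ξ * x * ξ⁻¹ = x := congrArg Subtype.val h3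
    exact (mul_inv_eq_iff_eq_mul.1 h4).symm
  · rw [hj] at h2
    exact absurd (hq.out.dvd_factorial.1 ((dvd_pow_self q j.succ_ne_zero).trans h2)) (by omega)

/-- Hypotheses to multiply the conjugates of `S` under `Q` over the cosets of `Q ∩ St`. -/
structure OrbitData (Q St S : Subgroup G) : Prop where
  stab : ∀ ξ ∈ Q, ξ ∈ St → ξ ∈ centralizer (S : Set G)
  off : ∀ ξ ∈ Q, ξ ∉ St → CfsgLib.Fusion.conjBy ξ S ≤ centralizer (S : Set G)

variable {Q St S : Subgroup G}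

/-- The component of an index. -/
noncomputable abbrev orbHom (Q St S : Subgroup G) (i : ↥Q ⧸ St.subgroupOf Q) : ↥S →* G :=
  ((MulAut.conj ((i.out : ↥Q) : G)).toMonoidHom).comp S.subtype

theorem OrbitData.comm (h : OrbitData Q St S) :
    Pairwise fun i j : ↥Q ⧸ St.subgroupOf Q => ∀ x y, Commute (orbHom Q St S i x) (orbHom Q St S j y) := by
  intro i j hij x y
  set a : ↥Q := i.out
  set b : ↥Q := j.out
  have hab : ((a⁻¹ * b : ↥Q) : G) ∉ St := fun hm => hij (by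
    rw [← QuotientGroup.out_eq' i, ← QuotientGroup.out_eq' j]
    exact QuotientGroup.eq.2 (mem_subgroupOf.2 hm))
  have h1 := mem_centralizer_iff.1 (h.off _ (a⁻¹ * b).2 hab
    (CfsgLib.Fusion.conj_mem_conjBy y.2)) x x.2
  show (a : G) * x * (a : G)⁻¹ * ((b : G) * y * (b : G)⁻¹) =
    (b : G) * y * (b : G)⁻¹ * ((a : G) * x * (a : G)⁻¹)
  simp only [coe_mul, coe_inv, mul_inv_rev, inv_inv] at h1
  calc (a : G) * x * (a : G)⁻¹ * ((b : G) * y * (b : G)⁻¹)
      = (a : G) * ((x : G) * ((a : G)⁻¹ * b * y * ((b : G)⁻¹ * a))) * (a : G)⁻¹ := by group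
    _ = _ := by rw [h1]; group

/-- The product over the orbit. -/
noncomputable def OrbitData.prod (h : OrbitData Q St S) : ↥S →* G :=
  letI := Fintype.ofFinite (↥Q ⧸ St.subgroupOf Q)
  (MonoidHom.noncommPiCoprod (orbHom Q St S) h.comm).comp (Pi.monoidHom fun _ => MonoidHom.id ↥S)

theorem OrbitData.prod_apply (h : OrbitData Q St S) [hF : Fintype (↥Q ⧸ St.subgroupOf Q)] (x : ↥S) :
    h.prod x = Finset.univ.noncommProd (fun i => orbHom Q St S i x)
      (Pairwise.set_pairwise (fun _ _ hij => h.comm hij x x) _) := by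
  obtain rfl := Subsingleton.elim hF (Fintype.ofFinite _)
  letI := Fintype.ofFinite (↥Q ⧸ St.subgroupOf Q)
  exact MonoidHom.noncommPiCoprod_apply (hcomm := h.comm) (orbHom Q St S) _

theorem OrbitData.prod_commute (h : OrbitData Q St S) {ξ : G} (hξ : ξ ∈ Q) (x : ↥S) :
    ξ * h.prod x = h.prod x * ξ := by
  classical
  letI := Fintype.ofFinite (↥Q ⧸ St.subgroupOf Q)
  rw [← mul_inv_eq_iff_eq_mul, h.prod_apply]
  show (MulAut.conj ξ).toMonoidHom _ = _
  rw [Finset.map_noncommProd]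
  have e : ∀ i : ↥Q ⧸ St.subgroupOf Q, (MulAut.conj ξ).toMonoidHom (orbHom Q St S i x) =
      orbHom Q St S ((⟨ξ, hξ⟩ : ↥Q) • i) x := by
    intro i
    set a : ↥Q := i.out
    set b : ↥Q := ((⟨ξ, hξ⟩ : ↥Q) • i).out
    have hb : ((b⁻¹ * (⟨ξ, hξ⟩ * a) : ↥Q) : G) ∈ St := mem_subgroupOf.1 (QuotientGroup.eq.1 (by
      rw [QuotientGroup.out_eq']
      show (⟨ξ, hξ⟩ : ↥Q) • i = (⟨ξ, hξ⟩ : ↥Q) • (a : ↥Q ⧸ St.subgroupOf Q)
      rw [QuotientGroup.out_eq']))
    have h1 := mem_centralizer_iff.1 (h.stab _ (b⁻¹ * (⟨ξ, hξ⟩ * a)).2 hb) x x.2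
    show ξ * ((a : G) * x * (a : G)⁻¹) * ξ⁻¹ = (b : G) * x * (b : G)⁻¹
    simp only [coe_mul, coe_inv] at h1
    calc ξ * ((a : G) * x * (a : G)⁻¹) * ξ⁻¹
        = (b : G) * (((b : G)⁻¹ * (ξ * a)) * x) * ((a : G)⁻¹ * ξ⁻¹) := by group
      _ = (b : G) * ((x : G) * ((b : G)⁻¹ * (ξ * a))) * ((a : G)⁻¹ * ξ⁻¹) := by rw [h1]
      _ = _ := by group
  simp only [Finset.noncommProd, e]
  congr 1
  conv_rhs => rw [← Multiset.map_univ_val_equiv (MulAction.toPerm (⟨ξ, hξ⟩ : ↥Q))]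
  rw [Multiset.map_map]
  rfl

/-- The product is the element times something in any subgroup containing the other conjugates. -/
theorem OrbitData.prod_eq (h : OrbitData Q St S) (x : ↥S) {T : Subgroup G}
    (hT : ∀ ξ ∈ Q, ξ ∉ St → ξ * x * ξ⁻¹ ∈ T) : ∃ r ∈ T, h.prod x = x * r := by
  classical
  letI := Fintype.ofFinite (↥Q ⧸ St.subgroupOf Q)
  set i₀ : ↥Q ⧸ St.subgroupOf Q := ((1 : ↥Q) : ↥Q ⧸ St.subgroupOf Q)
  rw [h.prod_apply, ← Finset.mul_noncommProd_erase Finset.univ (Finset.mem_univ i₀)]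
  refine ⟨_, Subgroup.noncommProd_mem _ _ fun i hi => ?_, congrArg₂ (· * ·) ?_ rfl⟩
  · refine hT _ (i.out).2 fun hm => (Finset.mem_erase.1 hi).1 ?_
    rw [← QuotientGroup.out_eq' i]
    refine QuotientGroup.eq.2 (mem_subgroupOf.2 ?_)
    simpa using hm
  · have hm : ((i₀.out : ↥Q) : G) ∈ St := by
      have := mem_subgroupOf.1 (QuotientGroup.eq.1 (QuotientGroup.out_eq' i₀))
      simpa using this
    have h1 := mem_centralizer_iff.1 (h.stab _ (i₀.out).2 hm) x x.2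
    show ((i₀.out : ↥Q) : G) * x * ((i₀.out : ↥Q) : G)⁻¹ = x
    rw [← h1, mul_inv_cancel_right]

theorem OrbitData.prod_mem (h : OrbitData Q St S) (x : ↥S) {T : Subgroup G}
    (hT : ∀ ξ ∈ Q, ξ * x * ξ⁻¹ ∈ T) : h.prod x ∈ T := by
  obtain ⟨r, hr, e⟩ := h.prod_eq x (fun ξ hξ _ => hT ξ hξ)
  rw [e]
  exact mul_mem (by simpa using hT 1 (one_mem Q)) hr

end CfsgLib.FFPair
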