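import Cfsg.Agent.Lib.Fusion.FFPair.Basic
import Cfsg.Agent.Lib.Qd.Elementary
import Cfsg.Agent.Lib.LocalStructure.NaturalModule

/-!
# Failure of factorization pairs: two transvection groups generate `SL₂(p)`
-/

set_option autoImplicit false
set_option linter.style.haveILetI false
set_option linter.unusedSectionVars false

open Subgroup Matrix
open scoped commutatorElement

namespace CfsgLib.FFPair

universe u

variable {G : Type u} [Group G]

/-- Commutators with a join. -/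
theorem comm_sup_le {V U A B : Subgroup G} (hA : A ≤ normalizer (U : Set G))
    (hB : B ≤ normalizer (U : Set G)) (hAU : ⁅V, A⁆ ≤ U) (hBU : ⁅V, B⁆ ≤ U) :
    ⁅V, A ⊔ B⁆ ≤ U := by
  let T : Subgroup G :=
    { carrier := {d | d ∈ normalizer (U : Set G) ∧ ∀ v ∈ V, v * d * v⁻¹ * d⁻¹ ∈ U}
      one_mem' := ⟨one_mem _, fun v _ => by
        rw [inv_one, mul_one, mul_one, mul_inv_cancel]; exact one_mem _⟩
      mul_mem' := fun {x y} hx hy => ⟨mul_mem hx.1 hy.1, fun v hv => by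
        rw [show v * (x * y) * v⁻¹ * (x * y)⁻¹ =
          (v * x * v⁻¹ * x⁻¹) * (x * (v * y * v⁻¹ * y⁻¹) * x⁻¹) by group]
        exact mul_mem (hx.2 v hv) ((mem_normalizer_iff.1 hx.1 _).1 (hy.2 v hv))⟩
      inv_mem' := fun {x} hx => ⟨inv_mem hx.1, fun v hv => by
        rw [show v * x⁻¹ * v⁻¹ * x⁻¹⁻¹ = x⁻¹ * (v * x * v⁻¹ * x⁻¹)⁻¹ * x⁻¹⁻¹ by group]
        exact (mem_normalizer_iff.1 (inv_mem hx.1) _).1 (inv_mem (hx.2 v hv))⟩ }
  have hA' : A ≤ T := fun a ha => ⟨hA ha, fun v hv => hAU (commutator_mem_commutator hv ha)⟩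
  have hB' : B ≤ T := fun b hb => ⟨hB hb, fun v hv => hBU (commutator_mem_commutator hv hb)⟩
  exact commutator_le.2 fun v hv d hd => (sup_le hA' hB' hd).2 v hv

theorem le_normalizer_of_comm_le {W B : Subgroup G} (h : ⁅W, B⁆ ≤ W) :
    B ≤ normalizer (W : Set G) := by
  have key : ∀ b ∈ B, ∀ w ∈ W, b * w * b⁻¹ ∈ W := fun b hb w hw => by
    rw [show b * w * b⁻¹ = (w * b * w⁻¹ * b⁻¹)⁻¹ * w by group]
    exact mul_mem (inv_mem (h (commutator_mem_commutator hw hb))) hw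
  intro b hb
  refine mem_normalizer_iff.2 fun w => ⟨key b hb w, fun hw => ?_⟩
  have := key b⁻¹ (inv_mem hb) _ hw
  rwa [show b⁻¹ * (b * w * b⁻¹) * b⁻¹⁻¹ = w by group] at this

theorem pow_val_natCast {p : ℕ} [Fact p.Prime] {x : G} (hx : x ^ p = 1) (n : ℕ) :
    x ^ ((n : ZMod p)).val = x ^ n := by
  rw [ZMod.val_natCast, pow_eq_pow_mod n hx]

theorem pow_val_add {p : ℕ} [Fact p.Prime] {x : G} (hx : x ^ p = 1) (a b : ZMod p) :
    x ^ (a + b).val = x ^ a.val * x ^ b.val := by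
  rw [← pow_add, ZMod.val_add, ← pow_eq_pow_mod _ hx]

theorem pow_val_mul {p : ℕ} [Fact p.Prime] {x : G} (hx : x ^ p = 1) (a b : ZMod p) :
    x ^ (a * b).val = (x ^ a.val) ^ b.val := by
  rw [← pow_mul, ZMod.val_mul, ← pow_eq_pow_mod _ hx]

/-- A subgroup of prime order is generated by each of its elements other than `1`. -/
theorem eq_zpowers_of_card {p : ℕ} [hp : Fact p.Prime] {P : Subgroup G} (hP : Nat.card P = p)
    {x : G} (hx : x ∈ P) (hx1 : x ≠ 1) : P = zpowers x := by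
  refine le_antisymm (fun y hy => ?_) (zpowers_le.2 hx)
  have hne : (⟨x, hx⟩ : P) ≠ 1 := fun h => hx1 (congrArg Subtype.val h)
  obtain ⟨n, hn⟩ := (zpowers_eq_top_of_prime_card hP hne).ge (mem_top (⟨y, hy⟩ : P))
  exact ⟨n, congrArg Subtype.val hn⟩

theorem exists_pow_eq {p : ℕ} [hp : Fact p.Prime] {P : Subgroup G} (hP : Nat.card P = p)
    {x y : G} (hx : x ∈ P) (hx1 : x ≠ 1) (hy : y ∈ P) : ∃ n : ℕ, y = x ^ n := by
  haveI : Finite P := Nat.finite_of_card_ne_zero (by rw [hP]; exact hp.out.ne_zero)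
  have h := eq_zpowers_of_card hP hx hx1 ▸ hy
  have hfo : IsOfFinOrder x := by
    rw [show x = ((⟨x, hx⟩ : P) : G) from rfl, Submonoid.isOfFinOrder_coe]
    exact isOfFinOrder_of_finite (⟨x, hx⟩ : P)
  obtain ⟨n, hn⟩ := hfo.mem_powers_iff_mem_zpowers.2 h
  exact ⟨n, hn.symm⟩

variable [Finite G] {p : ℕ} [Fact p.Prime] {V H K A B : Subgroup G}

/-- Two transvection groups whose centres are moved by one another. -/
structure PairData (p : ℕ) [Fact p.Prime] (V A B : Subgroup G) : Prop where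
  card_W : Nat.card (⁅V, A⁆ ⊔ ⁅V, B⁆ : Subgroup G) = p ^ 2
  comm : ⁅V, A ⊔ B⁆ = ⁅V, A⁆ ⊔ ⁅V, B⁆
  inf_bot : (⁅V, A⁆ ⊔ ⁅V, B⁆) ⊓ (V ⊓ centralizer ((A ⊔ B : Subgroup G) : Set G)) = ⊥
  sup_eq : (⁅V, A⁆ ⊔ ⁅V, B⁆) ⊔ (V ⊓ centralizer ((A ⊔ B : Subgroup G) : Set G)) = V
  faith : (A ⊔ B) ⊓ centralizer ((⁅V, A⁆ ⊔ ⁅V, B⁆ : Subgroup G) : Set G) = ⊥
  iso : Nonempty (↥(A ⊔ B) ≃* Matrix.SpecialLinearGroup (Fin 2) (ZMod p))
  trans : ∀ u ∈ ⁅V, A⁆ ⊔ ⁅V, B⁆, u ≠ 1 → ∃ d ∈ A ⊔ B,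
    CfsgLib.Fusion.conjBy d ⁅V, A⁆ = zpowers u

namespace Ctx

variable (X : Ctx p V H K)
include X

theorem comm_le (hBH : B ≤ H) : ⁅V, B⁆ ≤ V := by
  refine commutator_le.2 fun v hv b hb => ?_
  rw [commutatorElement_def, show v * b * v⁻¹ * b⁻¹ = v * (b * v⁻¹ * b⁻¹) by group]
  exact mul_mem hv ((mem_normalizer_iff.1 (X.hHV (hBH hb)) _).1 (inv_mem hv))

theorem relIndex_of_isT (hB : IsT p V H B) :
    (V ⊓ centralizer (B : Set G)).relIndex V = p := by
  have h := relIndex_mul_relIndex (⊥ : Subgroup G) (V ⊓ centralizer (B : Set G)) V bot_le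
    inf_le_left
  rw [relIndex_bot_left, relIndex_bot_left, ← hB.sharp, hB.card, mul_comm p] at h
  exact Nat.eq_of_mul_eq_mul_left Nat.card_pos h

theorem card_comm_of_isT (hB : IsT p V H B) :
    Nat.card (⁅V, B⁆ : Subgroup G) = p := by
  haveI : Nontrivial B := Finite.one_lt_card_iff_nontrivial.1
    (hB.card.symm ▸ (Fact.out : p.Prime).one_lt)
  obtain ⟨b, hb1⟩ := exists_ne (1 : B)
  have hb1' : (b : G) ≠ 1 := fun h => hb1 (Subtype.ext h)
  have hmem : ∀ x ∈ B, ∀ v ∈ V, v * x * v⁻¹ * x⁻¹ ∈ V := fun x hx v hv =>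
    X.comm_le hB.le (commutator_mem_commutator hv hx)
  let f : V →* G :=
    { toFun := fun v => (v : G) * b * (v : G)⁻¹ * (b : G)⁻¹
      map_one' := by simp
      map_mul' := fun x y => by
        simp only [Subgroup.coe_mul]
        have hc : (x : G) * (b : G) * (x : G)⁻¹ * (b : G)⁻¹ ∈ V := hmem b b.2 x x.2
        have hc' : (b : G) * (x : G)⁻¹ * (b : G)⁻¹ ∈ V :=
          (mem_normalizer_iff.1 (X.hHV (hB.le b.2)) _).1 (inv_mem x.2)
        calc (x : G) * y * b * ((x : G) * y)⁻¹ * (b : G)⁻¹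
            = x * ((y * b * (y : G)⁻¹ * (b : G)⁻¹) * (b * (x : G)⁻¹ * (b : G)⁻¹)) := by group
          _ = x * ((b * (x : G)⁻¹ * (b : G)⁻¹) * (y * b * (y : G)⁻¹ * (b : G)⁻¹)) := by
              rw [X.comm (hmem b b.2 y y.2) hc']
          _ = _ := by group }
  have hker : f.ker = (V ⊓ centralizer (B : Set G)).subgroupOf V := by
    ext v
    rw [MonoidHom.mem_ker, mem_subgroupOf, mem_inf]
    constructor
    · intro h
      refine ⟨v.2, mem_centralizer_iff.2 fun x hx => ?_⟩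
      obtain ⟨n, rfl⟩ := exists_pow_eq hB.card b.2 hb1' hx
      change (v : G) * b * (v : G)⁻¹ * (b : G)⁻¹ = 1 at h
      rw [mul_inv_eq_one, mul_inv_eq_iff_eq_mul] at h
      exact (Commute.pow_left (show Commute (b : G) v from h.symm) n).eq
    · intro h
      have := mem_centralizer_iff.1 h.2 b b.2
      change (v : G) * b * (v : G)⁻¹ * (b : G)⁻¹ = 1
      rw [← this]
      group
  have hrange : f.range = ⁅V, B⁆ := by
    refine le_antisymm ?_ (commutator_le.2 fun v hv x hx => ?_)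
    · rintro _ ⟨v, rfl⟩
      exact commutator_mem_commutator v.2 b.2
    · obtain ⟨n, rfl⟩ := exists_pow_eq hB.card b.2 hb1' hx
      rw [commutatorElement_def]
      induction n generalizing v with
      | zero => simp
      | succ n ih =>
        rw [pow_succ', show v * ((b : G) * (b : G) ^ n) * v⁻¹ * ((b : G) * (b : G) ^ n)⁻¹ =
          (v * b * v⁻¹ * (b : G)⁻¹) * (((b : G) * v * (b : G)⁻¹) * (b : G) ^ n *
            ((b : G) * v * (b : G)⁻¹)⁻¹ * ((b : G) ^ n)⁻¹) by group]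
        exact mul_mem ⟨⟨v, hv⟩, rfl⟩
          (ih _ ((mem_normalizer_iff.1 (X.hHV (hB.le b.2)) _).1 hv) (pow_mem b.2 n))
  rw [← hrange, ← Subgroup.index_ker, hker]
  exact X.relIndex_of_isT hB

theorem comm_fixed (hB : IsT p V H B) : ⁅V, B⁆ ≤ centralizer (B : Set G) := by
  by_contra hn
  haveI := Fact.mk (Fact.out : p.Prime)
  have hP := X.card_comm_of_isT hB
  have hBN : B ≤ normalizer ((⁅V, B⁆ : Subgroup G) : Set G) := by
    rw [commutator_comm]; exact normalizer_commutator_ge_left B V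
  have hle : ⁅⁅V, B⁆, B⁆ ≤ ⁅V, B⁆ := commutator_mono (X.comm_le hB.le) le_rfl
  have hne : ⁅⁅V, B⁆, B⁆ ≠ ⊥ := fun h => hn (commutator_eq_bot_iff_le_centralizer.1 h)
  have heq : ⁅V, B⁆ ≤ ⁅⁅V, B⁆, B⁆ := by
    rcases ((⁅⁅V, B⁆, B⁆).subgroupOf ⁅V, B⁆).eq_bot_or_eq_top_of_prime_card
      (hp := hP ▸ Fact.mk Fact.out) with h | h
    · exact absurd (disjoint_self.1 ((subgroupOf_eq_bot.1 h).mono_right hle)) hne
    · exact subgroupOf_eq_top.1 h
  have hea := IsT.ea (X := X) hB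
  have := CfsgLib.Fusion.commutator_eq_bot_of_absorbed (isPGroup_of_ea X.hV) X.hV.1
    (hB.le.trans X.hHV) (commutator_le.2 fun x hx y hy => by
      rw [commutatorElement_eq_one_iff_mul_comm.2
        (congrArg Subtype.val (hea.1.is_comm.comm (⟨x, hx⟩ : B) ⟨y, hy⟩))]
      exact one_mem _)
    (fun x hx => by rw [hea.2 x hx]; exact one_mem _) (X.comm_le hB.le) hBN heq
  rw [this, Subgroup.card_bot] at hP
  exact (Fact.out : p.Prime).one_lt.ne hP

theorem isT_conj (hB : IsT p V H B) {h : G} (hh : h ∈ H) :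
    IsT p V H (CfsgLib.Fusion.conjBy h B) ∧
      ⁅V, CfsgLib.Fusion.conjBy h B⁆ = CfsgLib.Fusion.conjBy h ⁅V, B⁆ ∧
      V ⊓ centralizer (CfsgLib.Fusion.conjBy h B : Set G) =
        CfsgLib.Fusion.conjBy h (V ⊓ centralizer (B : Set G)) := by
  have hV : CfsgLib.Fusion.conjBy h V = V := CfsgLib.Fusion.conjBy_eq_iff.2 (X.hHV hh)
  have hC : V ⊓ centralizer (CfsgLib.Fusion.conjBy h B : Set G) =
      CfsgLib.Fusion.conjBy h (V ⊓ centralizer (B : Set G)) := by
    rw [← CfsgLib.Fusion.conjBy_centralizer]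
    conv_lhs => rw [← hV]
    exact (map_inf _ _ _ (MulAut.conj h).injective).symm
  refine ⟨⟨CfsgLib.Fusion.conjBy_le_iff.2 fun x hx => mul_mem (mul_mem hh (hB.le hx)) (inv_mem hh),
    by rw [CfsgLib.Fusion.card_conjBy]; exact hB.card, ?_⟩, ?_, hC⟩
  · unfold Sharp
    rw [hC, CfsgLib.Fusion.card_conjBy, CfsgLib.Fusion.card_conjBy]
    exact hB.sharp
  · conv_lhs => rw [← hV]
    exact (map_commutator _ _ _).symm

/-- An element of `K` in the group generated by two transvection groups, one centre of which is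
fixed, is trivial. -/
theorem eq_one_of_fixed (hA : IsT p V H A) (hB : IsT p V H B)
    (hAB : ⁅V, A⁆ ≤ centralizer (B : Set G)) {z : G} (hz : z ∈ K) (hzD : z ∈ A ⊔ B) : z = 1 := by
  set U := ⁅V, A⁆ ⊔ ⁅V, B⁆ with hU
  have hUV : U ≤ V := sup_le (X.comm_le hA.le) (X.comm_le hB.le)
  have hAU : A ≤ normalizer (U : Set G) :=
    le_normalizer_of_comm_le ((commutator_mono hUV le_rfl).trans le_sup_left)
  have hBU : B ≤ normalizer (U : Set G) :=
    le_normalizer_of_comm_le ((commutator_mono hUV le_rfl).trans le_sup_right)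
  have hD1 : ⁅V, A ⊔ B⁆ ≤ U := comm_sup_le hAU hBU le_sup_left le_sup_right
  have hc : A ⊔ B ≤ centralizer ((⁅V, A⁆ : Subgroup G) : Set G) :=
    sup_le (le_centralizer_iff.1 (X.comm_fixed hA)) (le_centralizer_iff.1 hAB)
  have hD2 : ⁅U, A ⊔ B⁆ ≤ ⁅V, A⁆ := by
    refine comm_sup_le ((le_sup_left.trans hc).trans (centralizer_le_normalizer _))
      ((le_sup_right.trans hc).trans (centralizer_le_normalizer _)) (commutator_mono hUV le_rfl) ?_
    rw [commutator_comm, commutator_le]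
    intro b hb x hx
    have hUc : U ≤ centralizer (B : Set G) := sup_le hAB (X.comm_fixed hB)
    rw [commutatorElement_eq_one_iff_mul_comm.2 (mem_centralizer_iff.1 (hUc hx) b hb)]
    exact one_mem _
  have hzle : zpowers z ≤ A ⊔ B := zpowers_le.2 hzD
  have hcop : (Nat.card (zpowers z)).Coprime (Nat.card V) := by
    obtain ⟨n, hn⟩ := IsPGroup.iff_card.1 (isPGroup_of_ea X.hV)
    rw [hn]
    refine Nat.Coprime.pow_right _ (Nat.coprime_comm.1 ?_)
    rw [(Fact.out : p.Prime).coprime_iff_not_dvd]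
    exact fun hd => X.cop (hd.trans (card_dvd_of_le (zpowers_le.2 hz)))
  have e := CfsgLib.Coprime.commutator_commutator_eq (A := zpowers z) (K := V)
    (zpowers_le.2 (X.hHV (X.KH hz))) hcop
    (Or.inr (CfsgLib.Coprime.isSolvable_of_isMulCommutative X.hV.1))
  have h1 : ⁅V, zpowers z⁆ ≤ ⁅V, A⁆ := by
    rw [← e]
    exact (commutator_mono ((commutator_mono le_rfl hzle).trans hD1) hzle).trans hD2
  have h2 : ⁅V, zpowers z⁆ = ⊥ := by
    rw [← e, eq_bot_iff]
    refine (commutator_mono h1 hzle).trans (le_of_eq ?_)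
    rw [commutator_comm, commutator_eq_bot_iff_le_centralizer]
    exact hc
  exact X.eq_one (X.KH hz)
    (le_centralizer_iff.1 (commutator_eq_bot_iff_le_centralizer.1 h2) (mem_zpowers z))

theorem conj_commutator_mem {k : G} (hk : k ∈ K) {a : G} (ha : a ∈ H) :
    k * a * k⁻¹ * a⁻¹ ∈ K := by
  rw [show k * a * k⁻¹ * a⁻¹ = k * (a * k⁻¹ * a⁻¹) by group]
  exact mul_mem hk ((mem_normalizer_iff.1 (X.HK ha) _).1 (inv_mem hk))

/-- Distinct conjugates under `K` see one another. -/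
theorem sees (hA : IsT p V H A) {k : G} (hk : k ∈ K) (hne : k ∉ centralizer (A : Set G)) :
    ¬ ⁅V, A⁆ ≤ centralizer (CfsgLib.Fusion.conjBy k A : Set G) ∧
      ¬ ⁅V, CfsgLib.Fusion.conjBy k A⁆ ≤ centralizer (A : Set G) := by
  rw [mem_centralizer_iff] at hne
  push Not at hne
  obtain ⟨a, ha, hka⟩ := hne
  have hB := (X.isT_conj hA (X.KH hk)).1
  have hz := X.conj_commutator_mem hk (hA.le ha)
  have hzD : k * a * k⁻¹ * a⁻¹ ∈ A ⊔ CfsgLib.Fusion.conjBy k A :=
    mul_mem (mem_sup_right (CfsgLib.Fusion.conj_mem_conjBy ha)) (mem_sup_left (inv_mem ha))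
  have hno : k * a * k⁻¹ * a⁻¹ ≠ 1 := fun h => hka (by
    rw [mul_inv_eq_one, mul_inv_eq_iff_eq_mul] at h
    exact h.symm)
  exact ⟨fun h => hno (X.eq_one_of_fixed hA hB h hz hzD),
    fun h => hno (X.eq_one_of_fixed hB hA h hz (sup_comm A _ ▸ hzD))⟩

/-- Two transvection groups which see one another generate `SL₂(p)` on a plane. -/
theorem pairData (hA : IsT p V H A) (hB : IsT p V H B)
    (h1 : ¬ ⁅V, A⁆ ≤ centralizer (B : Set G)) (h2 : ¬ ⁅V, B⁆ ≤ centralizer (A : Set G)) :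
    PairData p V A B := by
  have hp : p.Prime := Fact.out
  have hPA := X.card_comm_of_isT hA
  have hPB := X.card_comm_of_isT hB
  have hAV := X.comm_le hA.le
  have hBV := X.comm_le hB.le
  have hfA := X.comm_fixed hA
  have hfB := X.comm_fixed hB
  set W := ⁅V, A⁆ ⊔ ⁅V, B⁆ with hWdef
  have hWV : W ≤ V := sup_le hAV hBV
  have hD : A ⊔ B ≤ H := sup_le hA.le hB.le
  -- generators
  obtain ⟨y0, hy0, hy0A⟩ := SetLike.not_le_iff_exists.1 h2
  have hAn : A ≠ ⊥ := fun h => hp.one_lt.ne' (by rw [← hA.card, h, Subgroup.card_bot])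
  have hBn : B ≠ ⊥ := fun h => hp.one_lt.ne' (by rw [← hB.card, h, Subgroup.card_bot])
  obtain ⟨a, ha, ha1⟩ := (ne_bot_iff_exists_ne_one.1 hAn).elim fun x hx =>
    (⟨x.1, x.2, fun h => hx (Subtype.ext h)⟩ : ∃ a ∈ A, a ≠ (1 : G))
  obtain ⟨b, hb, hb1⟩ := (ne_bot_iff_exists_ne_one.1 hBn).elim fun x hx =>
    (⟨x.1, x.2, fun h => hx (Subtype.ext h)⟩ : ∃ b ∈ B, b ≠ (1 : G))
  have hAz := eq_zpowers_of_card hA.card ha ha1
  have hBz := eq_zpowers_of_card hB.card hb hb1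
  set x0 := a * y0 * a⁻¹ * y0⁻¹ with hx0def
  have hx0 : x0 ∈ ⁅V, A⁆ := by
    rw [hx0def, show a * y0 * a⁻¹ * y0⁻¹ = (y0 * a * y0⁻¹ * a⁻¹)⁻¹ by group]
    exact inv_mem (commutator_mem_commutator (hBV hy0) ha)
  have hx01 : x0 ≠ 1 := fun h => by
    rw [hx0def, mul_inv_eq_one, mul_inv_eq_iff_eq_mul] at h
    refine hy0A ?_
    rw [hAz, zpowers_eq_closure, centralizer_closure, mem_centralizer_singleton_iff]
    first | exact h | exact h.symm
  have hy01 : y0 ≠ 1 := fun h => hy0A (h ▸ one_mem _)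
  have hx0B : x0 ∉ centralizer (B : Set G) := fun h =>
    h1 ((eq_zpowers_of_card hPA hx0 hx01).le.trans (zpowers_le.2 h))
  have hz : b * x0 * b⁻¹ * x0⁻¹ ∈ ⁅V, B⁆ := by
    rw [show b * x0 * b⁻¹ * x0⁻¹ = (x0 * b * x0⁻¹ * b⁻¹)⁻¹ by group]
    exact inv_mem (commutator_mem_commutator (hAV hx0) hb)
  obtain ⟨m, hm⟩ := exists_pow_eq hPB hy0 hy01 hz
  have hxp : x0 ^ p = 1 := X.hV.2 _ (hAV hx0)
  have hyp : y0 ^ p = 1 := X.hV.2 _ (hBV hy0)
  set μ : ZMod p := (m : ZMod p) with hμ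
  have hyμ : y0 ^ μ.val = y0 ^ m := pow_val_natCast hyp m
  have hμ0 : μ ≠ 0 := fun h => by
    rw [h, ZMod.val_zero, pow_zero] at hyμ
    rw [← hyμ, mul_inv_eq_one, mul_inv_eq_iff_eq_mul] at hm
    refine hx0B ?_
    rw [hBz, zpowers_eq_closure, centralizer_closure, mem_centralizer_singleton_iff]
    first | exact hm | exact hm.symm
  -- coordinates
  set e : (Fin 2 → ZMod p) → G := fun v => x0 ^ (v 0).val * y0 ^ (v 1).val with he
  have hev : ∀ v, e v ∈ W := fun v =>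
    mul_mem (mem_sup_left (pow_mem hx0 _)) (mem_sup_right (pow_mem hy0 _))
  have hcx : ∀ i j : ℕ, Commute (x0 ^ i) (y0 ^ j) := fun i j =>
    X.comm (pow_mem (hAV hx0) i) (pow_mem (hBV hy0) j)
  have he_add : ∀ v w, e (v + w) = e v * e w := fun v w => by
    simp only [he, Pi.add_apply, pow_val_add hxp, pow_val_add hyp]
    rw [mul_assoc, ← mul_assoc (x0 ^ (w 0).val), (hcx _ _).eq, mul_assoc, ← mul_assoc]
  have hPd : ∀ x : G, x ∈ ⁅V, A⁆ → x ∈ ⁅V, B⁆ → x = 1 := fun x hxA hxB => by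
    by_contra hne
    exact h2 ((eq_zpowers_of_card hPB hxB hne).le.trans (zpowers_le.2 (hfA hxA)))
  have horder : ∀ x : G, x ≠ 1 → x ^ p = 1 → ∀ c : ZMod p, x ^ c.val = 1 → c = 0 :=
    fun x hx hxp c hc => by
      have hd := orderOf_dvd_of_pow_eq_one hc
      rw [orderOf_eq_prime hxp hx] at hd
      rw [← ZMod.natCast_zmod_val c, ZMod.natCast_eq_zero_iff]
      exact hd
  have he0 : e 0 = 1 := by simp [he]
  have he_inj : Function.Injective e := fun v w hvw => by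
    have h : e (v - w) = 1 := by
      have := he_add (v - w) w
      rw [sub_add_cancel, hvw] at this
      exact right_eq_mul.1 this
    have hx : x0 ^ ((v - w) 0).val = 1 := hPd _ (pow_mem hx0 _) (by
      rw [eq_inv_of_mul_eq_one_left h]; exact inv_mem (pow_mem hy0 _))
    have hy : y0 ^ ((v - w) 1).val = 1 := by
      have h' : x0 ^ ((v - w) 0).val * y0 ^ ((v - w) 1).val = 1 := h
      rwa [hx, one_mul] at h'
    funext i
    fin_cases i
    · exact sub_eq_zero.1 (horder x0 hx01 hxp _ hx)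
    · exact sub_eq_zero.1 (horder y0 hy01 hyp _ hy)
  have he_surj : ∀ w ∈ W, ∃ v, e v = w := by
    intro w hw
    have hn : ⁅V, B⁆ ≤ normalizer ((⁅V, A⁆ : Subgroup G) : Set G) := fun y hy => by
      refine centralizer_le_normalizer _ (mem_centralizer_iff.2 fun x hx => ?_)
      exact X.comm (hAV hx) (hBV hy)
    obtain ⟨x, hx, y, hy, rfl⟩ := CfsgLib.Coprime.mem_sup_exists hn hw
    obtain ⟨i, rfl⟩ := exists_pow_eq hPA hx0 hx01 hx
    obtain ⟨j, rfl⟩ := exists_pow_eq hPB hy0 hy01 hy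
    exact ⟨![(i : ZMod p), (j : ZMod p)], by
      simp only [he, Matrix.cons_val_zero, Matrix.cons_val_one, Matrix.cons_val_fin_one,
        pow_val_natCast hxp, pow_val_natCast hyp]⟩
  have hcard : Nat.card W = p ^ 2 := by
    have := Nat.card_eq_of_bijective (fun v => (⟨e v, hev v⟩ : W))
      ⟨fun v w h => he_inj (congrArg Subtype.val h), fun w => by
        obtain ⟨v, hv⟩ := he_surj w w.2; exact ⟨v, Subtype.ext hv⟩⟩
    rw [← this, Nat.card_fun, Nat.card_fin, Nat.card_zmod]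
  -- the fixed points
  set C := V ⊓ centralizer ((A ⊔ B : Subgroup G) : Set G) with hCdef
  have hWC : W ⊓ C = ⊥ := by
    rw [eq_bot_iff]
    rintro w ⟨hw, -, hwc⟩
    replace hwc := (CfsgLib.Fusion.centralizer_sup_eq A B).le hwc
    obtain ⟨v, rfl⟩ := he_surj w hw
    have hy : y0 ^ (v 1).val = 1 := by
      by_contra hne
      have h : y0 ^ (v 1).val ∈ centralizer (A : Set G) := by
        rw [show y0 ^ (v 1).val = (x0 ^ (v 0).val)⁻¹ * e v by simp [he, ← mul_assoc]]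
        exact mul_mem (inv_mem (pow_mem (hfA hx0) _)) hwc.1
      exact h2 ((eq_zpowers_of_card hPB (pow_mem hy0 _) hne).le.trans (zpowers_le.2 h))
    have hx : x0 ^ (v 0).val = 1 := by
      by_contra hne
      have hh : x0 ^ (v 0).val ∈ centralizer (B : Set G) := by
        rw [show x0 ^ (v 0).val = e v by simp [he, hy]]
        exact hwc.2
      exact h1 ((eq_zpowers_of_card hPA (pow_mem hx0 _) hne).le.trans (zpowers_le.2 hh))
    rw [mem_bot]
    simp [he, hx, hy]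
  have hVn : ∀ (S : Subgroup G), S ≤ V → V ≤ normalizer (S : Set G) := fun S hS v hv =>
    centralizer_le_normalizer _ (mem_centralizer_iff.2 fun s hs => X.comm (hS hs) hv)
  have hsplit : ∀ {T : Subgroup G}, IsT p V H T → ∀ P : Subgroup G, P ≤ V →
      ¬ P ≤ centralizer (T : Set G) → P ⊔ (V ⊓ centralizer (T : Set G)) = V := by
    intro T hT P hP hPn
    refine le_antisymm (sup_le hP inf_le_left) ?_
    have hlt : V ⊓ centralizer (T : Set G) < P ⊔ (V ⊓ centralizer (T : Set G)) :=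
      lt_of_le_of_ne le_sup_right fun h => hPn ((le_sup_left.trans h.ge).trans inf_le_right)
    have h := relIndex_mul_relIndex _ _ V hlt.le (sup_le hP inf_le_left)
    rw [X.relIndex_of_isT hT] at h
    rcases (Nat.dvd_prime hp).1 (Dvd.intro _ h) with h' | h'
    · exact absurd (relIndex_eq_one.1 h') hlt.not_ge
    · rw [h'] at h
      exact relIndex_eq_one.1 (mul_eq_left₀ hp.ne_zero |>.1 h)
  have hWCsup : W ⊔ C = V := by
    refine le_antisymm (sup_le hWV inf_le_left) fun v hv => ?_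
    obtain ⟨y, hy, c, hc, rfl⟩ := CfsgLib.Coprime.mem_sup_exists
      (inf_le_left.trans (hVn _ hBV)) ((hsplit hA _ hBV h2).ge hv)
    obtain ⟨x, hx, d, hd, rfl⟩ := CfsgLib.Coprime.mem_sup_exists
      (inf_le_left.trans (hVn _ hAV)) ((hsplit hB _ hAV h1).ge hc.1)
    rw [← mul_assoc]
    refine mul_mem_sup (mul_mem (mem_sup_right hy) (mem_sup_left hx)) ⟨hd.1, ?_⟩
    refine (CfsgLib.Fusion.centralizer_sup_eq A B).ge ⟨?_, hd.2⟩
    show d ∈ centralizer (A : Set G)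
    rw [show d = x⁻¹ * (x * d) by group]
    exact mul_mem (inv_mem (hfA hx)) hc.2
  have hWnA : A ≤ normalizer (W : Set G) :=
    le_normalizer_of_comm_le ((commutator_mono hWV le_rfl).trans le_sup_left)
  have hWnB : B ≤ normalizer (W : Set G) :=
    le_normalizer_of_comm_le ((commutator_mono hWV le_rfl).trans le_sup_right)
  have hcomm : ⁅V, A ⊔ B⁆ = W := le_antisymm (comm_sup_le hWnA hWnB le_sup_left le_sup_right)
    (sup_le (commutator_mono le_rfl le_sup_left) (commutator_mono le_rfl le_sup_right))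
  have hfaith : ∀ d ∈ A ⊔ B, d ∈ centralizer (W : Set G) → d = 1 := fun d hd hdc =>
    X.eq_one_of_sup (hD hd) hWCsup.ge hdc
      (mem_centralizer_iff.2 fun c hc => (mem_centralizer_iff.1 hc.2 d hd).symm)
  -- the graph of the representation
  let R : Subgroup (G × Matrix.SpecialLinearGroup (Fin 2) (ZMod p)) :=
    { carrier := {q | ∀ v, q.1 * e v * q.1⁻¹ =
        e ((q.2 : Matrix (Fin 2) (Fin 2) (ZMod p)).mulVec v)}
      one_mem' := fun v => by
        simp [LS.NatMod.coeOne]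
      mul_mem' := fun {q r} hq hr v => by
        simp only [Prod.fst_mul, Prod.snd_mul, LS.NatMod.coeMul]
        rw [← Matrix.mulVec_mulVec, ← hq, ← hr, _root_.mul_inv_rev]
        group
      inv_mem' := fun {q} hq v => by
        have h := hq (((q.2⁻¹ : Matrix.SpecialLinearGroup (Fin 2) (ZMod p)) :
          Matrix (Fin 2) (Fin 2) (ZMod p)).mulVec v)
        rw [Matrix.mulVec_mulVec, ← LS.NatMod.coeMul, mul_inv_cancel, LS.NatMod.coeOne,
          Matrix.one_mulVec] at h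
        simp only [Prod.fst_inv, Prod.snd_inv, inv_inv]
        rw [← h]
        group }
  have hRa : (a, Qd.up 1) ∈ R := fun v => by
    have ee : (Qd.up (1 : ZMod p) : Matrix (Fin 2) (Fin 2) (ZMod p)).mulVec v =
        ![v 0 + v 1, v 1] := by
      funext i; fin_cases i <;> simp [Matrix.mulVec, dotProduct, Fin.sum_univ_two]
    have hax : a * x0 * a⁻¹ = x0 := by
      rw [mem_centralizer_iff.1 (hfA hx0) a ha, mul_inv_cancel_right]
    have hay : a * y0 * a⁻¹ = x0 * y0 := by rw [hx0def]; group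
    show a * (x0 ^ (v 0).val * y0 ^ (v 1).val) * a⁻¹ = e _
    rw [ee, ← conj_mul, ← conj_pow, ← conj_pow, hax, hay,
      (show Commute x0 y0 from X.comm (hAV hx0) (hBV hy0)).mul_pow, ← mul_assoc]
    simp [he, pow_val_add hxp]
  have hRb : (b, Qd.lo μ) ∈ R := fun v => by
    have ee : (Qd.lo μ : Matrix (Fin 2) (Fin 2) (ZMod p)).mulVec v =
        ![v 0, μ * v 0 + v 1] := by
      funext i; fin_cases i <;> simp [Matrix.mulVec, dotProduct, Fin.sum_univ_two]
    have hby : b * y0 * b⁻¹ = y0 := by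
      rw [mem_centralizer_iff.1 (hfB hy0) b hb, mul_inv_cancel_right]
    have hbx : b * x0 * b⁻¹ = x0 * y0 ^ μ.val := by
      rw [hyμ, ← hm, X.comm (hAV hx0) (hBV hz)]
      group
    show b * (x0 ^ (v 0).val * y0 ^ (v 1).val) * b⁻¹ = e _
    rw [ee, ← conj_mul, ← conj_pow, ← conj_pow, hby, hbx,
      (show Commute x0 (y0 ^ μ.val) from X.comm (hAV hx0) (pow_mem (hBV hy0) _)).mul_pow,
      mul_assoc]
    simp [he, pow_val_add hyp, pow_val_mul hyp]
  set Γ : Subgroup (G × Matrix.SpecialLinearGroup (Fin 2) (ZMod p)) :=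
    closure {(a, Qd.up 1), (b, Qd.lo μ)} with hΓ
  have hΓR : Γ ≤ R := (closure_le _).2 (by rintro q (rfl | rfl) <;> assumption)
  have hfst : Γ.map (MonoidHom.fst _ _) = A ⊔ B := by
    rw [hΓ, MonoidHom.map_closure, Set.image_pair, Set.insert_eq, Subgroup.closure_union,
      ← zpowers_eq_closure, ← zpowers_eq_closure, hAz, hBz]
    rfl
  have hsnd : Γ.map (MonoidHom.snd G _) = ⊤ := by
    rw [hΓ, MonoidHom.map_closure, Set.image_pair]
    exact Qd.closure_up_lo hμ0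
  have hfD : ∀ q ∈ Γ, q.1 ∈ A ⊔ B := fun q hq => hfst.le ⟨q, hq, rfl⟩
  let f1 : Γ →* ↥(A ⊔ B) := ((MonoidHom.fst _ _).comp Γ.subtype).codRestrict _
    fun q => hfD q q.2
  let f2 : Γ →* Matrix.SpecialLinearGroup (Fin 2) (ZMod p) := (MonoidHom.snd _ _).comp Γ.subtype
  have hf1 : Function.Bijective f1 := by
    refine ⟨(injective_iff_map_eq_one f1).2 fun q hq => ?_, fun d => ?_⟩
    · have hq1 : q.1.1 = 1 := congrArg Subtype.val hq
      refine Subtype.ext (Prod.ext hq1 (Subtype.ext (Matrix.ext_of_mulVec_single fun i => ?_)))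
      have h := hΓR q.2 (Pi.single i 1)
      rw [hq1, one_mul, inv_one, mul_one] at h
      exact (he_inj h).symm.trans (Matrix.one_mulVec _).symm
    · obtain ⟨q, hq, hqd⟩ := hfst.ge d.2
      exact ⟨⟨q, hq⟩, Subtype.ext hqd⟩
  have hf2 : Function.Bijective f2 := by
    refine ⟨(injective_iff_map_eq_one f2).2 fun q hq => ?_, fun M => ?_⟩
    · have hq2 : q.1.2 = 1 := hq
      refine Subtype.ext (Prod.ext (hfaith _ (hfD _ q.2)
        (mem_centralizer_iff.2 fun w hw => ?_)) hq2)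
      obtain ⟨v, rfl⟩ := he_surj w hw
      have h := hΓR q.2 v
      rw [hq2, LS.NatMod.coeOne, Matrix.one_mulVec] at h
      exact (mul_inv_eq_iff_eq_mul.1 h).symm
    · obtain ⟨q, hq, hqd⟩ := hsnd.ge (mem_top M)
      exact ⟨⟨q, hq⟩, hqd⟩
  refine ⟨hcard, hcomm, hWC, hWCsup, eq_bot_iff.2 fun d hd => mem_bot.2 (hfaith d hd.1 hd.2),
    ⟨(MulEquiv.ofBijective f1 hf1).symm.trans (MulEquiv.ofBijective f2 hf2)⟩, fun u hu hu1 => ?_⟩
  obtain ⟨v, rfl⟩ := he_surj u hu
  have hv : v ≠ 0 := fun h => hu1 (h ▸ he0)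
  obtain ⟨g, hg⟩ := LS.NatMod.exists_mulVec_eq hv
  obtain ⟨⟨d, g'⟩, hq, rfl⟩ := hsnd.ge (mem_top g)
  refine ⟨d, hfD _ hq, ?_⟩
  rw [eq_zpowers_of_card hPA hx0 hx01, CfsgLib.Fusion.conjBy, MonoidHom.map_zpowers]
  have h := hΓR hq ![1, 0]
  rw [show e ![1, 0] = x0 by simp [he, ZMod.val_one]] at h
  rw [MulEquiv.coe_toMonoidHom, MulAut.conj_apply, h]
  exact congrArg (fun t => zpowers (e t)) hg

end Ctx

end CfsgLib.FFPair
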