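import Cfsg.Agent.Lib.Fusion.FFPair.Factor
import Cfsg.Agent.Lib.Coprime.Subnormal

/-!
# Two subnormal subgroups with irreducible commutator modules

If `E₁`, `E₂` are subnormal with irreducible `[V, Eᵢ]`, neither containing the other, and both of
order more than two, then each module is invariant under the other subgroup; hence they commute.
-/

set_option autoImplicit false
set_option linter.style.haveILetI false
set_option linter.unusedSectionVars false

open Subgroup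
open scoped commutatorElement

namespace CfsgLib.FFPair

open CfsgLib.Fusion (conjBy conjBy_conjBy conjBy_eq_iff conjBy_le_iff conj_mem_conjBy)

universe u

variable {G : Type u} [Group G] [Finite G] {p : ℕ} [Fact p.Prime] {V E₀ E P Q T : Subgroup G}

theorem mem_normalizer_sub_of_mem_centralizer {g : G} {S : Subgroup G}
    (h : g ∈ centralizer (S : Set G)) : g ∈ normalizer (S : Set G) :=
  centralizer_le_normalizer _ h

/-- A faithful group without normal `p`-subgroups. -/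
structure SubCtx (p : ℕ) (V E₀ : Subgroup G) : Prop where
  hV : Cfsg.IsElementaryAbelian p V
  hEV : E₀ ≤ normalizer (V : Set G)
  faith : E₀ ⊓ centralizer (V : Set G) = ⊥
  hOp : Cfsg.pCore p E₀ = ⊥

/-- A subnormal subgroup with irreducible module. -/
structure Piece (V E₀ E : Subgroup G) : Prop where
  le : E ≤ E₀
  sn : (E.subgroupOf E₀).IsSubnormal
  irr : ∀ U : Subgroup G, U ≤ ⁅V, E⁆ → E ≤ normalizer (U : Set G) → U = ⊥ ∨ U = ⁅V, E⁆
  two : 2 < Nat.card E

/-- The relation between independent pieces. -/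
structure Indep (V P Q : Subgroup G) : Prop where
  inf_bot : ⁅V, P⁆ ⊓ ⁅V, Q⁆ = ⊥
  right_fix : Q ≤ centralizer ((⁅V, P⁆ : Subgroup G) : Set G)
  left_fix : P ≤ centralizer ((⁅V, Q⁆ : Subgroup G) : Set G)
  commute : Q ≤ centralizer (P : Set G)

namespace SubCtx

variable (X : SubCtx p V E₀)
include X

theorem comm {v w : G} (hv : v ∈ V) (hw : w ∈ V) : v * w = w * v :=
  congrArg Subtype.val (X.hV.1.is_comm.comm (⟨v, hv⟩ : V) ⟨w, hw⟩)

theorem le_V (hE : E ≤ E₀) : ⁅V, E⁆ ≤ V := comm_le_of_le_normalizer (hE.trans X.hEV)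

theorem le_normalizer_module (hE : E ≤ E₀) : E ≤ normalizer ((⁅V, E⁆ : Subgroup G) : Set G) :=
  fun e he => normalizer_commutator_mem (X.hEV (hE he)) (le_normalizer he)

/-- A stabiliser of a series is trivial. -/
theorem eq_bot_of_stab (hE : Piece V E₀ E) (hTE : T ≤ E) (hET : E ≤ normalizer (T : Set G))
    (h : ⁅⁅V, T⁆, T⁆ = ⊥) : T = ⊥ := by
  have hexp : ∀ t ∈ T, t ^ p = 1 := by
    intro t ht
    refine mem_bot.1 (X.faith.le ⟨pow_mem (hE.le (hTE ht)) p, mem_centralizer_iff.2 fun v hv => ?_⟩)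
    set q := t * v * t⁻¹ * v⁻¹ with hq
    have hqm : q ∈ ⁅V, T⁆ := by
      rw [hq, show t * v * t⁻¹ * v⁻¹ = (v * t * v⁻¹ * t⁻¹)⁻¹ by group]
      exact inv_mem (commutator_mem_commutator hv ht)
    have htq : t * q * t⁻¹ = q := by
      rw [mem_centralizer_iff.1 (le_centralizer_iff.1 (commutator_eq_bot_iff_le_centralizer.1 h) ht)
        q hqm |>.symm, mul_inv_cancel_right]
    have hpow : ∀ i : ℕ, t ^ i * v * (t ^ i)⁻¹ = q ^ i * v := by
      intro i
      induction i with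
      | zero => simp
      | succ i ih =>
        rw [pow_succ' t, show t * t ^ i * v * (t * t ^ i)⁻¹ = t * (t ^ i * v * (t ^ i)⁻¹) * t⁻¹ by
          group, ih, show t * (q ^ i * v) * t⁻¹ = (t * q ^ i * t⁻¹) * (t * v * t⁻¹ * v⁻¹) * v by
          group, ← conj_pow, htq, ← hq, ← pow_succ]
    have h1 := hpow p
    rw [X.hV.2 q (X.le_V (hTE.trans hE.le) hqm), one_mul] at h1
    exact (mul_inv_eq_iff_eq_mul.1 h1).symm
  have hTp : IsPGroup p T := fun t => ⟨1, Subtype.ext (by simpa using hexp t t.2)⟩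
  have hsn : (T.subgroupOf E₀).IsSubnormal := by
    refine Subgroup.IsSubnormal.step _ (E.subgroupOf E₀) (comap_mono hTE) hE.sn ?_
    refine (normal_subgroupOf_iff_le_normalizer
      (show T.subgroupOf E₀ ≤ E.subgroupOf E₀ from comap_mono hTE)).2 ?_
    exact (comap_mono hET).trans (le_normalizer_comap _)
  have hle := CfsgLib.Coprime.le_pCore_of_isSubnormal (p := p) hsn
    (hTp.of_equiv (subgroupOfEquivOfLe (hTE.trans hE.le)).symm)
  rw [X.hOp, le_bot_iff, subgroupOf_eq_bot] at hle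
  exact disjoint_self.1 (hle.mono_right (hTE.trans hE.le))

/-- An element of order prime to `p` fixing the module of a subgroup containing it is trivial. -/
theorem eq_one_of_fix {q : ℕ} [hq : Fact q.Prime] (hPE : P ≤ E₀) {g : G} (hg : g ∈ P)
    (hgq : g ^ q = 1) (hqp : q ≠ p) (hc : g ∈ centralizer ((⁅V, P⁆ : Subgroup G) : Set G)) :
    g = 1 := by
  have hgp : g ^ p = 1 := by
    refine mem_bot.1 (X.faith.le ⟨pow_mem (hPE hg) p, mem_centralizer_iff.2 fun v hv => ?_⟩)
    set r := g * v * g⁻¹ * v⁻¹ with hr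
    have hrm : r ∈ ⁅V, P⁆ := by
      rw [hr, show g * v * g⁻¹ * v⁻¹ = (v * g * v⁻¹ * g⁻¹)⁻¹ by group]
      exact inv_mem (commutator_mem_commutator hv hg)
    have hgr : g * r * g⁻¹ = r := by
      rw [← mem_centralizer_iff.1 hc r hrm, mul_inv_cancel_right]
    have hpow : ∀ i : ℕ, g ^ i * v * (g ^ i)⁻¹ = r ^ i * v := by
      intro i
      induction i with
      | zero => simp
      | succ i ih =>
        rw [pow_succ' g, show g * g ^ i * v * (g * g ^ i)⁻¹ = g * (g ^ i * v * (g ^ i)⁻¹) * g⁻¹ by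
          group, ih, show g * (r ^ i * v) * g⁻¹ = (g * r ^ i * g⁻¹) * (g * v * g⁻¹ * v⁻¹) * v by
          group, ← conj_pow, hgr, ← hr, ← pow_succ]
    have h1 := hpow p
    rw [X.hV.2 r (X.le_V hPE hrm), one_mul] at h1
    exact (mul_inv_eq_iff_eq_mul.1 h1).symm
  have := pow_gcd_eq_one.2 ⟨hgq, hgp⟩
  rwa [(Nat.coprime_primes hq.out Fact.out).2 hqp, pow_one] at this

theorem piece_ne_bot (hE : Piece V E₀ E) : E ≠ ⊥ := fun h => by
  have := hE.two
  rw [h, Subgroup.card_bot] at this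
  omega

theorem module_ne_bot (hE : Piece V E₀ E) : ⁅V, E⁆ ≠ ⊥ := fun h =>
  X.piece_ne_bot hE (X.eq_bot_of_stab hE le_rfl le_normalizer (by rw [h, commutator_bot_left]))

theorem fixed_bot (hE : Piece V E₀ E) : ⁅V, E⁆ ⊓ centralizer (E : Set G) = ⊥ :=
  (hE.irr _ inf_le_left (CfsgLib.Coprime.inf_le_normalizer (X.le_normalizer_module hE.le)
    (le_normalizer.trans (CfsgLib.Coprime.normalizer_le_normalizer_centralizer _)))).resolve_right
    fun h => X.piece_ne_bot hE (X.eq_bot_of_stab hE le_rfl le_normalizer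
      (commutator_eq_bot_iff_le_centralizer.2 (inf_eq_left.1 h)))

theorem conj_piece (hE : Piece V E₀ E) {g : G} (hg : g ∈ E₀) :
    Piece V E₀ (conjBy g E) ∧ ⁅V, conjBy g E⁆ = conjBy g ⁅V, E⁆ := by
  have hV : conjBy g V = V := conjBy_eq_iff.2 (X.hEV hg)
  have hE0 : conjBy g E₀ = E₀ := conjBy_eq_iff.2 (le_normalizer hg)
  have hW : ⁅V, conjBy g E⁆ = conjBy g ⁅V, E⁆ := by
    conv_lhs => rw [← hV]
    exact (map_commutator _ _ _).symm
  refine ⟨⟨(CfsgLib.Fusion.conjBy_mono hE.le).trans hE0.le, ?_, fun U hU hUn => ?_, ?_⟩, hW⟩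
  · have h := CfsgLib.Coprime.isSubnormal_subgroupOf_conjBy hE.le hE.sn g
    rwa [show CfsgLib.Coprime.conjBy g E₀ = E₀ from hE0] at h
  · rw [hW] at hU ⊢
    have h1 : E ≤ normalizer ((conjBy g⁻¹ U : Subgroup G) : Set G) := by
      rw [← CfsgLib.Fusion.conjBy_normalizer, ← CfsgLib.Fusion.conjBy_inv_conjBy g E]
      exact CfsgLib.Fusion.conjBy_mono hUn
    rcases hE.irr (conjBy g⁻¹ U) ((CfsgLib.Fusion.conjBy_mono hU).trans
      (CfsgLib.Fusion.conjBy_inv_conjBy g _).le) h1 with h | h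
    · left
      rw [← CfsgLib.Fusion.conjBy_conjBy_inv g U, h]
      exact Subgroup.map_bot _
    · right
      rw [← CfsgLib.Fusion.conjBy_conjBy_inv g U, h]
  · rw [CfsgLib.Fusion.card_conjBy]
    exact hE.two

theorem indep (hP : Piece V E₀ P) (hQ : Piece V E₀ Q)
    (hQW : Q ≤ normalizer ((⁅V, P⁆ : Subgroup G) : Set G))
    (hPW : P ≤ normalizer ((⁅V, Q⁆ : Subgroup G) : Set G))
    (h1 : ¬ ⁅V, Q⁆ ≤ ⁅V, P⁆) : Indep V P Q := by
  have hbot : ⁅V, P⁆ ⊓ ⁅V, Q⁆ = ⊥ :=
    (hQ.irr _ inf_le_right (CfsgLib.Coprime.inf_le_normalizer hQW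
      (X.le_normalizer_module hQ.le))).resolve_right fun h => h1 (inf_eq_right.1 h)
  have a : Q ≤ centralizer ((⁅V, P⁆ : Subgroup G) : Set G) :=
    le_centralizer_iff.1 (commutator_eq_bot_iff_le_centralizer.1 (le_bot_iff.1 (hbot ▸
      le_inf (comm_le_of_le_normalizer hQW) (commutator_mono (X.le_V hP.le) le_rfl))))
  have b : P ≤ centralizer ((⁅V, Q⁆ : Subgroup G) : Set G) :=
    le_centralizer_iff.1 (commutator_eq_bot_iff_le_centralizer.1 (le_bot_iff.1 (hbot ▸
      le_inf (commutator_mono (X.le_V hQ.le) le_rfl) (comm_le_of_le_normalizer hPW))))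
  refine ⟨hbot, a, b, fun y hy => mem_centralizer_iff.2 fun x hx => ?_⟩
  have key : ∀ v ∈ V, (x * y) * v * (x * y)⁻¹ = (y * x) * v * (y * x)⁻¹ := by
    intro v hv
    set α := x * v * x⁻¹ * v⁻¹ with hα
    set β := y * v * y⁻¹ * v⁻¹ with hβ
    have hαP : α ∈ ⁅V, P⁆ := by
      rw [hα, show x * v * x⁻¹ * v⁻¹ = (v * x * v⁻¹ * x⁻¹)⁻¹ by group]
      exact inv_mem (commutator_mem_commutator hv hx)
    have hβQ : β ∈ ⁅V, Q⁆ := by
      rw [hβ, show y * v * y⁻¹ * v⁻¹ = (v * y * v⁻¹ * y⁻¹)⁻¹ by group]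
      exact inv_mem (commutator_mem_commutator hv hy)
    have ex : x * β * x⁻¹ = β := by
      rw [← mem_centralizer_iff.1 (b hx) β hβQ, mul_inv_cancel_right]
    have ey : y * α * y⁻¹ = α := by
      rw [← mem_centralizer_iff.1 (a hy) α hαP, mul_inv_cancel_right]
    calc x * y * v * (x * y)⁻¹ = (x * β * x⁻¹) * (α * v) := by rw [hα, hβ]; group
      _ = β * α * v := by rw [ex, ← mul_assoc]
      _ = α * β * v := by rw [X.comm (X.le_V hQ.le hβQ) (X.le_V hP.le hαP)]
      _ = (y * α * y⁻¹) * (β * v) := by rw [ey]; exact mul_assoc _ _ _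
      _ = y * x * v * (y * x)⁻¹ := by rw [hα, hβ]; group
  have hmem : (y * x)⁻¹ * (x * y) ∈ E₀ :=
    mul_mem (inv_mem (mul_mem (hQ.le hy) (hP.le hx))) (mul_mem (hP.le hx) (hQ.le hy))
  have := mem_bot.1 (X.faith.le ⟨hmem, mem_centralizer_iff.2 fun v hv => by
      rw [eq_comm, ← mul_inv_eq_iff_eq_mul]
      calc (y * x)⁻¹ * (x * y) * v * ((y * x)⁻¹ * (x * y))⁻¹
          = (y * x)⁻¹ * (x * y * v * (x * y)⁻¹) * (y * x) := by group
        _ = v := by rw [key v hv]; group⟩)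
  exact (inv_mul_eq_one.1 this).symm

end SubCtx

end CfsgLib.FFPair
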