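import Cfsg.Agent.Lib.Fusion.FFPair.Subnormal

/-!
# Each irreducible module of a pair of subnormal pieces is invariant under the other piece
-/

set_option autoImplicit false
set_option linter.style.haveILetI false
set_option linter.unusedSectionVars false

open Subgroup
open scoped commutatorElement

namespace CfsgLib.FFPair

open CfsgLib.Fusion (conjBy conjBy_conjBy conjBy_eq_iff conjBy_le_iff conj_mem_conjBy)

universe u

variable {G : Type u} [Group G] [Finite G] {p : ℕ} [Fact p.Prime] {V E₀ E P Q T : Subgroup G}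

/-- The product `d · d^c ⋯`. -/
def orbitProd (c d : G) : ℕ → G
  | 0 => 1
  | n + 1 => orbitProd c d n * (c ^ n * d * (c ^ n)⁻¹)

theorem orbitProd_mem {S : Subgroup G} {c d : G} (h : ∀ i : ℕ, c ^ i * d * (c ^ i)⁻¹ ∈ S) :
    ∀ n, orbitProd c d n ∈ S
  | 0 => one_mem S
  | n + 1 => mul_mem (orbitProd_mem h n) (h n)

theorem conj_orbitProd (c d : G) : ∀ n : ℕ, d * (c * orbitProd c d n * c⁻¹) = orbitProd c d (n + 1)
  | 0 => by simp [orbitProd]
  | n + 1 => by
    conv_rhs => rw [orbitProd, ← conj_orbitProd c d n]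
    rw [orbitProd, pow_succ' c n]
    group

namespace SubCtx

variable (X : SubCtx p V E₀)
include X

theorem family_contradiction (hP : Piece V E₀ P) (hQ : Piece V E₀ Q)
    (hWQ : ¬ ⁅V, P⁆ ≤ ⁅V, Q⁆)
    (hdich : ∀ x ∈ Q, ∀ y ∈ Q, conjBy x ⁅V, P⁆ = conjBy y ⁅V, P⁆ ∨
      Indep V (conjBy x P) (conjBy y P))
    (hnot : ¬ Q ≤ normalizer ((⁅V, P⁆ : Subgroup G) : Set G)) : False := by
  have hp : p.Prime := Fact.out
  set W := ⁅V, P⁆ with hWdef
  set Wq := ⁅V, Q⁆ with hWqdef
  have hWV : W ≤ V := X.le_V hP.le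
  have hQV : Q ≤ normalizer (V : Set G) := hQ.le.trans X.hEV
  have hPc : ∀ x : G, x ∈ Q → Piece V E₀ (conjBy x P) ∧ ⁅V, conjBy x P⁆ = conjBy x W :=
    fun x hx => X.conj_piece hP (hQ.le hx)
  have hWxV : ∀ x ∈ Q, conjBy x W ≤ V := fun x hx =>
    (CfsgLib.Fusion.conjBy_mono hWV).trans (conjBy_eq_iff.2 (hQV hx)).le
  have hfix : ∀ x ∈ Q, ∀ y ∈ Q, conjBy x W ≠ conjBy y W →
      conjBy x P ≤ centralizer (conjBy y W : Set G) ∧
        conjBy y P ≤ centralizer (conjBy x P : Set G) := fun x hx y hy h => by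
    have I := (hdich x hx y hy).resolve_left h
    exact ⟨(hPc y hy).2 ▸ I.left_fix, I.commute⟩
  -- the other members
  set others : G → Subgroup G := fun x =>
    ⨆ y : {y : G // y ∈ Q ∧ conjBy y W ≠ conjBy x W}, conjBy (y : G) W with hothers
  have hmem_others : ∀ {x y u : G}, y ∈ Q → conjBy y W ≠ conjBy x W → u ∈ conjBy y W →
      u ∈ others x := fun {x y u} hy hne hu =>
    le_iSup (fun y : {y : G // y ∈ Q ∧ conjBy y W ≠ conjBy x W} => conjBy (y : G) W)
      ⟨y, hy, hne⟩ hu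
  have key : ∀ x ∈ Q, ∀ u ∈ conjBy x W, u ∈ others x → u = 1 := by
    intro x hx u hu hu'
    refine mem_bot.1 ((X.fixed_bot (hPc x hx).1).le ⟨(hPc x hx).2 ▸ hu, ?_⟩)
    exact (iSup_le fun y => le_centralizer_iff.1
      (hfix x hx y y.2.1 y.2.2.symm).1 : others x ≤ centralizer (conjBy x P : Set G)) hu'
  -- the span
  set U : Subgroup G := ⨆ y : Q, conjBy (y : G) W with hU
  have hUV : U ≤ V := iSup_le fun y => hWxV y y.2
  have hWU : ∀ x ∈ Q, conjBy x W ≤ U := fun x hx =>
    le_iSup (fun y : Q => conjBy (y : G) W) ⟨x, hx⟩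
  have hUsplit : ∀ x ∈ Q, U ≤ conjBy x W ⊔ others x := fun x hx => iSup_le fun y => by
    by_cases h : conjBy (y : G) W = conjBy x W
    · exact h.le.trans le_sup_left
    · exact le_trans (fun u hu => hmem_others y.2 h hu) le_sup_right
  have hQU : Q ≤ normalizer (U : Set G) := fun x hx => by
    refine conjBy_eq_iff.1 (CfsgLib.Fusion.conjBy_eq_of_le ?_)
    rw [hU, CfsgLib.Fusion.conjBy, Subgroup.map_iSup]
    refine iSup_le fun y => ?_
    rw [show (conjBy (y : G) W).map (MulAut.conj x).toMonoidHom = conjBy (x * y) W from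
      conjBy_conjBy x y W]
    exact hWU _ (mul_mem hx y.2)
  -- the module of `Q` lies in the span
  obtain ⟨e, he, heW⟩ := SetLike.not_le_iff_exists.1 hnot
  have heW' : conjBy e W ≠ W := fun h => heW (conjBy_eq_iff.1 h)
  have hW1 : conjBy 1 W = W := CfsgLib.Fusion.conjBy_one W
  have hd : ∀ v ∈ W, ∀ x ∈ Q, v * (x * v⁻¹ * x⁻¹) ∈ Wq := fun v hv x hx => by
    rw [show v * (x * v⁻¹ * x⁻¹) = v * x * v⁻¹ * x⁻¹ by group]
    exact commutator_mem_commutator (hWV hv) hx
  have hWqU : Wq ≤ U := by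
    obtain ⟨⟨v, hv⟩, hv1⟩ := ne_bot_iff_exists_ne_one.1 (X.module_ne_bot hP)
    refine inf_eq_left.1 ((hQ.irr _ inf_le_left (CfsgLib.Coprime.inf_le_normalizer
      (X.le_normalizer_module hQ.le) hQU)).resolve_left fun hbot => ?_)
    have hd1 : v * (e * v⁻¹ * e⁻¹) = 1 := mem_bot.1 (hbot.le ⟨hd v hv e he, mul_mem
      (hWU 1 (one_mem _) (hW1.symm ▸ hv))
      (hWU e he (conj_mem_conjBy (inv_mem hv)))⟩)
    refine hv1 (Subtype.ext (key 1 (one_mem _) v (hW1.symm ▸ hv) (hmem_others he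
      (by rwa [hW1]) ?_)))
    rw [mul_eq_one_iff_eq_inv] at hd1
    rw [hd1]
    exact inv_mem (conj_mem_conjBy (inv_mem hv))
  -- `Q` is faithful on the members
  have faithful : ∀ t ∈ Q, (∀ x ∈ Q, conjBy t (conjBy x W) = conjBy x W) → t = 1 := by
    let T : Subgroup G :=
      { carrier := {t | t ∈ Q ∧ ∀ x ∈ Q, conjBy t (conjBy x W) = conjBy x W}
        one_mem' := ⟨one_mem _, fun x _ => CfsgLib.Fusion.conjBy_one _⟩
        mul_mem' := fun {a b} ha hb => ⟨mul_mem ha.1 hb.1, fun x hx => by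
          rw [← conjBy_conjBy, hb.2 x hx, ha.2 x hx]⟩
        inv_mem' := fun {a} ha => ⟨inv_mem ha.1, fun x hx => by
          conv_lhs => rw [← ha.2 x hx]
          exact CfsgLib.Fusion.conjBy_inv_conjBy _ _⟩ }
    have hTQ : T ≤ Q := fun t ht => ht.1
    have hQT : Q ≤ normalizer (T : Set G) := fun y hy => by
      refine conjBy_eq_iff.1 (CfsgLib.Fusion.conjBy_eq_of_le (conjBy_le_iff.2 fun t ht =>
        ⟨mul_mem (mul_mem hy ht.1) (inv_mem hy), fun x hx => ?_⟩))
      have hyx : conjBy x W = conjBy y (conjBy (y⁻¹ * x) W) := by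
        rw [conjBy_conjBy, mul_inv_cancel_left]
      rw [← conjBy_conjBy, ← conjBy_conjBy, conjBy_conjBy y⁻¹ x,
        ht.2 _ (mul_mem (inv_mem hy) hx), ← hyx]
    suffices h : T = ⊥ from fun t ht hh => mem_bot.1 (h.le ⟨ht, hh⟩)
    refine X.eq_bot_of_stab hQ hTQ hQT ?_
    have hY : ⁅U, T⁆ ≤ Wq := commutator_mono hUV hTQ
    have hYn : Q ≤ normalizer ((⁅U, T⁆ : Subgroup G) : Set G) := fun y hy =>
      normalizer_commutator_mem (hQU hy) (hQT hy)
    rcases hQ.irr _ hY hYn with h | h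
    · exact le_bot_iff.1 ((commutator_mono ((commutator_mono le_rfl hTQ).trans hWqU)
        le_rfl).trans h.le)
    · refine absurd ?_ hWQ
      have hTW : T ≤ normalizer (W : Set G) := fun t ht => by
        have := ht.2 1 (one_mem _)
        rw [hW1] at this
        exact conjBy_eq_iff.1 this
      have hTo : ∀ t ∈ T, ∀ x ∈ Q, t ∈ normalizer (conjBy x W : Set G) := fun t ht x hx =>
        conjBy_eq_iff.1 (ht.2 x hx)
      have hYsplit : ∀ u ∈ U, u ∈ V ∧ ∀ t ∈ T, u * t * u⁻¹ * t⁻¹ ∈ ⁅W, T⁆ ⊔ others 1 := by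
        intro u hu
        induction hu using Subgroup.iSup_induction' with
        | hp y u hu =>
          refine ⟨hWxV y y.2 hu, fun t ht => ?_⟩
          by_cases hy : conjBy (y : G) W = conjBy 1 W
          · rw [hy, hW1] at hu
            exact mem_sup_left (commutator_mem_commutator hu ht)
          · refine mem_sup_right (hmem_others y.2 hy ?_)
            rw [show u * t * u⁻¹ * t⁻¹ = u * (t * u⁻¹ * t⁻¹) by group]
            exact mul_mem hu ((mem_normalizer_iff.1 (hTo t ht y y.2) _).1 (inv_mem hu))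
        | h1 => exact ⟨one_mem _, fun t _ => by simp⟩
        | hmul a b _ _ ha hb =>
          refine ⟨mul_mem ha.1 hb.1, fun t ht => ?_⟩
          have hta : t * a⁻¹ * t⁻¹ ∈ V :=
            (mem_normalizer_iff.1 (hQV ht.1) _).1 (inv_mem ha.1)
          have htb : b * t * b⁻¹ * t⁻¹ ∈ V := X.le_V hQ.le (commutator_mem_commutator hb.1 ht.1)
          have e2 : a * b * t * (a * b)⁻¹ * t⁻¹ =
              (a * t * a⁻¹ * t⁻¹) * (b * t * b⁻¹ * t⁻¹) := by
            calc a * b * t * (a * b)⁻¹ * t⁻¹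
                = a * ((b * t * b⁻¹ * t⁻¹) * (t * a⁻¹ * t⁻¹)) := by group
              _ = a * ((t * a⁻¹ * t⁻¹) * (b * t * b⁻¹ * t⁻¹)) := by rw [X.comm htb hta]
              _ = _ := by group
          rw [e2]
          exact mul_mem (ha.2 t ht) (hb.2 t ht)
      have hYle : ⁅U, T⁆ ≤ ⁅W, T⁆ ⊔ others 1 :=
        commutator_le.2 fun u hu t ht => (hYsplit u hu).2 t ht
      have hWTW : ⁅W, T⁆ ≤ W := comm_le_of_le_normalizer hTW
      intro v hv
      by_contra hvn
      have hn : others 1 ≤ normalizer ((⁅W, T⁆ : Subgroup G) : Set G) := fun o ho =>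
        centralizer_le_normalizer _ (mem_centralizer_iff.2 fun s hs =>
          X.comm (hWV (hWTW hs)) ((iSup_le fun y => hWxV y y.2.1 : others 1 ≤ V) ho))
      obtain ⟨a, ha, o, ho, hao⟩ :=
        CfsgLib.Coprime.mem_sup_exists hn (hYle (h.ge (hd v hv e he)))
      refine hvn ?_
      have h1 : a⁻¹ * v ∈ others 1 := by
        rw [show a⁻¹ * v = o * (e * v⁻¹ * e⁻¹)⁻¹ by
          rw [eq_mul_inv_iff_mul_eq, mul_assoc, ← hao, inv_mul_cancel_left]]
        exact mul_mem ho (inv_mem (hmem_others he (by rwa [hW1]) (conj_mem_conjBy (inv_mem hv))))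
      have := key 1 (one_mem _) (a⁻¹ * v) (hW1.symm ▸ mul_mem (inv_mem (hWTW ha)) hv) h1
      rw [inv_mul_eq_one] at this
      exact this ▸ commutator_mono hWV hTQ ha
  -- the product of the conjugates of `P` fixes every member
  set Np : Subgroup G := ⨆ y : Q, conjBy (y : G) P with hNp
  have hQNp : ∀ t ∈ Q, ∀ z ∈ Np, t * z * t⁻¹ ∈ Np := by
    intro t ht
    refine conjBy_le_iff.1 ?_
    rw [hNp, CfsgLib.Fusion.conjBy, Subgroup.map_iSup]
    refine iSup_le fun y => ?_
    rw [show (conjBy (y : G) P).map (MulAut.conj t).toMonoidHom = conjBy (t * y) P from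
      conjBy_conjBy t y P]
    exact le_iSup (fun y : Q => conjBy (y : G) P) ⟨t * y, mul_mem ht y.2⟩
  have hNfix : ∀ t ∈ Q, t ∈ Np → t = 1 := by
    intro t ht htN
    refine faithful t ht fun x hx => conjBy_eq_iff.2 ?_
    refine (iSup_le fun y => ?_ : Np ≤ normalizer (conjBy x W : Set G)) htN
    by_cases h : conjBy (y : G) W = conjBy x W
    · rw [← h, ← (hPc y y.2).2]
      exact X.le_normalizer_module (hPc y y.2).1.le
    · exact (hfix y y.2 x hx h).1.trans (centralizer_le_normalizer _)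
  -- a prime divisor of `|P|`
  obtain ⟨q, hq, hqP⟩ := Nat.exists_prime_and_dvd (show Nat.card P ≠ 1 by have := hP.two; omega)
  haveI : Fact q.Prime := ⟨hq⟩
  obtain ⟨⟨z, hzP⟩, hz⟩ := exists_prime_orderOf_dvd_card' (G := P) q hqP
  rw [Subgroup.orderOf_mk] at hz
  have hzq : z ^ q = 1 := hz ▸ pow_orderOf_eq_one z
  have hz1 : z ≠ 1 := fun h => hq.one_lt.ne (by rw [← hz, h, orderOf_one])
  have hmove : ∀ g : G, g ∈ E₀ → g ≠ 1 → ∃ v ∈ V, v * g * v⁻¹ * g⁻¹ ≠ 1 := by
    intro g hg hg1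
    by_contra hcon
    push Not at hcon
    refine hg1 (mem_bot.1 (X.faith.le ⟨hg, mem_centralizer_iff.2 fun v hv => ?_⟩))
    have := hcon v hv
    rw [mul_inv_eq_one, mul_inv_eq_iff_eq_mul] at this
    exact this
  -- every prime order element of `Q` has order `q`
  have hQq : IsPGroup q Q := by
    refine IsPGroup.iff_card.2 ⟨_, Nat.eq_prime_pow_of_unique_prime_dvd Nat.card_pos.ne' ?_⟩
    intro r hr hrQ
    haveI : Fact r.Prime := ⟨hr⟩
    by_contra hrq
    obtain ⟨⟨g, hgQ⟩, hgo⟩ := exists_prime_orderOf_dvd_card' (G := Q) r hrQ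
    rw [Subgroup.orderOf_mk] at hgo
    have hg1 : g ≠ 1 := fun h => hr.one_lt.ne (by rw [← hgo, h, orderOf_one])
    obtain ⟨x, hx, hgx⟩ : ∃ x ∈ Q, conjBy g (conjBy x W) ≠ conjBy x W := by
      by_contra hcon
      push Not at hcon
      exact hg1 (faithful g hgQ hcon)
    set z' := x * z * x⁻¹ with hz'
    have hz'P : z' ∈ conjBy x P := conj_mem_conjBy hzP
    have hz'q : z' ^ q = 1 := by rw [hz', conj_pow, hzq, mul_one, mul_inv_cancel]
    set S : Set G := Set.range fun i : ℕ => g ^ i * z' * (g ^ i)⁻¹ with hS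
    have hcard : Nat.card (zpowers g) = r := by rw [Nat.card_zpowers, hgo]
    have hcommS : ∀ a ∈ S, ∀ b ∈ S, a * b = b * a := by
      rintro _ ⟨i, rfl⟩ _ ⟨j, rfl⟩
      by_cases hij : g ^ i = g ^ j
      · simp only [hij]
      have hne : conjBy (g ^ i * x) W ≠ conjBy (g ^ j * x) W := by
        intro heq
        apply hgx
        rw [conjBy_eq_iff]
        have hm : (g ^ j)⁻¹ * g ^ i ∈ normalizer (conjBy x W : Set G) := by
          rw [← conjBy_eq_iff, ← conjBy_conjBy, conjBy_conjBy (g ^ i) x, heq, conjBy_conjBy,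
            inv_mul_cancel_left]
        have hm1 : (g ^ j)⁻¹ * g ^ i ≠ 1 := fun h => hij (inv_mul_eq_one.1 h).symm
        have := eq_zpowers_of_card hcard
          (mul_mem (inv_mem (pow_mem (mem_zpowers g) j)) (pow_mem (mem_zpowers g) i)) hm1
        exact (zpowers_le.2 hm) (this ▸ mem_zpowers g)
      have h := (hfix _ (mul_mem (pow_mem hgQ i) hx) _ (mul_mem (pow_mem hgQ j) hx) hne).2
      have ha : g ^ i * z' * (g ^ i)⁻¹ ∈ conjBy (g ^ i * x) P := by
        rw [← conjBy_conjBy]; exact conj_mem_conjBy hz'P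
      have hb : g ^ j * z' * (g ^ j)⁻¹ ∈ conjBy (g ^ j * x) P := by
        rw [← conjBy_conjBy]; exact conj_mem_conjBy hz'P
      exact mem_centralizer_iff.1 (h hb) _ ha
    set Z := closure S with hZ
    haveI hZc : IsMulCommutative Z := Subgroup.isMulCommutative_closure hcommS
    have hZexp : ∀ a ∈ Z, a ^ q = 1 := by
      intro a ha
      induction ha using closure_induction with
      | mem a ha => obtain ⟨i, rfl⟩ := ha; rw [conj_pow, hz'q, mul_one, mul_inv_cancel]
      | one => exact one_pow q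
      | mul a b ha hb iha ihb =>
        rw [(show Commute a b from congrArg Subtype.val
          (hZc.is_comm.comm (⟨a, ha⟩ : Z) ⟨b, hb⟩)).mul_pow, iha, ihb, one_mul]
      | inv a _ iha => rw [inv_pow, iha, inv_one]
    have hgZ : zpowers g ≤ normalizer (Z : Set G) := by
      refine zpowers_le.2 (conjBy_eq_iff.1 (CfsgLib.Fusion.conjBy_eq_of_le ?_))
      rw [hZ, CfsgLib.Fusion.conjBy, MonoidHom.map_closure]
      refine closure_mono ?_
      rintro _ ⟨_, ⟨i, rfl⟩, rfl⟩
      refine ⟨i + 1, ?_⟩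
      simp only [MulEquiv.coe_toMonoidHom, MulAut.conj_apply, pow_succ' g]
      group
    have hcop : (Nat.card (zpowers g)).Coprime (Nat.card Z) := by
      obtain ⟨n, hn⟩ := IsPGroup.iff_card.1 (show IsPGroup q Z from
        fun a => ⟨1, Subtype.ext (by simpa using hZexp a a.2)⟩)
      rw [hcard, hn]
      exact Nat.Coprime.pow_right _ ((Nat.coprime_primes hr hq).2 hrq)
    have hgood := CfsgLib.Coprime.commutator_commutator_eq hgZ hcop
      (Or.inr (CfsgLib.Coprime.isSolvable_of_isMulCommutative hZc))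
    have hxN : conjBy x P ≤ Np := le_iSup (fun y : Q => conjBy (y : G) P) ⟨x, hx⟩
    have hZN : Z ≤ Np := (closure_le _).2 (by
      rintro _ ⟨i, rfl⟩
      exact hQNp _ (pow_mem hgQ i) _ (hxN hz'P))
    have hZE : Z ≤ E₀ := (closure_le _).2 (by
      rintro _ ⟨i, rfl⟩
      exact mul_mem (mul_mem (hQ.le (pow_mem hgQ i)) ((hPc x hx).1.le hz'P))
        (inv_mem (hQ.le (pow_mem hgQ i))))
    have hdown : ∀ H : Subgroup E₀, H.IsSubnormal → ⟨g, hQ.le hgQ⟩ ∈ H →
        ⁅Z, zpowers g⁆ ≤ H.map E₀.subtype := by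
      intro H hH
      induction hH with
      | top =>
        intro _
        rw [← MonoidHom.range_eq_map, range_subtype]
        exact commutator_le.2 fun a ha b hb => by
          rw [commutatorElement_def]
          exact mul_mem (mul_mem (mul_mem (hZE ha) (zpowers_le.2 (hQ.le hgQ) hb))
            (inv_mem (hZE ha))) (inv_mem (zpowers_le.2 (hQ.le hgQ) hb))
      | step H K hle _ hN ih =>
        intro hgH
        rw [← hgood]
        rw [normal_subgroupOf_iff_le_normalizer hle] at hN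
        refine (commutator_mono (ih (hle hgH))
          (zpowers_le.2 (show g ∈ H.map E₀.subtype from ⟨_, hgH, rfl⟩))).trans ?_
        rw [commutator_comm]
        exact comm_le_of_le_normalizer ((map_mono hN).trans (le_normalizer_map _))
    have hbot : ⁅Z, zpowers g⁆ = ⊥ := by
      refine eq_bot_iff.2 fun t ht => mem_bot.2 (hNfix t ?_ ?_)
      · have := hdown _ hQ.sn hgQ ht
        rwa [map_subgroupOf_eq_of_le hQ.le] at this
      · refine (commutator_le.2 fun a ha b hb => ?_ : ⁅Z, zpowers g⁆ ≤ Np) ht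
        rw [commutatorElement_def, show a * b * a⁻¹ * b⁻¹ = a * (b * a⁻¹ * b⁻¹) by group]
        exact mul_mem (hZN ha) (hQNp _ (zpowers_le.2 hgQ hb) _ (inv_mem (hZN ha)))
    have hgz : g * z' * g⁻¹ = z' := by
      have hz'Z : z' ∈ Z := subset_closure ⟨0, by simp⟩
      have := (le_centralizer_iff.1 (commutator_eq_bot_iff_le_centralizer.1 hbot)) (mem_zpowers g)
      rw [← mem_centralizer_iff.1 this z' hz'Z, mul_inv_cancel_right]
    obtain ⟨v, hv, hv1⟩ := hmove z' ((hPc x hx).1.le hz'P) (fun h => hz1 (by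
      rwa [hz', mul_inv_eq_one, mul_eq_left] at h))
    set w := v * z' * v⁻¹ * z'⁻¹ with hw
    have hwW : w ∈ conjBy x W := (hPc x hx).2 ▸ commutator_mem_commutator hv hz'P
    have hw' : g * w * g⁻¹ ∈ conjBy x W := by
      rw [← (hPc x hx).2, hw, show g * (v * z' * v⁻¹ * z'⁻¹) * g⁻¹ =
        (g * v * g⁻¹) * (g * z' * g⁻¹) * (g * v * g⁻¹)⁻¹ * (g * z' * g⁻¹)⁻¹ by group, hgz]
      exact commutator_mem_commutator ((mem_normalizer_iff.1 (hQV hgQ) v).1 hv) hz'P
    refine hv1 (conj_eq_one_iff.1 (key x hx _ hw' (hmem_others (mul_mem hgQ hx)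
      (by rwa [← conjBy_conjBy]) ?_)))
    rw [← conjBy_conjBy]
    exact conj_mem_conjBy hwW
  have hqp : q ≠ p := fun h => X.piece_ne_bot hQ (by
    subst h
    have hle := CfsgLib.Coprime.le_pCore_of_isSubnormal (p := q) hQ.sn
      (hQq.of_equiv (subgroupOfEquivOfLe hQ.le).symm)
    rw [X.hOp, le_bot_iff, subgroupOf_eq_bot] at hle
    exact disjoint_self.1 (hle.mono_right hQ.le))
  -- a central element of order `q`
  haveI : Nontrivial Q := Finite.one_lt_card_iff_nontrivial.1 (by have := hQ.two; omega)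
  haveI := hQq.center_nontrivial
  obtain ⟨n, hn⟩ := IsPGroup.iff_card.1 (hQq.to_subgroup (Subgroup.center Q))
  have hn0 : n ≠ 0 := fun h => by
    have := Finite.one_lt_card (α := Subgroup.center Q)
    rw [hn, h, pow_zero] at this
    omega
  obtain ⟨⟨⟨c, hcQ⟩, hcz⟩, hc⟩ :=
    exists_prime_orderOf_dvd_card' (G := Subgroup.center Q) q (hn ▸ dvd_pow_self q hn0)
  rw [Subgroup.orderOf_mk, Subgroup.orderOf_mk] at hc
  have hcc : ∀ y ∈ Q, y * c = c * y := fun y hy =>
    congrArg Subtype.val (Subgroup.mem_center_iff.1 hcz ⟨y, hy⟩)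
  have hc1 : c ≠ 1 := fun h => hq.one_lt.ne (by rw [← hc, h, orderOf_one])
  have hcq : c ^ q = 1 := hc ▸ pow_orderOf_eq_one c
  have hfixall : ∀ t ∈ Q, conjBy t W = W → (∀ y ∈ Q, t * y = y * t) → t = 1 :=
    fun t ht h hcomm => faithful t ht fun x hx => by
      rw [conjBy_conjBy, hcomm x hx, ← conjBy_conjBy, h]
  have hdistinct : ∀ i k : ℕ, conjBy (c ^ i) W = conjBy (c ^ k) W → c ^ i = c ^ k := fun i k h => by
    have hc' : (c ^ k)⁻¹ * c ^ i = 1 := hfixall _
      (mul_mem (inv_mem (pow_mem hcQ k)) (pow_mem hcQ i))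
      (by rw [← conjBy_conjBy, h, CfsgLib.Fusion.conjBy_inv_conjBy]) fun y hy =>
        (Commute.mul_left (Commute.pow_left (show Commute c y from (hcc y hy).symm) k).inv_left
          (Commute.pow_left (show Commute c y from (hcc y hy).symm) i)).eq
    exact (inv_mul_eq_one.1 hc').symm
  have hci : ∀ i : ℕ, i < q → c ^ i = 1 → i = 0 := fun i hi h => by
    have := orderOf_dvd_of_pow_eq_one h
    rw [hc] at this
    exact Nat.eq_zero_of_dvd_of_lt this hi
  have hcfix : Wq ⊓ centralizer ({c} : Set G) = ⊥ := by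
    refine (hQ.irr _ inf_le_left (CfsgLib.Coprime.inf_le_normalizer
      (X.le_normalizer_module hQ.le) fun y hy => le_normalizer ?_)).resolve_right fun h => hc1 ?_
    · exact mem_centralizer_singleton_iff.2 (hcc y hy)
    have hb := X.eq_bot_of_stab hQ (T := zpowers c) (zpowers_le.2 hcQ) (fun y hy => ?_) ?_
    · exact mem_bot.1 (hb.le (mem_zpowers c))
    · refine conjBy_eq_iff.1 ?_
      rw [CfsgLib.Fusion.conjBy, MonoidHom.map_zpowers, MulEquiv.coe_toMonoidHom,
        MulAut.conj_apply, hcc y hy, mul_inv_cancel_right]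
    · refine le_bot_iff.1 ((commutator_mono (commutator_mono le_rfl (zpowers_le.2 hcQ))
        le_rfl).trans (le_of_eq ?_))
      rw [commutator_eq_bot_iff_le_centralizer, zpowers_eq_closure, centralizer_closure]
      exact inf_eq_left.1 h
  -- the orbit of `c` is everything
  have horbit : ∀ y ∈ Q, ∃ i : ℕ, conjBy y W = conjBy (c ^ i) W := by
    intro y hy
    by_contra hcon
    push Not at hcon
    obtain ⟨⟨v, hv⟩, hv1⟩ := ne_bot_iff_exists_ne_one.1 (X.module_ne_bot hP)
    set d := v * (y * v⁻¹ * y⁻¹) with hdd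
    have hdW : d ∈ Wq := hd v hv y hy
    have hgW : ∀ i : ℕ, c ^ i * d * (c ^ i)⁻¹ ∈ Wq := fun i =>
      (mem_normalizer_iff.1 (X.le_normalizer_module hQ.le (pow_mem hcQ i)) d).1 hdW
    have hprod : ∀ i, orbitProd c d i ∈ Wq := orbitProd_mem hgW
    have hfixd : orbitProd c d q = 1 := by
      refine mem_bot.1 (hcfix.le ⟨hprod q, mem_centralizer_singleton_iff.2 ?_⟩)
      have h1 : orbitProd c d (q + 1) = d * orbitProd c d q := by
        rw [orbitProd, hcq, one_mul, inv_one, mul_one,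
          X.comm (X.le_V hQ.le (hprod q)) (X.le_V hQ.le hdW)]
      rw [← conj_orbitProd] at h1
      have := mul_left_cancel h1
      rw [mul_inv_eq_iff_eq_mul] at this
      exact this.symm
    have ho : ∀ m : ℕ, m < q → v⁻¹ * orbitProd c d (m + 1) ∈ others 1 := by
      intro m
      induction m with
      | zero =>
        intro _
        rw [orbitProd, orbitProd, pow_zero, one_mul, one_mul, inv_one, mul_one, hdd,
          inv_mul_cancel_left]
        refine hmem_others hy ?_ (conj_mem_conjBy (inv_mem hv))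
        rw [hW1]
        have := hcon 0
        rwa [pow_zero, hW1] at this
      | succ m ihm =>
        intro hm
        rw [orbitProd, ← mul_assoc]
        refine mul_mem (ihm (by omega)) ?_
        rw [hdd, ← conj_mul]
        refine mul_mem (hmem_others (pow_mem hcQ _) ?_ (conj_mem_conjBy hv)) (hmem_others
          (y := c ^ (m + 1) * y) (mul_mem (pow_mem hcQ _) hy) ?_ ?_)
        · intro h
          rw [← pow_zero c] at h
          exact absurd (hci _ hm ((hdistinct _ _ h).trans (pow_zero c))) (Nat.succ_ne_zero m)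
        · intro h
          refine hcon (q - (m + 1)) ?_
          have h' := congrArg (conjBy (c ^ (q - (m + 1)))) h
          rw [conjBy_conjBy, ← mul_assoc, ← pow_add, Nat.sub_add_cancel hm.le, hcq, one_mul,
            hW1] at h'
          exact h'
        · rw [← conjBy_conjBy]
          exact conj_mem_conjBy (conj_mem_conjBy (inv_mem hv))
    have hlast := ho (q - 1) (by have := hq.pos; omega)
    rw [Nat.sub_add_cancel hq.pos, hfixd, mul_one] at hlast
    exact hv1 (Subtype.ext (key 1 (one_mem _) v (hW1.symm ▸ hv)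
      (by simpa using inv_mem hlast)))
  have hQc : Q = zpowers c := by
    refine le_antisymm (fun y hy => ?_) (zpowers_le.2 hcQ)
    obtain ⟨i, hi⟩ := horbit y hy
    have h1 : (c ^ i)⁻¹ * y = 1 := by
      refine faithful _ (mul_mem (inv_mem (pow_mem hcQ i)) hy) fun x hx => ?_
      obtain ⟨j, hj⟩ := horbit x hx
      have hcomm : (c ^ i)⁻¹ * y * c ^ j = c ^ j * ((c ^ i)⁻¹ * y) :=
        (Commute.mul_left ((Commute.pow_pow_self c i j).inv_left)
          (Commute.pow_right (show Commute y c from hcc y hy) j)).eq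
      rw [hj, conjBy_conjBy, hcomm, ← conjBy_conjBy, ← conjBy_conjBy (c ^ i)⁻¹, hi,
        CfsgLib.Fusion.conjBy_inv_conjBy]
    rw [← inv_mul_eq_one.1 h1]
    exact pow_mem (mem_zpowers c) i
  have hq2 : 2 < q := by
    have := hQ.two
    rwa [hQc, Nat.card_zpowers, hc] at this
  -- the diagonal element
  have hzC : ∀ i : ℕ, c ^ i * z * (c ^ i)⁻¹ ∈ conjBy (c ^ i) P := fun i => conj_mem_conjBy hzP
  set S : Set G := Set.range fun i : ℕ => c ^ i * z * (c ^ i)⁻¹ with hS
  have hcommS : ∀ a ∈ S, ∀ b ∈ S, a * b = b * a := by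
    rintro _ ⟨i, rfl⟩ _ ⟨j, rfl⟩
    by_cases hij : conjBy (c ^ i) W = conjBy (c ^ j) W
    · simp only [hdistinct i j hij]
    · exact mem_centralizer_iff.1 ((hfix _ (pow_mem hcQ i) _ (pow_mem hcQ j) hij).2 (hzC j)) _ (hzC i)
  haveI hSc : IsMulCommutative (closure S) := Subgroup.isMulCommutative_closure hcommS
  have hSexp : ∀ a ∈ closure S, a ^ q = 1 := by
    intro a ha
    induction ha using closure_induction with
    | mem a ha => obtain ⟨i, rfl⟩ := ha; rw [conj_pow, hzq, mul_one, mul_inv_cancel]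
    | one => exact one_pow q
    | mul a b ha hb iha ihb =>
      rw [(show Commute a b from congrArg Subtype.val
        (hSc.is_comm.comm (⟨a, ha⟩ : closure S) ⟨b, hb⟩)).mul_pow, iha, ihb, one_mul]
    | inv a _ iha => rw [inv_pow, iha, inv_one]
  set ξ := orbitProd c z q with hξ
  have hξS : ∀ i, orbitProd c z i ∈ closure S := orbitProd_mem fun i => subset_closure ⟨i, rfl⟩
  have hξq : ξ ^ q = 1 := hSexp ξ (hξS q)
  have hξc : c * ξ * c⁻¹ = ξ := by
    have h1 : orbitProd c z (q + 1) = z * ξ := by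
      rw [orbitProd, hcq, one_mul, inv_one, mul_one]
      exact congrArg Subtype.val (hSc.is_comm.comm (⟨_, hξS q⟩ : closure S)
        ⟨z, subset_closure ⟨0, by simp⟩⟩)
    rw [← conj_orbitProd] at h1
    exact mul_left_cancel h1
  have hξN : ξ ∈ Np := orbitProd_mem (fun i => le_iSup (fun y : Q => conjBy (y : G) P)
    ⟨c ^ i, pow_mem hcQ i⟩ (hzC i)) q
  have hξz : ∀ m : ℕ, m < q → z⁻¹ * orbitProd c z (m + 1) ∈ centralizer (W : Set G) := by
    intro m
    induction m with
    | zero => intro _; simp [orbitProd]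
    | succ m ihm =>
      intro hm
      rw [orbitProd, ← mul_assoc]
      refine mul_mem (ihm (by omega)) ?_
      have hne : conjBy (c ^ (m + 1)) W ≠ conjBy 1 W := fun h => by
        rw [← pow_zero c] at h
        exact absurd (hci _ hm ((hdistinct _ _ h).trans (pow_zero c))) (Nat.succ_ne_zero m)
      have := (hfix _ (pow_mem hcQ _) 1 (one_mem _) hne).1 (hzC (m + 1))
      rwa [hW1] at this
  have hξW : z⁻¹ * ξ ∈ centralizer (W : Set G) := by
    have := hξz (q - 1) (by omega)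
    rwa [Nat.sub_add_cancel hq.pos] at this
  have hξfix : ∀ x ∈ Q, ξ ∈ normalizer (conjBy x W : Set G) := fun x hx =>
    (iSup_le fun y => by
      by_cases h : conjBy (y : G) W = conjBy x W
      · rw [← h, ← (hPc y y.2).2]
        exact X.le_normalizer_module (hPc y y.2).1.le
      · exact (hfix y y.2 x hx h).1.trans (centralizer_le_normalizer _) :
      Np ≤ normalizer (conjBy x W : Set G)) hξN
  have hξWq : ξ ∈ normalizer (Wq : Set G) := by
    have hWq : Wq = ⁅U, zpowers c⁆ := by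
      rcases hQ.irr _ (commutator_mono hUV (zpowers_le.2 hcQ)) (fun y hy => normalizer_commutator_mem
        (hQU hy) (hQc ▸ le_normalizer hy)) with h | h
      · exfalso
        obtain ⟨⟨v, hv⟩, hv1⟩ := ne_bot_iff_exists_ne_one.1 (X.module_ne_bot hP)
        have hd1 : v * c * v⁻¹ * c⁻¹ = 1 := mem_bot.1 (h.le
          (commutator_mem_commutator (hWU 1 (one_mem _) (hW1.symm ▸ hv)) (mem_zpowers c)))
        rw [mul_inv_eq_one, mul_inv_eq_iff_eq_mul] at hd1
        refine hv1 (Subtype.ext (key 1 (one_mem _) v (hW1.symm ▸ hv)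
          (hmem_others hcQ ?_ ?_)))
        · intro hh
          rw [← pow_one c, ← pow_zero c] at hh
          exact hc1 (by simpa using hdistinct 1 0 hh)
        · rw [show v = c * v * c⁻¹ by rw [← hd1, mul_inv_cancel_right]]
          exact conj_mem_conjBy hv
      · exact h.symm
    rw [hWq]
    refine normalizer_commutator_mem ?_ ?_
    · refine conjBy_eq_iff.1 (CfsgLib.Fusion.conjBy_eq_of_le ?_)
      rw [hU, CfsgLib.Fusion.conjBy, Subgroup.map_iSup]
      exact iSup_le fun y => (conjBy_eq_iff.2 (hξfix y y.2)).le.trans (hWU _ y.2)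
    · refine centralizer_le_normalizer _ ?_
      rw [zpowers_eq_closure, centralizer_closure, mem_centralizer_singleton_iff]
      exact (mul_inv_eq_iff_eq_mul.1 hξc).symm
  -- the abelian group of order `q²`
  have hξcomm : Commute ξ c := (mul_inv_eq_iff_eq_mul.1 hξc).symm
  set A : Subgroup G := zpowers ξ ⊔ zpowers c with hA
  have hξA : zpowers c ≤ normalizer (zpowers ξ : Set G) := zpowers_le.2
    (centralizer_le_normalizer _ (by
      rw [zpowers_eq_closure, centralizer_closure, mem_centralizer_singleton_iff]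
      exact hξcomm.symm.eq))
  haveI hAc : IsMulCommutative A := by
    rw [hA, zpowers_eq_closure, zpowers_eq_closure, ← Subgroup.closure_union]
    refine Subgroup.isMulCommutative_closure ?_
    rintro a (rfl | rfl) b (rfl | rfl) <;> first | rfl | exact hξcomm.eq | exact hξcomm.symm.eq
  have hAexp : ∀ a ∈ A, a ^ q = 1 := by
    intro a ha
    obtain ⟨a₁, ha₁, a₂, ha₂, rfl⟩ := CfsgLib.Coprime.mem_sup_exists hξA ha
    obtain ⟨i, rfl⟩ := mem_zpowers_iff.1 ha₁
    obtain ⟨j, rfl⟩ := mem_zpowers_iff.1 ha₂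
    rw [(hξcomm.zpow_zpow i j).mul_pow, ← zpow_natCast, ← zpow_mul, mul_comm, zpow_mul,
      zpow_natCast, hξq, one_zpow, one_mul, ← zpow_natCast, ← zpow_mul, mul_comm, zpow_mul,
      zpow_natCast, hcq, one_zpow]
  have hξnc : ξ ∉ zpowers c := fun hh => by
    have h1 := hNfix ξ (zpowers_le.2 hcQ hh) hξN
    rw [h1, mul_one] at hξW
    obtain ⟨v, hv, hv1⟩ := hmove z (hP.le hzP) hz1
    have hWm : v * z * v⁻¹ * z⁻¹ ∈ W := commutator_mem_commutator hv hzP
    exact hz1 (X.eq_one_of_fix hP.le hzP hzq hqp (inv_inv z ▸ inv_mem hξW))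
  have hnc : ¬ IsCyclic A := fun hcyc => by
    obtain ⟨⟨g, hg⟩, hgen⟩ := hcyc.exists_generator
    have hgq : orderOf g ∣ q := orderOf_dvd_of_pow_eq_one (hAexp g hg)
    have hAg : A ≤ zpowers g := fun a ha => by
      obtain ⟨n, hn⟩ := hgen ⟨a, ha⟩
      exact ⟨n, congrArg Subtype.val hn⟩
    have hle : Nat.card (zpowers g) ≤ Nat.card (zpowers c) := by
      rw [Nat.card_zpowers, Nat.card_zpowers, hc]
      exact Nat.le_of_dvd hq.pos hgq
    exact hξnc ((eq_of_le_of_card_ge ((le_sup_right : zpowers c ≤ A).trans hAg) hle).ge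
      (hAg (mem_sup_left (mem_zpowers ξ))))
  have hAWq : A ≤ normalizer (Wq : Set G) :=
    sup_le (zpowers_le.2 hξWq) (zpowers_le.2 (X.le_normalizer_module hQ.le hcQ))
  have hcop : (Nat.card A).Coprime (Nat.card Wq) := by
    obtain ⟨a, ha⟩ := IsPGroup.iff_card.1 (show IsPGroup q A from
      fun a => ⟨1, Subtype.ext (by simpa using hAexp a a.2)⟩)
    obtain ⟨b, hb⟩ := IsPGroup.iff_card.1
      ((isPGroup_of_ea X.hV).to_le (X.le_V hQ.le : Wq ≤ V))
    rw [ha, hb]
    exact Nat.Coprime.pow _ _ ((Nat.coprime_primes hq hp).2 hqp)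
  obtain ⟨a, haA, ha1, hane⟩ : ∃ a ∈ A, a ≠ 1 ∧ Wq ⊓ centralizer ({a} : Set G) ≠ ⊥ := by
    by_contra hcon
    push Not at hcon
    exact X.module_ne_bot hQ (le_bot_iff.1 (CfsgLib.Coprime.le_of_centralizers_le hnc hAWq hcop
      fun a ha ha1 => (hcon a ha ha1).le))
  have haWq : Wq ≤ centralizer ({a} : Set G) := by
    refine inf_eq_left.1 ((hQ.irr _ inf_le_left (CfsgLib.Coprime.inf_le_normalizer
      (X.le_normalizer_module hQ.le) fun y hy => le_normalizer ?_)).resolve_left hane)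
    rw [hQc] at hy
    rw [mem_centralizer_singleton_iff]
    exact congrArg Subtype.val (hAc.is_comm.comm (⟨y, mem_sup_right hy⟩ : A) ⟨a, haA⟩)
  obtain ⟨a₁, ha₁, a₂, ha₂, rfl⟩ := CfsgLib.Coprime.mem_sup_exists hξA haA
  have hξfin : IsOfFinOrder ξ := isOfFinOrder_of_finite _
  have hcfin : IsOfFinOrder c := isOfFinOrder_of_finite _
  obtain ⟨i, rfl⟩ := hξfin.mem_powers_iff_mem_zpowers.2 ha₁
  obtain ⟨j, rfl⟩ := hcfin.mem_powers_iff_mem_zpowers.2 ha₂
  beta_reduce at ha1 haWq
  -- the action of `a` on `v (c v⁻¹ c⁻¹)`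
  set a := ξ ^ i * c ^ j with ha
  have hact : ∀ k : ℕ, ∀ u ∈ conjBy (c ^ k) W, a * u * a⁻¹ ∈ conjBy (c ^ (j + k)) W := by
    intro k u hu
    have h1 : c ^ j * u * (c ^ j)⁻¹ ∈ conjBy (c ^ (j + k)) W := by
      rw [pow_add, ← conjBy_conjBy]
      exact conj_mem_conjBy hu
    rw [ha, show ξ ^ i * c ^ j * u * (ξ ^ i * c ^ j)⁻¹ =
      ξ ^ i * (c ^ j * u * (c ^ j)⁻¹) * (ξ ^ i)⁻¹ by group]
    exact (mem_normalizer_iff.1 (pow_mem (hξfix _ (pow_mem hcQ _)) i) _).1 h1
  have hrel : ∀ v ∈ W, (a * v * a⁻¹) * (a * (c * v⁻¹ * c⁻¹) * a⁻¹) = v * (c * v⁻¹ * c⁻¹) := by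
    intro v hv
    rw [conj_mul]
    refine mul_inv_eq_iff_eq_mul.2 ?_
    exact (mem_centralizer_singleton_iff.1 (haWq (hd v hv c hcQ))).symm
  have hne : ∀ {k l : ℕ}, c ^ k ≠ c ^ l → conjBy (c ^ k) W ≠ conjBy (c ^ l) W :=
    fun h hh => h (hdistinct _ _ hh)
  by_cases hj : c ^ j = 1
  · -- `a` fixes every member
    have haW : ∀ v ∈ W, a * v * a⁻¹ = v := by
      intro v hv
      have h1 : a * v * a⁻¹ ∈ W := by
        have := hact 0 v (by rw [pow_zero, hW1]; exact hv)
        rwa [add_zero, hj, hW1] at this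
      have h2 : a * (c * v⁻¹ * c⁻¹) * a⁻¹ ∈ conjBy c W := by
        have := hact 1 _ (by rw [pow_one]; exact conj_mem_conjBy (inv_mem hv))
        rwa [pow_add, hj, one_mul, pow_one] at this
      have hcW : conjBy c W ≠ conjBy 1 W := by
        have := hne (k := 1) (l := 0) (by simpa using hc1)
        rwa [pow_one, pow_zero] at this
      have h3 : v⁻¹ * (a * v * a⁻¹) ∈ others 1 := by
        rw [show v⁻¹ * (a * v * a⁻¹) = (c * v⁻¹ * c⁻¹) * (a * (c * v⁻¹ * c⁻¹) * a⁻¹)⁻¹ by
          rw [eq_mul_inv_iff_mul_eq, mul_assoc, hrel v hv, inv_mul_cancel_left]]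
        exact mul_mem (hmem_others hcQ hcW (conj_mem_conjBy (inv_mem hv)))
          (inv_mem (hmem_others hcQ hcW h2))
      have := key 1 (one_mem _) _ (hW1.symm ▸ mul_mem (inv_mem hv) h1) h3
      exact (inv_mul_eq_one.1 this).symm
    have hzi : z ^ i ∈ centralizer (W : Set G) := by
      have hzWn : z ∈ normalizer (centralizer (W : Set G) : Set G) :=
        CfsgLib.Coprime.normalizer_le_normalizer_centralizer _ (X.le_normalizer_module hP.le hzP)
      have hpow : ∀ m : ℕ, (z ^ m)⁻¹ * ξ ^ m ∈ centralizer (W : Set G) := by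
        intro m
        induction m with
        | zero => simp
        | succ m ihm =>
          rw [show (z ^ (m + 1))⁻¹ * ξ ^ (m + 1) =
            (z⁻¹ * ((z ^ m)⁻¹ * ξ ^ m) * z⁻¹⁻¹) * (z⁻¹ * ξ) by rw [pow_succ, pow_succ]; group]
          exact mul_mem ((mem_normalizer_iff.1 (inv_mem hzWn) _).1 ihm) hξW
      have haC : ξ ^ i ∈ centralizer (W : Set G) := by
        rw [show ξ ^ i = a by rw [ha, hj, mul_one]]
        exact mem_centralizer_iff.2 fun v hv => (mul_inv_eq_iff_eq_mul.1 (haW v hv)).symm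
      have := mul_mem haC (inv_mem (hpow i))
      rwa [_root_.mul_inv_rev, inv_inv, mul_inv_cancel_left] at this
    have hzi1 := X.eq_one_of_fix hP.le (pow_mem hzP i)
      (by rw [← pow_mul, mul_comm, pow_mul, hzq, one_pow]) hqp hzi
    have hqi := orderOf_dvd_of_pow_eq_one hzi1
    rw [hz] at hqi
    obtain ⟨m, rfl⟩ := hqi
    exact ha1 (by rw [ha, pow_mul, hξq, one_pow, one_mul, hj])
  · -- `a` moves the first member
    obtain ⟨⟨v, hv⟩, hv1⟩ := ne_bot_iff_exists_ne_one.1 (X.module_ne_bot hP)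
    set α := a * v * a⁻¹ with hα
    set β := a * (c * v⁻¹ * c⁻¹) * a⁻¹ with hβ
    set u := c * v⁻¹ * c⁻¹ with hu
    have hαW : α ∈ conjBy (c ^ j) W := by
      have := hact 0 v (by rw [pow_zero, hW1]; exact hv)
      rwa [add_zero] at this
    have hβW : β ∈ conjBy (c ^ (j + 1)) W := hact 1 u (by rw [pow_one]; exact conj_mem_conjBy (inv_mem hv))
    have hvW : v ∈ conjBy (c ^ 0) W := by rw [pow_zero, hW1]; exact hv
    have huW : u ∈ conjBy (c ^ 1) W := by rw [pow_one]; exact conj_mem_conjBy (inv_mem hv)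
    have hr : α * β = v * u := hrel v hv
    have hmem : ∀ {k l : ℕ} {w : G}, c ^ k ≠ c ^ l → w ∈ conjBy (c ^ k) W → w ∈ others (c ^ l) :=
      fun h hw => hmem_others (pow_mem hcQ _) (hne h) hw
    have hj1 : c ^ (j + 1) ≠ c ^ j := fun h => hc1 (by
      rw [pow_succ] at h
      exact mul_eq_left.1 h)
    by_cases hjc : c ^ j = c ^ 1
    · have hj2 : c ^ (j + 1) = c ^ 2 := by rw [pow_succ, hjc, ← pow_succ]
      have h21 : c ^ 1 ≠ c ^ 2 := fun h => hj1 (by rw [hj2, hjc, h])
      have h20 : c ^ 0 ≠ c ^ 2 := fun h => by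
        rw [pow_zero] at h
        exact absurd (hci 2 hq2 h.symm) two_ne_zero
      rw [hj2] at hβW
      rw [hjc] at hαW
      have hb : β ∈ others (c ^ 2) := by
        rw [show β = α⁻¹ * (v * u) by rw [← hr, inv_mul_cancel_left]]
        exact mul_mem (inv_mem (hmem h21 hαW)) (mul_mem (hmem h20 hvW) (hmem h21 huW))
      have := key _ (pow_mem hcQ _) β hβW hb
      rw [hβ, hu] at this
      exact hv1 (Subtype.ext (inv_eq_one.1 (conj_eq_one_iff.1 (conj_eq_one_iff.1 this))))
    · have h0 : c ^ 0 ≠ c ^ j := fun h => hj (h.symm.trans (pow_zero c))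
      have hb : α ∈ others (c ^ j) := by
        rw [show α = v * u * β⁻¹ by rw [← hr, mul_inv_cancel_right]]
        exact mul_mem (mul_mem (hmem h0 hvW) (hmem (Ne.symm hjc) huW)) (inv_mem (hmem hj1 hβW))
      have := key _ (pow_mem hcQ _) α hαW hb
      rw [hα] at this
      exact hv1 (Subtype.ext (conj_eq_one_iff.1 this))

theorem invariant {n : ℕ} : ∀ P Q : Subgroup G, Piece V E₀ P → Piece V E₀ Q →
    Nat.card (P ⊔ Q : Subgroup G) = n → ¬ ⁅V, P⁆ ≤ ⁅V, Q⁆ → ¬ ⁅V, Q⁆ ≤ ⁅V, P⁆ →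
    Q ≤ normalizer ((⁅V, P⁆ : Subgroup G) : Set G) := by
  induction n using Nat.strong_induction_on with
  | _ n ih =>
  intro P Q hP hQ hn h12 h21
  subst hn
  by_contra hnot
  set M := P ⊔ Q with hM
  have hPM : P ≠ M := fun h => h21 (commutator_mono le_rfl (h ▸ le_sup_right))
  have hME : M ≤ E₀ := sup_le hP.le hQ.le
  have hsn : (P.subgroupOf M).IsSubnormal := by
    have h := hP.sn.comap (Subgroup.inclusion hME)
    exact h
  obtain ⟨N, hN, hPN, hNlt⟩ := hsn.exists_normal_and_le_and_lt_top_of_ne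
    (fun h => hPM (le_antisymm le_sup_left (subgroupOf_eq_top.1 h)))
  set N' := N.map M.subtype with hN'
  have hN'lt : Nat.card N' < Nat.card M := by
    rw [hN', card_map_of_injective M.subtype_injective]
    exact lt_of_le_of_ne (card_le_card_group N) fun h => hNlt.ne (eq_top_of_card_eq N h)
  have hconjN : ∀ x ∈ Q, conjBy x P ≤ N' := fun x hx => conjBy_le_iff.2 fun y hy => by
    have hxM : x ∈ M := mem_sup_right hx
    refine ⟨⟨x, hxM⟩ * ⟨y, mem_sup_left hy⟩ * ⟨x, hxM⟩⁻¹, hN.conj_mem _ (hPN ?_) _, rfl⟩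
    exact hy
  refine X.family_contradiction hP hQ h12 (fun x hx y hy => ?_) hnot
  obtain ⟨hPx, hWx⟩ := X.conj_piece hP (hQ.le hx)
  obtain ⟨hPy, hWy⟩ := X.conj_piece hP (hQ.le hy)
  refine or_iff_not_imp_left.2 fun hne => ?_
  have hcard : Nat.card (conjBy x P ⊔ conjBy y P : Subgroup G) < Nat.card M :=
    lt_of_le_of_lt (card_le_of_le (sup_le (hconjN x hx) (hconjN y hy))) hN'lt
  have hle1 : ¬ ⁅V, conjBy x P⁆ ≤ ⁅V, conjBy y P⁆ := by
    rw [hWx, hWy]
    exact fun h => hne (eq_of_le_of_card_ge h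
      (by rw [CfsgLib.Fusion.card_conjBy, CfsgLib.Fusion.card_conjBy]))
  have hle2 : ¬ ⁅V, conjBy y P⁆ ≤ ⁅V, conjBy x P⁆ := by
    rw [hWx, hWy]
    exact fun h => hne (eq_of_le_of_card_ge h
      (by rw [CfsgLib.Fusion.card_conjBy, CfsgLib.Fusion.card_conjBy])).symm
  exact X.indep hPx hPy (ih _ hcard _ _ hPx hPy rfl hle1 hle2)
    (ih _ (by rwa [sup_comm]) _ _ hPy hPx rfl hle2 hle1) hle2

end SubCtx

end CfsgLib.FFPair
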